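import Cfsg.Agent.SuzLocal.Facts

/-!
S1725 from the isomorphism type.
-/

set_option autoImplicit false
open Cfsg

namespace Cfsg.Agent.SuzLocal

/-- S1725, given that the group is isomorphic to the Suzuki group. -/
theorem s1725_of_iso {G : Type*} [Group G] [Finite G] (z : G) (hz : orderOf z = 2) (Q : Subgroup (Subgroup.centralizer ({z} : Set G))) [Q.Normal] (hF : Cfsg.generalizedFittingSubgroup (Subgroup.centralizer ({z} : Set G)) = Q) (hQ : Cfsg.IsExtraspecial 2 Q) (hcard : Nat.card Q = 2 ^ 7) (e : (Subgroup.centralizer ({z} : Set G)) ⧸ Q ≃* Cfsg.Omega (ZMod 2) (Cfsg.quadFormMinus 2 (ZMod 2) 1 1)) (hnwc : ∃ g : G, (∃ hq : g * z * g⁻¹ ∈ Subgroup.centralizer ({z} : Set G), (⟨g * z * g⁻¹, hq⟩ : Subgroup.centralizer ({z} : Set G)) ∈ Q) ∧ g * z * g⁻¹ ≠ z) (X : Subgroup (Subgroup.centralizer ({z} : Set G))) (hX : Nat.card X = 3) (hQX : Nat.card ↥⁅Q, X⁆ = 8) (hQXna : ¬ IsMulCommutative ↥⁅Q, X⁆) (hiso : Cfsg.Spor.IsoSuz G) (P : Sylow 3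 ↥(Subgroup.normalizer ((X.map (Subgroup.subtype (Subgroup.centralizer ({z} : Set G))) : Subgroup G) : Set G))) : ¬ 3 ∣ (((P : Subgroup ↥(Subgroup.normalizer ((X.map (Subgroup.subtype (Subgroup.centralizer ({z} : Set G))) : Subgroup G) : Set G))).map (Subgroup.subtype (Subgroup.normalizer ((X.map (Subgroup.subtype (Subgroup.centralizer ({z} : Set G))) : Subgroup G) : Set G)))).index) ∧ ∃ A : Subgroup G, A ≤ (P : Subgroup ↥(Subgroup.normalizer ((X.map (Subgroup.subtype (Subgroup.centralizer ({z} : Set G))) : Subgroup G) : Set G))).map (Subgroup.subtype (Subgroup.normalizer ((X.map (Subgroup.subtype (Subgroup.centralizer ({z} : Set G))) : Subgroup G) : Set G))) ∧ Cfsg.IsElementaryAbelian 3 A ∧ Nat.card A = 3 ^ 5 ∧ Subgroup.centralizer (A : Set G) = A ∧ ∃ _ : (A.subgroupOf (Subgroup.normalizer (A : Set G))).Normal, Cfsg.Spor.IsoM11 (↥(Subgroup.normalizer (A : Set G)) ⧸ A.subgroupOf (Subgroup.normalizer (A : Set G))) := by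
  obtain ⟨S, y, h, hXy⟩ := SuzThree.of_suz_type z hz Q hF hQ hcard e hnwc X hX hQX hQXna
  have hy : orderOf y = 3 := by
    rw [← Nat.card_zpowers, ← hXy,
      ← Nat.card_congr (X.equivMapOfInjective _ (Subgroup.subtype_injective _)).toEquiv, hX]
  have h7 : 7 ∣ Nat.card (Subgroup.centralizer ({y} : Set G)) := by
    obtain ⟨T⟩ := SuzThree.exists_u43 h
    refine dvd_trans ?_ (Subgroup.card_quotient_dvd_card (SuzThree.Yn y))
    rw [show Nat.card (↥(SuzThree.Cy y) ⧸ SuzThree.Yn y) = 3265920 from T.card_group]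
    norm_num
  revert P
  rw [hXy]
  exact fun P => suz_three_local hiso hy h7 P

end Cfsg.Agent.SuzLocal
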