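import Cfsg.Agent.SuzLocal.Defs
import Cfsg.Agent.SuzOut.Codes
import Cfsg.Agent.SuzOut.Base
import Cfsg.Agent.LeechModel.Words
import Cfsg.Agent.OutTab.CriterionTwo
import Cfsg.Agent.CosetCert.M11Ab720.Defs

/-!
Checks for the subgroup of order 243.
-/

set_option autoImplicit false
set_option maxRecDepth 100000
set_option maxHeartbeats 0

namespace Cfsg.Agent.SuzLocal

open Cfsg.Agent.Compute Cfsg.Agent.StemCert Cfsg.Agent.OutTab Cfsg.Agent.LeechModel

theorem words_ok : wordsB 1782 11 SuzOut.Data.k SuzOut.Data.codes Data.letters Data.codes Data.k = true := by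
  decide +kernel

theorem levels_ok : wfB Data.levels = true ∧ gensBelow Data.k Data.levels = true ∧
    numForms Data.levels = 448345497600 ∧ (∀ b ∈ Data.base, b < 1782) ∧ Data.k = 26 ∧
    Data.letters.getD 0 [] = [1] := by
  refine ⟨?_, ?_, ?_, ?_, ?_, ?_⟩ <;> decide +kernel

theorem distinct_ok : distinctB 11 Data.codes Data.levels Data.base = true :=
  distinctB_cons_of_pos (P := Data.pos0) (by decide +kernel)
    (distinctB_cons_of_pos (P := Data.pos1) (by decide +kernel)
      (distinctB_cons_of_pos (P := Data.pos2) (by decide +kernel)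
        (distinctB_cons_of_pos (P := Data.pos3) (by decide +kernel)
          (distinctB_cons_of_pos (P := Data.pos4) (by decide +kernel) rfl))))

theorem iv_ok : ivB 11 Data.k Data.codes Data.base Data.ivs = true := by decide +kernel

theorem mask_ok : maskB 11 Data.codes Data.levels Data.base Data.masks = true := by decide +kernel

theorem abelian_ok : (∀ i : Fin 5, ∀ j : Fin 5,
      eqOn 11 Data.codes Data.base [i.val, j.val] [j.val, i.val] = true) ∧
    (∀ i : Fin 5, eqOn 11 Data.codes Data.base [i.val, i.val, i.val] [] = true) ∧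
    allBelow 243 (fun j => Nat.beq j 0 || !(eqOn 11 Data.codes Data.base (aWord j) [])) = true := by
  refine ⟨?_, ?_, ?_⟩ <;> decide +kernel

theorem cover_ok : allBelow 1782 coverB = true := by decide +kernel

theorem stab_ok : allBelow 5346 stabB = true := by decide +kernel

theorem lines_ok : (∀ k : Fin 11, Data.linePts.getD k.val 0 < 1782 ∧ Data.lineC.getD k.val 0 ≠ 0 ∧
      Data.lineC.getD k.val 0 < 243 ∧
      appW 11 Data.codes (aWord (Data.lineC.getD k.val 0)) (Data.linePts.getD k.val 0) =
        Data.linePts.getD k.val 0) ∧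
    (∀ k : Fin 5, Data.lineC.getD k.val 0 = 3 ^ k.val) ∧
    (∀ k k' : Fin 11, ∀ s s' : Fin 2, lineS k.val s.val = lineS k'.val s'.val → k = k' ∧ s = s') := by
  refine ⟨?_, ?_, ?_⟩ <;> decide +kernel

theorem lin_ok : ∀ q : Fin 16, ∀ m : Fin 11, ∀ s : Fin 2, linB q.val m.val s.val = true := by
  decide +kernel

theorem points_ok : Data.base = target 1 (Data.base.getD 0 0) (Data.base.getD 2 0) ∧
    fixListB 1782 11 Data.codes 0 Data.fx0 = true ∧ fixListB 1782 11 Data.codes 1 Data.fx1 = true ∧
    appW 11 Data.codes [0] (Data.base.getD 0 0) = Data.base.getD 0 0 ∧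
    appW 11 Data.codes [1] (Data.base.getD 2 0) = Data.base.getD 2 0 ∧
    Data.fx0.length = 162 ∧ Data.fx1.length = 162 ∧ allBelow 162 redB = true := by
  refine ⟨?_, ?_, ?_, ?_, ?_, ?_, ?_, ?_⟩ <;> decide +kernel

theorem cand_ok : allBelow 648 candB = true := by decide +kernel

theorem normal_ok : (∀ g : Fin 2, ∀ i : Fin 5,
      eqOn 11 Data.codes Data.base [5 + g.val, i.val]
        (aWord (Data.conjC.getD (5 * g.val + i.val) 0) ++ [5 + g.val]) = true) ∧
    allBelow 243 (fun j => !(eqOn 11 Data.codes Data.base [5] (aWord j))) = true ∧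
    (List.range CosetCert.M11Ab720.relWords.length).all (fun r =>
      Nat.blt (Data.relC.getD r 0) 243 && eqOn 11 Data.codes Data.base
        (relWord (CosetCert.M11Ab720.relWords.getD r [])) (aWord (Data.relC.getD r 0))) = true := by
  refine ⟨?_, ?_, ?_⟩ <;> decide +kernel

end Cfsg.Agent.SuzLocal
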