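import Cfsg.Agent.StemCert.Defs

/-! Orbits, candidates and the action on the lines. -/

set_option autoImplicit false
set_option maxRecDepth 100000
set_option maxHeartbeats 0
set_option linter.all false

namespace Cfsg.Agent.SuzLocal.Data

open Cfsg.Agent.StemCert

/-- Data. -/
def lineC : List ℕ := [1,3,9,27,81,226,71,239,139,201,95]

/-- Data. -/
def linePts : List ℕ := [9,3,8,2,5,16,10,25,19,0,1]

/-- Data. -/
def reps : List ℕ := [0,1,2,3,4,5,8,9,10,11,12,16,19,22,24,25,26,30,36,42,50,60]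

/-- Data. -/
noncomputable def cover_0 : Arr (ℕ) := (.node 243 (.node 729 (.node 15 (.node 2039 (.node 2495 (.node 1459 (.node 2500 (.node 2674 (.node 4656 (.node 3326 .nil .nil) (.node 757 .nil .nil)) (.node 4386 (.node 3661 .nil .nil) .nil)) (.node 2364 (.node 1676 (.node 2455 .nil .nil) (.node 1063 .nil .nil)) (.node 3255 (.node 3940 .nil .nil) .nil))) (.node 5105 (.node 2935 (.node 1965 (.node 1060 .nil .nil) (.node 4180 .nil .nil)) (.node 1462 (.node 2442 .nil .nil) .nil)) (.node 901 (.node 668 (.node 2680 .nil .nil) (.node 496 .nil .nil)) (.node 5275 (.node 3464 .nil .nil) .nil)))) (.node 992 (.node 570 (.node 3650 (.node 3599 (.node 3259 .nil .nil) (.node 2501 .nil .nil)) (.node 74 (.node 53 .nil .nil) .nil)) (.node 4438 (.node 1652 (.node 251 .nil .nil) (.node 4674 .nil .nil)) (.node 671 (.node 3683 .nil .nil) .nil))) (.node 3173 (.node 489 (.node 3537 (.node 278 .nil .nil) (.node 2750 .nil .nil)) (.node 2735 (.node 4640 .nil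 .nil) .nil)) (.node 4389 (.node 5211 (.node 4183 .nil .nil) (.node 3912 .nil .nil)) (.node 3656 (.node 568 .nil .nil) .nil))))) (.node 819 (.node 651 (.node 4375 (.node 3921 (.node 1152 (.node 2122 .nil .nil) (.node 3254 .nil .nil)) (.node 312 (.node 4637 .nil .nil) .nil)) (.node 3487 (.node 1547 (.node 4410 .nil .nil) (.node 3324 .nil .nil)) (.node 21 (.node 4673 .nil .nil) .nil))) (.node 991 (.node 2280 (.node 1145 (.node 6 .nil .nil) (.node 3435 .nil .nil)) (.node 3260 (.node 1066 .nil .nil) .nil)) (.node 283 (.node 2486 (.node 27 .nil .nil) (.node 5202 .nil .nil)) (.node 3457 (.node 2713 .nil .nil) .nil)))) (.node 3460 (.node 4450 (.node 3179 (.node 3705 (.node 3544 .nil .nil) (.node 504 .nil .nil)) (.node 2986 (.node 288 .nil .nil) .nil)) (.node 1070 (.node 4624 (.node 1072 .nil .nil) (.node 3624 .nil .nil)) (.node 2117 (.node 4881 .nil .nil) .nil))) (.node 2463 (.node 1651 (.node 19 (.node 3890 .nil .nil) (.node 4620 .nil .nil))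 (.node 2337 (.node 1595 .nil .nil) .nil)) (.node 3161 (.node 2331 (.node 2742 .nil .nil) (.node 4865 .nil .nil)) (.node 4884 (.node 3246 .nil .nil) .nil)))))) (.node 955 (.node 65 (.node 5141 (.node 4869 (.node 267 (.node 1776 (.node 4184 .nil .nil) (.node 1218 .nil .nil)) (.node 2685 (.node 4392 .nil .nil) .nil)) (.node 2736 (.node 2438 (.node 864 .nil .nil) (.node 3164 .nil .nil)) (.node 4929 (.node 2478 .nil .nil) .nil))) (.node 305 (.node 674 (.node 1949 (.node 4399 .nil .nil) (.node 4147 .nil .nil)) (.node 2992 (.node 2449 .nil .nil) .nil)) (.node 2489 (.node 2921 (.node 1055 .nil .nil) (.node 1245 .nil .nil)) (.node 2119 (.node 2675 .nil .nil) .nil)))) (.node 2938 (.node 3687 (.node 1955 (.node 3966 (.node 3667 .nil .nil) (.node 315 .nil .nil)) (.node 60 (.node 1256 .nil .nil) .nil)) (.node 3592 (.node 5247 (.node 4681 .nil .nil) (.node 3723 .nil .nil)) (.node 2041 (.node 4170 .nil .nil) .nil))) (.node 891 (.node 2962 (.node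 1719 (.node 1704 .nil .nil) (.node 38 .nil .nil)) (.node 1746 (.node 256 .nil .nil) .nil)) (.node 2970 (.node 3175 (.node 4662 .nil .nil) (.node 4179 .nil .nil)) (.node 2689 (.node 3409 .nil .nil) .nil))))) (.node 4188 (.node 588 (.node 3949 (.node 4694 (.node 1220 (.node 2723 .nil .nil) (.node 4151 .nil .nil)) (.node 2268 (.node 5203 .nil .nil) .nil)) (.node 2421 (.node 3518 (.node 2993 .nil .nil) (.node 1917 .nil .nil)) (.node 5139 (.node 2963 .nil .nil) .nil))) (.node 3241 (.node 5213 (.node 4895 (.node 4877 .nil .nil) (.node 2482 .nil .nil)) (.node 292 (.node 5301 .nil .nil) .nil)) (.node 39 (.node 302 (.node 3920 .nil .nil) (.node 997 .nil .nil)) (.node 1600 (.node 5276 .nil .nil) .nil)))) (.node 1058 (.node 2983 (.node 3700 (.node 10 (.node 2319 .nil .nil) (.node 2415 .nil .nil)) (.node 301 (.node 3338 .nil .nil) .nil)) (.node 2504 (.node 3944 (.node 5168 .nil .nil) (.node 2454 .nil .nil)) (.node 4652 (.node 3674 .nil .nil) .nil)))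 (.node 1514 (.node 4395 (.node 1489 (.node 4913 .nil .nil) (.node 1513 .nil .nil)) (.node 4384 (.node 576 .nil .nil) .nil)) (.node 264 (.node 653 (.node 657 .nil .nil) .nil) (.node 666 (.node 1773 .nil .nil) .nil))))))) (.node 2187 (.node 2916 (.node 1969 (.node 4198 (.node 1764 (.node 4441 (.node 1465 (.node 2934 .nil .nil) (.node 892 .nil .nil)) (.node 79 (.node 5294 .nil .nil) .nil)) (.node 3337 (.node 4934 (.node 4152 .nil .nil) (.node 2507 .nil .nil)) (.node 2948 (.node 3675 .nil .nil) .nil))) (.node 740 (.node 3716 (.node 1866 (.node 580 .nil .nil) (.node 2435 .nil .nil)) (.node 4412 (.node 1946 .nil .nil) .nil)) (.node 1 (.node 3511 (.node 1280 .nil .nil) (.node 1767 .nil .nil)) (.node 4202 (.node 4448 .nil .nil) .nil)))) (.node 2927 (.node 2509 (.node 828 (.node 1263 (.node 4153 .nil .nil) (.node 2211 .nil .nil)) (.node 55 (.node 2412 .nil .nil) .nil)) (.node 4154 (.node 2931 (.node 2679 .nil .nil) (.node 2710 .nil .nil)) (.node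 2953 (.node 4646 .nil .nil) .nil))) (.node 900 (.node 1219 (.node 3597 (.node 1731 .nil .nil) (.node 2491 .nil .nil)) (.node 4435 (.node 3671 .nil .nil) .nil)) (.node 1571 (.node 2343 (.node 661 .nil .nil) (.node 766 .nil .nil)) (.node 990 (.node 3403 .nil .nil) .nil))))) (.node 4937 (.node 587 (.node 4194 (.node 2456 (.node 2743 (.node 3345 .nil .nil) (.node 2247 .nil .nil)) (.node 1710 (.node 3515 .nil .nil) .nil)) (.node 246 (.node 2443 (.node 4428 .nil .nil) (.node 2976 .nil .nil)) (.node 2738 (.node 1142 .nil .nil) .nil))) (.node 248 (.node 3332 (.node 2277 (.node 296 .nil .nil) (.node 3899 .nil .nil)) (.node 3715 (.node 1836 .nil .nil) .nil)) (.node 2202 (.node 1490 (.node 3894 .nil .nil) (.node 4885 .nil .nil)) (.node 4199 (.node 3488 .nil .nil) .nil)))) (.node 4910 (.node 16 (.node 1230 (.node 3333 (.node 1153 .nil .nil) (.node 4667 .nil .nil)) (.node 4201 (.node 2474 .nil .nil) .nil)) (.node 4660 (.node 2376 (.node 3651 .nil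 .nil) (.node 4882 .nil .nil)) (.node 255 (.node 2958 .nil .nil) .nil))) (.node 2990 (.node 3689 (.node 1938 (.node 5121 .nil .nil) (.node 4632 .nil .nil)) (.node 2498 (.node 3908 .nil .nil) .nil)) (.node 947 (.node 4893 (.node 3167 .nil .nil) (.node 1725 .nil .nil)) (.node 2732 (.node 4379 .nil .nil) .nil)))))) (.node 3938 (.node 1722 (.node 1144 (.node 5186 (.node 3490 (.node 1077 (.node 3328 .nil .nil) (.node 3704 .nil .nil)) (.node 247 (.node 4659 .nil .nil) .nil)) (.node 3673 (.node 275 (.node 2025 .nil .nil) (.node 1062 .nil .nil)) (.node 4688 (.node 4874 .nil .nil) .nil))) (.node 4914 (.node 936 (.node 2484 (.node 29 .nil .nil) (.node 3594 .nil .nil)) (.node 2991 (.node 4200 .nil .nil) .nil)) (.node 26 (.node 3437 (.node 1623 .nil .nil) (.node 5204 .nil .nil)) (.node 2968 (.node 3896 .nil .nil) .nil)))) (.node 4867 (.node 1572 (.node 2244 (.node 4207 (.node 2445 .nil .nil) (.node 57 .nil .nil)) (.node 659 (.node 3916 .nil .nil)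 .nil)) (.node 4643 (.node 2996 (.node 3162 .nil .nil) (.node 266 .nil .nil)) (.node 973 (.node 3462 .nil .nil) .nil))) (.node 4644 (.node 5302 (.node 263 (.node 3258 .nil .nil) (.node 2226 .nil .nil)) (.node 1655 (.node 2724 .nil .nil) .nil)) (.node 1845 (.node 873 (.node 3648 .nil .nil) (.node 3595 .nil .nil)) (.node 3334 (.node 3707 .nil .nil) .nil))))) (.node 3924 (.node 783 (.node 1960 (.node 3665 (.node 664 (.node 1950 .nil .nil) (.node 2747 .nil .nil)) (.node 1261 (.node 4928 .nil .nil) .nil)) (.node 2920 (.node 995 (.node 593 .nil .nil) (.node 2987 .nil .nil)) (.node 4687 (.node 1734 .nil .nil) .nil))) (.node 3184 (.node 4181 (.node 2700 (.node 1923 .nil .nil) (.node 2283 .nil .nil)) (.node 4418 (.node 289 .nil .nil) .nil)) (.node 1487 (.node 2115 (.node 1216 .nil .nil) (.node 24 .nil .nil)) (.node 2995 (.node 776 .nil .nil) .nil)))) (.node 4897 (.node 2048 (.node 910 (.node 4390 (.node 585 .nil .nil) (.node 2271 .nil .nil))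 (.node 2262 (.node 1285 .nil .nil) .nil)) (.node 493 (.node 4150 (.node 5338 .nil .nil) (.node 323 .nil .nil)) (.node 34 (.node 3171 .nil .nil) .nil))) (.node 4894 (.node 262 (.node 3623 (.node 829 .nil .nil) (.node 4443 .nil .nil)) (.node 1881 (.node 1241 .nil .nil) .nil)) (.node 4649 (.node 4452 (.node 4915 .nil .nil) .nil) (.node 3681 (.node 739 .nil .nil) .nil)))))))) (.node 1215 (.node 1701 (.node 48 (.node 2692 (.node 2731 (.node 2469 (.node 1228 (.node 1830 (.node 2124 .nil .nil) (.node 3696 .nil .nil)) (.node 505 (.node 1236 .nil .nil) .nil)) (.node 1953 (.node 1138 (.node 1875 .nil .nil) (.node 2030 .nil .nil)) (.node 579 (.node 287 .nil .nil) .nil))) (.node 3433 (.node 1068 (.node 927 (.node 35 .nil .nil) (.node 1833 .nil .nil)) (.node 245 (.node 1232 .nil .nil) .nil)) (.node 838 (.node 3679 (.node 4618 .nil .nil) (.node 4921 .nil .nil)) (.node 2940 (.node 5166 .nil .nil) .nil)))) (.node 4677 (.node 4205 (.node 1057 (.node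 1902 (.node 1597 .nil .nil) (.node 3891 .nil .nil)) (.node 4169 (.node 978 .nil .nil) .nil)) (.node 282 (.node 2676 (.node 274 .nil .nil) (.node 4400 .nil .nil)) (.node 22 (.node 1914 .nil .nil) .nil))) (.node 2132 (.node 1269 (.node 3513 (.node 269 .nil .nil) (.node 4880 .nil .nil)) (.node 1737 (.node 259 .nil .nil) .nil)) (.node 1491 (.node 649 (.node 1542 .nil .nil) (.node 866 .nil .nil)) (.node 801 (.node 3906 .nil .nil) .nil))))) (.node 2943 (.node 1074 (.node 318 (.node 658 (.node 4193 (.node 1492 .nil .nil) (.node 4864 .nil .nil)) (.node 4925 (.node 1926 .nil .nil) .nil)) (.node 3484 (.node 4666 (.node 2370 .nil .nil) (.node 3910 .nil .nil)) (.node 1071 (.node 669 .nil .nil) .nil))) (.node 3343 (.node 2214 (.node 655 (.node 250 .nil .nil) (.node 2499 .nil .nil)) (.node 73 (.node 765 .nil .nil) .nil)) (.node 3935 (.node 2253 (.node 4932 .nil .nil) (.node 1620 .nil .nil)) (.node 2444 (.node 937 .nil .nil) .nil)))) (.node 3718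 (.node 3964 (.node 4645 (.node 4936 (.node 1159 .nil .nil) (.node 792 .nil .nil)) (.node 3541 (.node 61 .nil .nil) .nil)) (.node 3430 (.node 2494 (.node 3923 .nil .nil) (.node 322 .nil .nil)) (.node 1267 (.node 3170 .nil .nil) .nil))) (.node 3688 (.node 3181 (.node 2304 (.node 2707 .nil .nil) (.node 1141 .nil .nil)) (.node 293 (.node 3901 .nil .nil) .nil)) (.node 4167 (.node 4647 (.node 4682 .nil .nil) (.node 2112 .nil .nil)) (.node 591 (.node 4382 .nil .nil) .nil)))))) (.node 3645 (.node 3711 (.node 4933 (.node 1270 (.node 4383 (.node 1061 (.node 1147 .nil .nil) (.node 2334 .nil .nil)) (.node 3404 (.node 5258 .nil .nil) .nil)) (.node 4648 (.node 1905 (.node 3676 .nil .nil) (.node 4 .nil .nil)) (.node 1749 (.node 5212 .nil .nil) .nil))) (.node 4927 (.node 3967 (.node 569 (.node 648 .nil .nil) (.node 3652 .nil .nil)) (.node 4402 (.node 5283 .nil .nil) .nil)) (.node 2032 (.node 1281 (.node 2744 .nil .nil) (.node 2979 .nil .nil)) (.node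 3177 (.node 3263 .nil .nil) .nil)))) (.node 4429 (.node 731 (.node 4168 (.node 30 (.node 2691 .nil .nil) (.node 820 .nil .nil)) (.node 4675 (.node 2131 .nil .nil) .nil)) (.node 3948 (.node 785 (.node 490 .nil .nil) (.node 2985 .nil .nil)) (.node 11 (.node 2045 .nil .nil) .nil))) (.node 2718 (.node 3926 (.node 2703 (.node 3174 .nil .nil) (.node 1059 .nil .nil)) (.node 3690 (.node 848 .nil .nil) .nil)) (.node 47 (.node 3625 (.node 1713 .nil .nil) (.node 1654 .nil .nil)) (.node 4918 (.node 2919 .nil .nil) .nil))))) (.node 667 (.node 2108 (.node 320 (.node 3264 (.node 3340 (.node 4868 .nil .nil) (.node 4203 .nil .nil)) (.node 4685 (.node 3717 .nil .nil) .nil)) (.node 2980 (.node 2503 (.node 956 .nil .nil) (.node 3168 .nil .nil)) (.node 2400 (.node 1815 .nil .nil) .nil))) (.node 5 (.node 4378 (.node 1648 (.node 4136 .nil .nil) (.node 2487 .nil .nil)) (.node 4896 (.node 2728 .nil .nil) .nil)) (.node 3240 (.node 1707 (.node 1797 .nil .nil)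 (.node 2451 .nil .nil)) (.node 2235 (.node 2733 .nil .nil) .nil)))) (.node 650 (.node 975 (.node 2720 (.node 4149 (.node 2753 .nil .nil) (.node 1543 .nil .nil)) (.node 2028 (.node 3245 .nil .nil) .nil)) (.node 3658 (.node 2458 (.node 1254 .nil .nil) (.node 574 .nil .nil)) (.node 5266 (.node 2969 .nil .nil) .nil))) (.node 1574 (.node 1678 (.node 32 (.node 1957 .nil .nil) (.node 281 .nil .nil)) (.node 1593 (.node 4669 .nil .nil) .nil)) (.node 1626 (.node 3672 (.node 2730 .nil .nil) .nil) (.node 3335 (.node 4427 .nil .nil) .nil))))))) (.node 309 (.node 56 (.node 571 (.node 662 (.node 1064 (.node 965 (.node 2205 (.node 2982 .nil .nil) (.node 3708 .nil .nil)) (.node 1675 (.node 1515 .nil .nil) .nil)) (.node 1135 (.node 1242 (.node 4861 .nil .nil) (.node 2256 .nil .nil)) (.node 4197 (.node 4401 .nil .nil) .nil))) (.node 2418 (.node 2128 (.node 4191 (.node 8 .nil .nil) (.node 3721 .nil .nil)) (.node 4887 (.node 2694 .nil .nil) .nil)) (.node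 2492 (.node 5177 (.node 5267 .nil .nil) (.node 2199 .nil .nil)) (.node 492 (.node 3571 .nil .nil) .nil)))) (.node 3565 (.node 1839 (.node 1226 (.node 2208 (.node 2310 .nil .nil) (.node 4142 .nil .nil)) (.node 3911 (.node 4668 .nil .nil) .nil)) (.node 2406 (.node 2114 (.node 988 .nil .nil) (.node 774 .nil .nil)) (.node 5274 (.node 4174 .nil .nil) .nil))) (.node 1755 (.node 3405 (.node 2113 (.node 1854 .nil .nil) (.node 4436 .nil .nil)) (.node 4900 (.node 1284 .nil .nil) .nil)) (.node 2988 (.node 1857 (.node 4638 .nil .nil) (.node 2930 .nil .nil)) (.node 1848 (.node 52 .nil .nil) .nil))))) (.node 4135 (.node 2702 (.node 3691 (.node 5175 (.node 583 (.node 1274 .nil .nil) (.node 72 .nil .nil)) (.node 4140 (.node 5319 .nil .nil) .nil)) (.node 3406 (.node 2502 (.node 4626 .nil .nil) (.node 316 .nil .nil)) (.node 4875 (.node 3669 .nil .nil) .nil))) (.node 2358 (.node 1932 (.node 3512 (.node 4912 .nil .nil) (.node 4148 .nil .nil)) (.node 4422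 (.node 304 .nil .nil) .nil)) (.node 5311 (.node 981 (.node 2727 .nil .nil) (.node 2050 .nil .nil)) (.node 3489 (.node 1806 .nil .nil) .nil)))) (.node 2716 (.node 249 (.node 4919 (.node 1627 (.node 1076 .nil .nil) (.node 3950 .nil .nil)) (.node 4903 (.node 3962 .nil .nil) .nil)) (.node 63 (.node 3905 (.node 1540 .nil .nil) (.node 2951 .nil .nil)) (.node 4444 (.node 4631 .nil .nil) .nil))) (.node 307 (.node 5157 (.node 244 (.node 4917 .nil .nil) (.node 70 .nil .nil)) (.node 3256 (.node 2477 .nil .nil) .nil)) (.node 75 (.node 1078 (.node 2241 .nil .nil) (.node 2229 .nil .nil)) (.node 4421 (.node 5337 .nil .nil) .nil)))))) (.node 2295 (.node 4158 (.node 1601 (.node 1827 (.node 1294 (.node 793 (.node 837 .nil .nil) (.node 4416 .nil .nil)) (.node 2483 (.node 4192 .nil .nil) .nil)) (.node 4439 (.node 2434 (.node 2721 .nil .nil) (.node 3657 .nil .nil)) (.node 4695 (.node 4387 .nil .nil) .nil))) (.node 1544 (.node 1223 (.node 3649 (.node 1779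 .nil .nil) (.node 3242 .nil .nil)) (.node 1677 (.node 4377 .nil .nil) .nil)) (.node 319 (.node 2688 (.node 1716 .nil .nil) (.node 2472 .nil .nil)) (.node 3266 (.node 2698 .nil .nil) .nil)))) (.node 1278 (.node 2379 (.node 3692 (.node 3250 (.node 918 .nil .nil) (.node 3713 .nil .nil)) (.node 979 (.node 3568 .nil .nil) .nil)) (.node 5104 (.node 1851 (.node 2382 .nil .nil) (.node 1812 .nil .nil)) (.node 1273 (.node 1752 .nil .nil) .nil))) (.node 4189 (.node 3331 (.node 42 (.node 506 .nil .nil) (.node 4171 .nil .nil)) (.node 5240 (.node 2745 .nil .nil) .nil)) (.node 830 (.node 5249 (.node 4665 .nil .nil) (.node 4440 .nil .nil)) (.node 2751 (.node 1567 .nil .nil) .nil))))) (.node 1249 (.node 4920 (.node 2699 (.node 2701 (.node 4883 (.node 2403 .nil .nil) (.node 874 .nil .nil)) (.node 2722 (.node 3907 .nil .nil) .nil)) (.node 1649 (.node 938 (.node 2739 .nil .nil) (.node 4658 .nil .nil)) (.node 1650 (.node 2121 .nil .nil) .nil))) (.node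 1878 (.node 2697 (.node 4196 (.node 3517 .nil .nil) (.node 2683 .nil .nil)) (.node 4211 (.node 3545 .nil .nil) .nil)) (.node 3666 (.node 1947 (.node 2034 .nil .nil) (.node 5194 .nil .nil)) (.node 3243 (.node 4161 .nil .nil) .nil)))) (.node 3930 (.node 4663 (.node 2952 (.node 4690 (.node 4873 .nil .nil) (.node 980 .nil .nil)) (.node 7 (.node 3564 .nil .nil) .nil)) (.node 4924 (.node 4187 (.node 2467 .nil .nil) (.node 3955 .nil .nil)) (.node 1945 (.node 821 .nil .nil) .nil))) (.node 3459 (.node 37 (.node 1146 (.node 3929 .nil .nil) (.node 4909 .nil .nil)) (.node 2361 (.node 4403 .nil .nil) .nil)) (.node 3895 (.node 3622 (.node 3956 .nil .nil) .nil) (.node 2373 (.node 3660 .nil .nil) .nil)))))))))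

/-- Data. -/
noncomputable def cover_1 : Arr (ℕ) := (.node 486 (.node 972 (.node 1458 (.node 2673 (.node 1566 (.node 4166 (.node 4426 (.node 4619 (.node 71 (.node 2328 .nil .nil) (.node 1155 .nil .nil)) (.node 4415 (.node 1758 .nil .nil) .nil)) (.node 3257 (.node 1156 (.node 3598 .nil .nil) (.node 2107 .nil .nil)) (.node 1674 (.node 2298 .nil .nil) .nil))) (.node 1954 (.node 767 (.node 996 (.node 4445 .nil .nil) (.node 2452 .nil .nil)) (.node 2944 (.node 3954 .nil .nil) .nil)) (.node 4899 (.node 567 (.node 1890 .nil .nil) (.node 1264 .nil .nil)) (.node 2349 (.node 4175 .nil .nil) .nil)))) (.node 3620 (.node 3329 (.node 2708 (.node 2941 (.node 4157 .nil .nil) (.node 4901 .nil .nil)) (.node 3904 (.node 2447 .nil .nil) .nil)) (.node 1217 (.node 1224 (.node 665 .nil .nil) (.node 2040 .nil .nil)) (.node 2493 (.node 12 .nil .nil) .nil))) (.node 2989 (.node 2741 (.node 1079 (.node 2695 .nil .nil) (.node 488 .nil .nil)) (.node 2711 (.node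 2960 .nil .nil) .nil)) (.node 3163 (.node 1962 (.node 2 .nil .nil) (.node 4935 .nil .nil)) (.node 2508 (.node 4635 .nil .nil) .nil))))) (.node 487 (.node 2712 (.node 5292 (.node 2705 (.node 3596 (.node 1935 .nil .nil) (.node 62 .nil .nil)) (.node 1520 (.node 3538 .nil .nil) .nil)) (.node 2217 (.node 5284 (.node 4940 .nil .nil) (.node 2433 .nil .nil)) (.node 756 (.node 2274 .nil .nil) .nil))) (.node 4208 (.node 911 (.node 1570 (.node 2973 .nil .nil) (.node 252 .nil .nil)) (.node 66 (.node 1287 .nil .nil) .nil)) (.node 2479 (.node 2397 (.node 4639 .nil .nil) (.node 1963 .nil .nil)) (.node 3928 (.node 4625 .nil .nil) .nil)))) (.node 1598 (.node 3 (.node 846 (.node 4394 (.node 882 .nil .nil) (.node 2506 .nil .nil)) (.node 1486 (.node 2220 .nil .nil) .nil)) (.node 4190 (.node 4453 (.node 810 .nil .nil) (.node 1743 .nil .nil)) (.node 3572 (.node 812 .nil .nil) .nil))) (.node 279 (.node 3456 (.node 4906 (.node 672 .nil .nil) (.node 586 .nil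 .nil)) (.node 3621 (.node 4134 .nil .nil) .nil)) (.node 5310 (.node 3253 (.node 4916 .nil .nil) (.node 1466 .nil .nil)) (.node 1464 (.node 5167 .nil .nil) .nil)))))) (.node 3402 (.node 4449 (.node 4871 (.node 4657 (.node 3946 (.node 2367 (.node 5256 .nil .nil) (.node 884 .nil .nil)) (.node 857 (.node 2972 .nil .nil) .nil)) (.node 4866 (.node 1233 (.node 20 .nil .nil) (.node 2193 .nil .nil)) (.node 4678 (.node 1488 .nil .nil) .nil))) (.node 3654 (.node 5122 (.node 3247 (.node 855 .nil .nil) (.node 3909 .nil .nil)) (.node 1596 (.node 1272 .nil .nil) .nil)) (.node 1246 (.node 5193 (.node 4661 .nil .nil) (.node 1896 .nil .nil)) (.node 2340 (.node 883 .nil .nil) .nil)))) (.node 3703 (.node 2949 (.node 2190 (.node 4404 (.node 4642 .nil .nil) (.node 5229 .nil .nil)) (.node 4697 (.node 78 .nil .nil) .nil)) (.node 3251 (.node 4442 (.node 3244 .nil .nil) (.node 875 .nil .nil)) (.node 656 (.node 1539 .nil .nil) .nil))) (.node 2956 (.node 4165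 (.node 1512 (.node 4172 .nil .nil) (.node 33 .nil .nil)) (.node 1884 (.node 4206 .nil .nil) .nil)) (.node 4430 (.node 1293 (.node 2453 .nil .nil) (.node 4878 .nil .nil)) (.node 3431 (.node 2704 .nil .nil) .nil))))) (.node 663 (.node 2714 (.node 3682 (.node 2409 (.node 5123 (.node 2388 .nil .nil) (.node 5248 .nil .nil)) (.node 3655 (.node 4425 .nil .nil) .nil)) (.node 572 (.node 3918 (.node 3341 .nil .nil) (.node 963 .nil .nil)) (.node 1908 (.node 2746 .nil .nil) .nil))) (.node 1225 (.node 4417 (.node 5265 (.node 3889 .nil .nil) (.node 3336 .nil .nil)) (.node 3698 (.node 2686 .nil .nil) .nil)) (.node 2470 (.node 4133 (.node 2120 .nil .nil) (.node 2037 .nil .nil)) (.node 3491 (.node 2126 .nil .nil) .nil)))) (.node 1941 (.node 4391 (.node 1221 (.node 1800 (.node 2684 .nil .nil) (.node 2462 .nil .nil)) (.node 1255 (.node 4420 .nil .nil) .nil)) (.node 3915 (.node 2965 (.node 2924 .nil .nil) (.node 1809 .nil .nil)) (.node 2480 (.node 277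 .nil .nil) .nil))) (.node 1227 (.node 4433 (.node 3626 (.node 2118 .nil .nil) (.node 2116 .nil .nil)) (.node 1275 (.node 584 .nil .nil) .nil)) (.node 964 (.node 495 (.node 2505 .nil .nil) .nil) (.node 1240 (.node 50 .nil .nil) .nil))))))) (.node 2430 (.node 507 (.node 4374 (.node 5257 (.node 4385 (.node 1887 (.node 582 (.node 4178 .nil .nil) (.node 272 .nil .nil)) (.node 5159 (.node 2450 .nil .nil) .nil)) (.node 920 (.node 2446 (.node 1679 .nil .nil) (.node 4862 .nil .nil)) (.node 3937 (.node 2043 .nil .nil) .nil))) (.node 4432 (.node 1290 (.node 3939 (.node 2978 .nil .nil) (.node 2977 .nil .nil)) (.node 3327 (.node 4651 .nil .nil) .nil)) (.node 748 (.node 313 (.node 673 .nil .nil) (.node 3180 .nil .nil)) (.node 2925 (.node 803 .nil .nil) .nil)))) (.node 1628 (.node 1959 (.node 2476 (.node 2031 (.node 1235 .nil .nil) (.node 3516 .nil .nil)) (.node 497 (.node 2042 .nil .nil) .nil)) (.node 4447 (.node 2740 (.node 1056 .nil .nil) (.node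 5113 .nil .nil)) (.node 4908 (.node 5131 .nil .nil) .nil))) (.node 5176 (.node 1248 (.node 2436 (.node 4434 .nil .nil) (.node 5148 .nil .nil)) (.node 4139 (.node 1238 .nil .nil) .nil)) (.node 578 (.node 3330 (.node 4696 .nil .nil) (.node 4173 .nil .nil)) (.node 1231 (.node 2292 .nil .nil) .nil))))) (.node 3952 (.node 2355 (.node 4641 (.node 3647 (.node 1137 (.node 802 .nil .nil) (.node 3265 .nil .nil)) (.node 573 (.node 4931 .nil .nil) .nil)) (.node 1968 (.node 2439 (.node 1622 .nil .nil) (.node 1842 .nil .nil)) (.node 40 (.node 308 .nil .nil) .nil))) (.node 3931 (.node 2033 (.node 5222 (.node 3344 .nil .nil) (.node 3543 .nil .nil)) (.node 660 (.node 2464 .nil .nil) .nil)) (.node 3892 (.node 3566 (.node 2473 .nil .nil) (.node 1271 .nil .nil)) (.node 317 (.node 4654 .nil .nil) .nil)))) (.node 1863 (.node 3618 (.node 856 (.node 2966 (.node 3922 .nil .nil) (.node 3321 .nil .nil)) (.node 64 (.node 2510 .nil .nil) .nil)) (.node 4176 (.node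 310 (.node 2125 .nil .nil) (.node 2459 .nil .nil)) (.node 2238 (.node 1952 .nil .nil) .nil))) (.node 3540 (.node 5285 (.node 2959 (.node 4393 .nil .nil) (.node 4186 .nil .nil)) (.node 4185 (.node 3933 .nil .nil) .nil)) (.node 1252 (.node 1160 (.node 670 .nil .nil) (.node 4621 .nil .nil)) (.node 2957 (.node 1782 .nil .nil) .nil)))))) (.node 3176 (.node 4628 (.node 2394 (.node 4156 (.node 3942 (.node 3893 (.node 5185 .nil .nil) (.node 3943 .nil .nil)) (.node 784 (.node 2448 .nil .nil) .nil)) (.node 3670 (.node 3570 (.node 4692 .nil .nil) (.node 4163 .nil .nil)) (.node 23 (.node 4939 .nil .nil) .nil))) (.node 3461 (.node 1929 (.node 4636 (.node 1283 .nil .nil) (.node 2706 .nil .nil)) (.node 491 (.node 4446 .nil .nil) .nil)) (.node 4926 (.node 654 (.node 1546 .nil .nil) (.node 4195 .nil .nil)) (.node 1260 (.node 4424 .nil .nil) .nil)))) (.node 2196 (.node 3664 (.node 1625 (.node 4905 (.node 1243 .nil .nil) (.node 2942 .nil .nil)) (.node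 4408 (.node 1824 .nil .nil) .nil)) (.node 1624 (.node 4141 (.node 3951 .nil .nil) (.node 2027 .nil .nil)) (.node 1234 (.node 2752 .nil .nil) .nil))) (.node 80 (.node 2696 (.node 1279 (.node 4634 .nil .nil) (.node 2109 .nil .nil)) (.node 1276 (.node 4892 .nil .nil) .nil)) (.node 1075 (.node 31 (.node 1295 .nil .nil) (.node 1740 .nil .nil)) (.node 2286 (.node 3183 .nil .nil) .nil))))) (.node 5103 (.node 4164 (.node 4879 (.node 5195 (.node 294 (.node 2427 .nil .nil) (.node 1967 .nil .nil)) (.node 4680 (.node 28 .nil .nil) .nil)) (.node 1653 (.node 265 (.node 5303 .nil .nil) (.node 3591 .nil .nil)) (.node 2932 (.node 1770 .nil .nil) .nil))) (.node 2994 (.node 1460 (.node 3897 (.node 286 .nil .nil) (.node 268 .nil .nil)) (.node 3903 (.node 986 .nil .nil) .nil)) (.node 3663 (.node 1266 (.node 2391 .nil .nil) (.node 2325 .nil .nil)) (.node 3514 (.node 3968 .nil .nil) .nil)))) (.node 4938 (.node 5329 (.node 2437 (.node 299 (.node 4655 .nil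 .nil) (.node 2917 .nil .nil)) (.node 41 (.node 1289 .nil .nil) .nil)) (.node 1951 (.node 3722 (.node 311 .nil .nil) (.node 2947 .nil .nil)) (.node 2259 (.node 4437 .nil .nil) .nil))) (.node 4923 (.node 983 (.node 2026 (.node 4204 .nil .nil) (.node 273 .nil .nil)) (.node 511 (.node 4676 .nil .nil) .nil)) (.node 1545 (.node 2441 (.node 3694 .nil .nil) .nil) (.node 3339 (.node 25 .nil .nil) .nil)))))))) (.node 46 (.node 1944 (.node 909 (.node 498 (.node 3593 (.node 4653 (.node 5330 (.node 1222 (.node 4423 .nil .nil) (.node 3693 .nil .nil)) (.node 1286 (.node 2485 .nil .nil) .nil)) (.node 3902 (.node 4888 (.node 2130 .nil .nil) (.node 946 .nil .nil)) (.node 1872 (.node 1244 .nil .nil) .nil))) (.node 1821 (.node 1788 (.node 4162 (.node 3925 .nil .nil) (.node 502 .nil .nil)) (.node 271 (.node 3166 .nil .nil) .nil)) (.node 1148 (.node 285 (.node 4872 .nil .nil) (.node 2129 .nil .nil)) (.node 4886 (.node 2127 .nil .nil) .nil)))) (.node 3960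 (.node 4870 (.node 9 (.node 811 (.node 2749 .nil .nil) (.node 893 .nil .nil)) (.node 5150 (.node 4904 .nil .nil) .nil)) (.node 987 (.node 3913 (.node 254 .nil .nil) (.node 1258 .nil .nil)) (.node 4650 (.node 4431 .nil .nil) .nil))) (.node 3165 (.node 1073 (.node 1791 (.node 4209 .nil .nil) (.node 3542 .nil .nil)) (.node 2677 (.node 1594 .nil .nil) .nil)) (.node 4138 (.node 2922 (.node 3323 .nil .nil) (.node 2049 .nil .nil)) (.node 3485 (.node 1154 .nil .nil) .nil))))) (.node 4860 (.node 974 (.node 2106 (.node 2289 (.node 3898 (.node 1136 .nil .nil) (.node 3569 .nil .nil)) (.node 1291 (.node 1485 .nil .nil) .nil)) (.node 44 (.node 985 (.node 4132 .nil .nil) (.node 3646 .nil .nil)) (.node 2046 (.node 3249 .nil .nil) .nil))) (.node 1958 (.node 2466 (.node 2945 (.node 4182 .nil .nil) (.node 3697 .nil .nil)) (.node 794 (.node 2035 .nil .nil) .nil)) (.node 2047 (.node 4388 (.node 984 .nil .nil) (.node 1134 .nil .nil)) (.node 4670 (.node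 5321 .nil .nil) .nil)))) (.node 1239 (.node 5221 (.node 291 (.node 2301 (.node 1250 .nil .nil) (.node 4405 .nil .nil)) (.node 3684 (.node 4922 .nil .nil) .nil)) (.node 2440 (.node 1053 (.node 4890 .nil .nil) (.node 45 .nil .nil)) (.node 2717 (.node 280 .nil .nil) .nil))) (.node 3719 (.node 2926 (.node 1229 (.node 4155 .nil .nil) (.node 2971 .nil .nil)) (.node 4398 (.node 1541 .nil .nil) .nil)) (.node 4630 (.node 4693 (.node 1573 .nil .nil) (.node 4406 .nil .nil)) (.node 977 (.node 4629 .nil .nil) .nil)))))) (.node 3888 (.node 4617 (.node 270 (.node 3458 (.node 2918 (.node 2475 (.node 14 .nil .nil) (.node 775 .nil .nil)) (.node 494 (.node 18 .nil .nil) .nil)) (.node 4622 (.node 3936 (.node 998 .nil .nil) (.node 5114 .nil .nil)) (.node 4397 (.node 3919 .nil .nil) .nil))) (.node 3182 (.node 2110 (.node 5149 (.node 1143 .nil .nil) (.node 2974 .nil .nil)) (.node 1292 (.node 5132 .nil .nil) .nil)) (.node 4863 (.node 3436 (.node 4907 .nil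 .nil) (.node 2223 .nil .nil)) (.node 67 (.node 2352 .nil .nil) .nil)))) (.node 3932 (.node 2967 (.node 2123 (.node 4911 (.node 4414 .nil .nil) (.node 2690 .nil .nil)) (.node 5112 (.node 2748 .nil .nil) .nil)) (.node 1964 (.node 1893 (.node 2923 .nil .nil) (.node 3407 .nil .nil)) (.node 4143 (.node 314 .nil .nil) .nil))) (.node 5239 (.node 2468 (.node 1961 (.node 3941 .nil .nil) (.node 4160 .nil .nil)) (.node 1054 (.node 4686 .nil .nil) .nil)) (.node 575 (.node 1682 (.node 3169 .nil .nil) (.node 3185 .nil .nil)) (.node 577 (.node 929 .nil .nil) .nil))))) (.node 3248 (.node 3725 (.node 4889 (.node 1956 (.node 3934 (.node 2964 .nil .nil) (.node 2497 .nil .nil)) (.node 1728 (.node 2250 .nil .nil) .nil)) (.node 4679 (.node 5220 (.node 290 .nil .nil) (.node 253 .nil .nil)) (.node 3322 (.node 865 .nil .nil) .nil))) (.node 4409 (.node 3325 (.node 2432 (.node 1493 .nil .nil) (.node 2682 .nil .nil)) (.node 1268 (.node 3539 .nil .nil) .nil))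 (.node 2950 (.node 652 (.node 1680 .nil .nil) (.node 1247 .nil .nil)) (.node 4210 (.node 2036 .nil .nil) .nil)))) (.node 5158 (.node 2313 (.node 581 (.node 2981 (.node 2729 .nil .nil) (.node 2678 .nil .nil)) (.node 2496 (.node 3678 .nil .nil) .nil)) (.node 4672 (.node 1519 (.node 36 .nil .nil) (.node 3695 .nil .nil)) (.node 54 (.node 2734 .nil .nil) .nil))) (.node 501 (.node 4144 (.node 2457 (.node 3714 .nil .nil) (.node 2346 .nil .nil)) (.node 2984 (.node 3668 .nil .nil) .nil)) (.node 2687 (.node 13 (.node 77 .nil .nil) .nil) (.node 592 (.node 1899 .nil .nil) .nil))))))) (.node 276 (.node 3159 (.node 2936 (.node 2461 (.node 69 (.node 261 (.node 3699 (.node 5140 .nil .nil) (.node 1647 .nil .nil)) (.node 3677 (.node 2460 .nil .nil) .nil)) (.node 3706 (.node 303 (.node 4891 .nil .nil) (.node 306 .nil .nil)) (.node 3410 (.node 2975 .nil .nil) .nil))) (.node 589 (.node 2954 (.node 3702 (.node 260 .nil .nil) (.node 3160 .nil .nil)) (.node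 4664 (.node 3653 .nil .nil) .nil)) (.node 758 (.node 1966 (.node 2232 .nil .nil) (.node 1277 .nil .nil)) (.node 3261 (.node 3958 .nil .nil) .nil)))) (.node 1970 (.node 3510 (.node 3961 (.node 499 (.node 2424 .nil .nil) (.node 1794 .nil .nil)) (.node 2385 (.node 2946 .nil .nil) .nil)) (.node 3685 (.node 3945 (.node 2471 .nil .nil) (.node 4451 .nil .nil)) (.node 847 (.node 4407 .nil .nil) .nil))) (.node 2029 (.node 2307 (.node 1621 (.node 258 .nil .nil) (.node 4683 .nil .nil)) (.node 297 (.node 2715 .nil .nil) .nil)) (.node 2719 (.node 3701 (.node 1288 .nil .nil) (.node 749 .nil .nil)) (.node 1257 (.node 1157 .nil .nil) .nil))))) (.node 1803 (.node 3709 (.node 5130 (.node 3710 (.node 1259 (.node 4454 .nil .nil) (.node 2709 .nil .nil)) (.node 3680 (.node 4689 .nil .nil) .nil)) (.node 4419 (.node 3486 (.node 1517 .nil .nil) (.node 3927 .nil .nil)) (.node 4902 (.node 2488 .nil .nil) .nil))) (.node 3720 (.node 1253 (.node 3957 (.node 5339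 .nil .nil) (.node 508 .nil .nil)) (.node 2111 (.node 3662 .nil .nil) .nil)) (.node 284 (.node 2038 (.node 747 .nil .nil) (.node 3712 .nil .nil)) (.node 4376 (.node 2490 .nil .nil) .nil)))) (.node 3619 (.node 590 (.node 2051 (.node 1237 (.node 3914 .nil .nil) (.node 1282 .nil .nil)) (.node 509 (.node 4380 .nil .nil) .nil)) (.node 3346 (.node 1785 (.node 2955 .nil .nil) (.node 1265 .nil .nil)) (.node 4684 (.node 2961 .nil .nil) .nil))) (.node 982 (.node 5328 (.node 1139 (.node 3463 .nil .nil) (.node 3432 .nil .nil)) (.node 2316 (.node 2725 .nil .nil) .nil)) (.node 1568 (.node 2465 (.node 2044 .nil .nil) .nil) (.node 1158 (.node 68 .nil .nil) .nil)))))) (.node 4131 (.node 1149 (.node 5230 (.node 321 (.node 1262 (.node 4671 (.node 1911 .nil .nil) (.node 295 .nil .nil)) (.node 300 (.node 3724 .nil .nil) .nil)) (.node 928 (.node 298 (.node 4930 .nil .nil) (.node 1818 .nil .nil)) (.node 3252 (.node 1065 .nil .nil) .nil))) (.node 4898 (.node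 4137 (.node 3347 (.node 1461 .nil .nil) (.node 3947 .nil .nil)) (.node 4411 (.node 1069 .nil .nil) .nil)) (.node 3434 (.node 4381 (.node 76 .nil .nil) (.node 1869 .nil .nil)) (.node 500 (.node 3408 .nil .nil) .nil)))) (.node 3567 (.node 3178 (.node 3953 (.node 3963 (.node 839 .nil .nil) (.node 2933 .nil .nil)) (.node 5184 (.node 5238 .nil .nil) .nil)) (.node 4413 (.node 902 (.node 2431 .nil .nil) (.node 1569 .nil .nil)) (.node 976 (.node 3900 .nil .nil) .nil))) (.node 1599 (.node 1067 (.node 2737 (.node 3483 .nil .nil) (.node 3659 .nil .nil)) (.node 1150 (.node 2481 .nil .nil) .nil)) (.node 4146 (.node 510 (.node 1681 .nil .nil) (.node 5312 .nil .nil)) (.node 1463 (.node 1860 .nil .nil) .nil))))) (.node 2726 (.node 2681 (.node 738 (.node 1761 (.node 994 (.node 1948 .nil .nil) (.node 3262 .nil .nil)) (.node 43 (.node 954 .nil .nil) .nil)) (.node 4627 (.node 1920 (.node 3342 .nil .nil) (.node 257 .nil .nil)) (.node 512 (.node 58 .nil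 .nil) .nil))) (.node 3172 (.node 503 (.node 1151 (.node 3959 .nil .nil) (.node 3686 .nil .nil)) (.node 993 (.node 2937 .nil .nil) .nil)) (.node 5320 (.node 4159 (.node 730 .nil .nil) (.node 49 .nil .nil)) (.node 1251 (.node 1516 .nil .nil) .nil)))) (.node 4633 (.node 17 (.node 2265 (.node 2322 (.node 4623 .nil .nil) (.node 3965 .nil .nil)) (.node 1518 (.node 4396 .nil .nil) .nil)) (.node 2693 (.node 4177 (.node 3429 .nil .nil) (.node 2928 .nil .nil)) (.node 59 (.node 5231 .nil .nil) .nil))) (.node 4145 (.node 2939 (.node 945 (.node 5293 .nil .nil) (.node 919 .nil .nil)) (.node 3917 (.node 51 .nil .nil) .nil)) (.node 4691 (.node 989 (.node 4876 .nil .nil) .nil) (.node 2929 (.node 1140 .nil .nil) .nil)))))))))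

/-- Data. -/
noncomputable def cover : Arr (ℕ) := (.node 0 cover_0 cover_1)

/-- Data. -/
noncomputable def stab_0 : Arr (ℕ) := (.node 0 (.node 0 (.node 0 (.node 0 (.node 0 (.node 0 (.node 0 (.node 0 (.node 0 (.node 0 (.node 0 .nil .nil) .nil) (.node 0 (.node 0 .nil .nil) .nil)) (.node 0 (.node 0 (.node 0 .nil .nil) .nil) (.node 0 .nil .nil))) (.node 0 (.node 0 (.node 0 (.node 0 .nil .nil) .nil) (.node 0 .nil .nil)) (.node 0 (.node 0 (.node 0 .nil .nil) .nil) (.node 0 .nil .nil)))) (.node 0 (.node 0 (.node 0 (.node 0 (.node 0 .nil .nil) .nil) (.node 0 (.node 0 .nil .nil) .nil)) (.node 0 (.node 0 (.node 0 .nil .nil) .nil) (.node 0 .nil .nil))) (.node 0 (.node 0 (.node 0 (.node 0 .nil .nil) .nil) (.node 0 .nil .nil)) (.node 0 (.node 0 (.node 0 .nil .nil) .nil) (.node 0 .nil .nil))))) (.node 0 (.node 0 (.node 0 (.node 0 (.node 0 (.node 0 .nil .nil) .nil) (.node 0 (.node 0 .nil .nil) .nil)) (.node 0 (.node 0 (.node 0 .nil .nil) .nil)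 (.node 0 .nil .nil))) (.node 0 (.node 0 (.node 0 (.node 0 .nil .nil) .nil) (.node 0 .nil .nil)) (.node 0 (.node 0 (.node 0 .nil .nil) .nil) (.node 0 .nil .nil)))) (.node 0 (.node 0 (.node 1 (.node 0 (.node 0 .nil .nil) .nil) (.node 0 (.node 0 .nil .nil) .nil)) (.node 0 (.node 0 (.node 0 .nil .nil) .nil) (.node 0 .nil .nil))) (.node 0 (.node 0 (.node 0 (.node 0 .nil .nil) .nil) (.node 0 .nil .nil)) (.node 0 (.node 0 (.node 0 .nil .nil) .nil) (.node 0 .nil .nil)))))) (.node 0 (.node 21 (.node 0 (.node 0 (.node 0 (.node 0 (.node 0 .nil .nil) .nil) (.node 0 (.node 0 .nil .nil) .nil)) (.node 0 (.node 0 (.node 0 .nil .nil) .nil) (.node 0 .nil .nil))) (.node 0 (.node 0 (.node 0 (.node 0 .nil .nil) .nil) (.node 0 .nil .nil)) (.node 0 (.node 0 (.node 0 .nil .nil) .nil) (.node 0 .nil .nil)))) (.node 0 (.node 0 (.node 0 (.node 0 (.node 17 .nil .nil) .nil) (.node 0 (.node 0 .nil .nil) .nil)) (.node 0 (.node 0 (.node 0 .nil .nil) .nil) (.node 0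 .nil .nil))) (.node 0 (.node 0 (.node 0 (.node 0 .nil .nil) .nil) (.node 0 .nil .nil)) (.node 0 (.node 0 (.node 0 .nil .nil) .nil) (.node 0 .nil .nil))))) (.node 0 (.node 0 (.node 0 (.node 0 (.node 0 (.node 0 .nil .nil) .nil) (.node 0 (.node 0 .nil .nil) .nil)) (.node 0 (.node 0 (.node 0 .nil .nil) .nil) (.node 0 .nil .nil))) (.node 0 (.node 0 (.node 0 (.node 0 .nil .nil) .nil) (.node 0 .nil .nil)) (.node 0 (.node 0 (.node 0 .nil .nil) .nil) (.node 0 .nil .nil)))) (.node 0 (.node 5 (.node 0 (.node 0 (.node 0 .nil .nil) .nil) (.node 0 (.node 0 .nil .nil) .nil)) (.node 0 (.node 0 (.node 0 .nil .nil) .nil) (.node 0 .nil .nil))) (.node 0 (.node 0 (.node 0 (.node 0 .nil .nil) .nil) (.node 0 .nil .nil)) (.node 14 (.node 0 (.node 0 .nil .nil) .nil) (.node 0 .nil .nil))))))) (.node 0 (.node 0 (.node 0 (.node 0 (.node 0 (.node 0 (.node 0 (.node 0 .nil .nil) .nil) (.node 0 (.node 0 .nil .nil) .nil)) (.node 0 (.node 0 (.node 0 .nil .nil) .nil)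 (.node 0 .nil .nil))) (.node 0 (.node 0 (.node 0 (.node 0 .nil .nil) .nil) (.node 0 .nil .nil)) (.node 0 (.node 0 (.node 0 .nil .nil) .nil) (.node 0 .nil .nil)))) (.node 0 (.node 0 (.node 0 (.node 0 (.node 0 .nil .nil) .nil) (.node 0 (.node 0 .nil .nil) .nil)) (.node 0 (.node 0 (.node 0 .nil .nil) .nil) (.node 0 .nil .nil))) (.node 0 (.node 0 (.node 0 (.node 0 .nil .nil) .nil) (.node 0 .nil .nil)) (.node 0 (.node 0 (.node 0 .nil .nil) .nil) (.node 0 .nil .nil))))) (.node 0 (.node 0 (.node 0 (.node 0 (.node 0 (.node 0 .nil .nil) .nil) (.node 0 (.node 0 .nil .nil) .nil)) (.node 0 (.node 0 (.node 0 .nil .nil) .nil) (.node 0 .nil .nil))) (.node 0 (.node 0 (.node 0 (.node 0 .nil .nil) .nil) (.node 0 .nil .nil)) (.node 0 (.node 0 (.node 0 .nil .nil) .nil) (.node 0 .nil .nil)))) (.node 0 (.node 0 (.node 0 (.node 0 (.node 0 .nil .nil) .nil) (.node 0 (.node 0 .nil .nil) .nil)) (.node 0 (.node 0 (.node 0 .nil .nil) .nil) (.node 0 .nil .nil)))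 (.node 0 (.node 0 (.node 0 (.node 0 .nil .nil) .nil) (.node 0 .nil .nil)) (.node 0 (.node 0 (.node 0 .nil .nil) .nil) (.node 0 .nil .nil)))))) (.node 0 (.node 0 (.node 0 (.node 0 (.node 0 (.node 0 (.node 0 .nil .nil) .nil) (.node 0 (.node 0 .nil .nil) .nil)) (.node 0 (.node 0 (.node 0 .nil .nil) .nil) (.node 0 .nil .nil))) (.node 0 (.node 0 (.node 0 (.node 0 .nil .nil) .nil) (.node 0 .nil .nil)) (.node 0 (.node 0 (.node 0 .nil .nil) .nil) (.node 0 .nil .nil)))) (.node 0 (.node 0 (.node 0 (.node 0 (.node 0 .nil .nil) .nil) (.node 0 (.node 0 .nil .nil) .nil)) (.node 0 (.node 0 (.node 0 .nil .nil) .nil) (.node 0 .nil .nil))) (.node 0 (.node 0 (.node 0 (.node 0 .nil .nil) .nil) (.node 0 .nil .nil)) (.node 0 (.node 0 (.node 0 .nil .nil) .nil) (.node 0 .nil .nil))))) (.node 0 (.node 0 (.node 0 (.node 0 (.node 0 (.node 0 .nil .nil) .nil) (.node 0 (.node 0 .nil .nil) .nil)) (.node 0 (.node 0 (.node 0 .nil .nil) .nil) (.node 0 .nil .nil)))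 (.node 0 (.node 0 (.node 0 (.node 0 .nil .nil) .nil) (.node 0 .nil .nil)) (.node 0 (.node 0 (.node 0 .nil .nil) .nil) (.node 0 .nil .nil)))) (.node 0 (.node 0 (.node 0 (.node 0 (.node 0 .nil .nil) .nil) (.node 0 .nil .nil)) (.node 0 (.node 0 (.node 0 .nil .nil) .nil) (.node 0 .nil .nil))) (.node 0 (.node 0 (.node 0 (.node 0 .nil .nil) .nil) (.node 0 .nil .nil)) (.node 0 (.node 18 (.node 1 .nil .nil) .nil) (.node 0 .nil .nil)))))))) (.node 0 (.node 0 (.node 0 (.node 0 (.node 0 (.node 0 (.node 0 (.node 0 (.node 0 .nil .nil) .nil) (.node 0 (.node 0 .nil .nil) .nil)) (.node 0 (.node 0 (.node 0 .nil .nil) .nil) (.node 0 .nil .nil))) (.node 0 (.node 0 (.node 0 (.node 0 .nil .nil) .nil) (.node 0 .nil .nil)) (.node 0 (.node 0 (.node 0 .nil .nil) .nil) (.node 0 .nil .nil)))) (.node 0 (.node 0 (.node 0 (.node 0 (.node 0 .nil .nil) .nil) (.node 0 (.node 0 .nil .nil) .nil)) (.node 0 (.node 0 (.node 0 .nil .nil) .nil) (.node 0 .nil .nil))) (.node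 0 (.node 0 (.node 0 (.node 0 .nil .nil) .nil) (.node 0 .nil .nil)) (.node 0 (.node 0 (.node 0 .nil .nil) .nil) (.node 0 .nil .nil))))) (.node 0 (.node 0 (.node 0 (.node 0 (.node 0 (.node 0 .nil .nil) .nil) (.node 0 (.node 0 .nil .nil) .nil)) (.node 0 (.node 20 (.node 0 .nil .nil) .nil) (.node 0 .nil .nil))) (.node 0 (.node 0 (.node 0 (.node 0 .nil .nil) .nil) (.node 0 .nil .nil)) (.node 0 (.node 0 (.node 0 .nil .nil) .nil) (.node 0 .nil .nil)))) (.node 0 (.node 0 (.node 0 (.node 0 (.node 0 .nil .nil) .nil) (.node 0 (.node 0 .nil .nil) .nil)) (.node 0 (.node 0 (.node 0 .nil .nil) .nil) (.node 0 .nil .nil))) (.node 0 (.node 0 (.node 0 (.node 0 .nil .nil) .nil) (.node 0 .nil .nil)) (.node 0 (.node 0 (.node 0 .nil .nil) .nil) (.node 0 .nil .nil)))))) (.node 0 (.node 0 (.node 0 (.node 0 (.node 0 (.node 0 (.node 0 .nil .nil) .nil) (.node 0 (.node 0 .nil .nil) .nil)) (.node 0 (.node 0 (.node 0 .nil .nil) .nil) (.node 0 .nil .nil))) (.node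 0 (.node 0 (.node 0 (.node 0 .nil .nil) .nil) (.node 0 .nil .nil)) (.node 0 (.node 0 (.node 0 .nil .nil) .nil) (.node 0 .nil .nil)))) (.node 0 (.node 0 (.node 0 (.node 0 (.node 0 .nil .nil) .nil) (.node 0 (.node 0 .nil .nil) .nil)) (.node 3 (.node 0 (.node 0 .nil .nil) .nil) (.node 0 .nil .nil))) (.node 0 (.node 0 (.node 0 (.node 0 .nil .nil) .nil) (.node 0 .nil .nil)) (.node 0 (.node 0 (.node 0 .nil .nil) .nil) (.node 0 .nil .nil))))) (.node 0 (.node 0 (.node 0 (.node 0 (.node 0 (.node 0 .nil .nil) .nil) (.node 0 (.node 0 .nil .nil) .nil)) (.node 0 (.node 0 (.node 0 .nil .nil) .nil) (.node 0 .nil .nil))) (.node 0 (.node 0 (.node 0 (.node 0 .nil .nil) .nil) (.node 0 .nil .nil)) (.node 0 (.node 0 (.node 0 .nil .nil) .nil) (.node 0 .nil .nil)))) (.node 0 (.node 0 (.node 0 (.node 0 (.node 0 .nil .nil) .nil) (.node 0 .nil .nil)) (.node 0 (.node 0 (.node 0 .nil .nil) .nil) (.node 0 .nil .nil))) (.node 8 (.node 0 (.node 0 (.node 0 .nil .nil)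 .nil) (.node 0 .nil .nil)) (.node 0 (.node 0 (.node 0 .nil .nil) .nil) (.node 0 .nil .nil))))))) (.node 0 (.node 0 (.node 0 (.node 0 (.node 0 (.node 0 (.node 0 (.node 0 .nil .nil) .nil) (.node 0 (.node 0 .nil .nil) .nil)) (.node 0 (.node 0 (.node 0 .nil .nil) .nil) (.node 0 .nil .nil))) (.node 0 (.node 0 (.node 0 (.node 0 .nil .nil) .nil) (.node 0 .nil .nil)) (.node 0 (.node 0 (.node 0 .nil .nil) .nil) (.node 0 .nil .nil)))) (.node 0 (.node 0 (.node 0 (.node 0 (.node 0 .nil .nil) .nil) (.node 0 (.node 0 .nil .nil) .nil)) (.node 0 (.node 0 (.node 0 .nil .nil) .nil) (.node 0 .nil .nil))) (.node 0 (.node 0 (.node 0 (.node 0 .nil .nil) .nil) (.node 0 .nil .nil)) (.node 0 (.node 0 (.node 0 .nil .nil) .nil) (.node 0 .nil .nil))))) (.node 0 (.node 0 (.node 0 (.node 0 (.node 0 (.node 0 .nil .nil) .nil) (.node 1 (.node 0 .nil .nil) .nil)) (.node 0 (.node 0 (.node 0 .nil .nil) .nil) (.node 0 .nil .nil))) (.node 0 (.node 0 (.node 0 (.node 0 .nil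 .nil) .nil) (.node 0 .nil .nil)) (.node 0 (.node 0 (.node 0 .nil .nil) .nil) (.node 0 .nil .nil)))) (.node 0 (.node 0 (.node 0 (.node 0 (.node 0 .nil .nil) .nil) (.node 0 (.node 0 .nil .nil) .nil)) (.node 0 (.node 0 (.node 0 .nil .nil) .nil) (.node 0 .nil .nil))) (.node 0 (.node 0 (.node 0 (.node 0 .nil .nil) .nil) (.node 0 .nil .nil)) (.node 0 (.node 0 (.node 0 .nil .nil) .nil) (.node 0 .nil .nil)))))) (.node 0 (.node 0 (.node 0 (.node 0 (.node 0 (.node 0 (.node 0 .nil .nil) .nil) (.node 0 (.node 0 .nil .nil) .nil)) (.node 0 (.node 0 (.node 0 .nil .nil) .nil) (.node 0 .nil .nil))) (.node 0 (.node 0 (.node 0 (.node 0 .nil .nil) .nil) (.node 0 .nil .nil)) (.node 0 (.node 0 (.node 0 .nil .nil) .nil) (.node 0 .nil .nil)))) (.node 0 (.node 0 (.node 0 (.node 0 (.node 0 .nil .nil) .nil) (.node 0 (.node 0 .nil .nil) .nil)) (.node 0 (.node 0 (.node 0 .nil .nil) .nil) (.node 0 .nil .nil))) (.node 0 (.node 0 (.node 0 (.node 0 .nil .nil) .nil)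 (.node 0 .nil .nil)) (.node 0 (.node 0 (.node 0 .nil .nil) .nil) (.node 0 .nil .nil))))) (.node 0 (.node 0 (.node 0 (.node 0 (.node 0 (.node 0 .nil .nil) .nil) (.node 0 (.node 0 .nil .nil) .nil)) (.node 0 (.node 0 (.node 0 .nil .nil) .nil) (.node 0 .nil .nil))) (.node 0 (.node 0 (.node 0 (.node 0 .nil .nil) .nil) (.node 0 .nil .nil)) (.node 0 (.node 0 (.node 0 .nil .nil) .nil) (.node 0 .nil .nil)))) (.node 0 (.node 0 (.node 0 (.node 0 (.node 0 .nil .nil) .nil) (.node 0 .nil .nil)) (.node 0 (.node 0 (.node 0 .nil .nil) .nil) (.node 0 .nil .nil))) (.node 0 (.node 0 (.node 0 (.node 0 .nil .nil) .nil) (.node 0 .nil .nil)) (.node 0 (.node 0 (.node 0 .nil .nil) .nil) (.node 0 .nil .nil))))))))) (.node 0 (.node 0 (.node 0 (.node 0 (.node 0 (.node 0 (.node 0 (.node 0 (.node 0 (.node 0 .nil .nil) .nil) (.node 0 (.node 0 .nil .nil) .nil)) (.node 0 (.node 0 (.node 0 .nil .nil) .nil) (.node 0 .nil .nil))) (.node 0 (.node 0 (.node 0 (.node 0 .nil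 .nil) .nil) (.node 0 .nil .nil)) (.node 0 (.node 0 (.node 0 .nil .nil) .nil) (.node 0 .nil .nil)))) (.node 0 (.node 0 (.node 0 (.node 0 (.node 0 .nil .nil) .nil) (.node 0 (.node 0 .nil .nil) .nil)) (.node 0 (.node 0 (.node 0 .nil .nil) .nil) (.node 0 .nil .nil))) (.node 0 (.node 0 (.node 0 (.node 0 .nil .nil) .nil) (.node 0 .nil .nil)) (.node 0 (.node 0 (.node 0 .nil .nil) .nil) (.node 0 .nil .nil))))) (.node 0 (.node 0 (.node 0 (.node 0 (.node 0 (.node 0 .nil .nil) .nil) (.node 0 (.node 0 .nil .nil) .nil)) (.node 0 (.node 0 (.node 0 .nil .nil) .nil) (.node 0 .nil .nil))) (.node 0 (.node 0 (.node 0 (.node 0 .nil .nil) .nil) (.node 0 .nil .nil)) (.node 0 (.node 0 (.node 0 .nil .nil) .nil) (.node 0 .nil .nil)))) (.node 0 (.node 0 (.node 0 (.node 0 (.node 0 .nil .nil) .nil) (.node 0 (.node 0 .nil .nil) .nil)) (.node 0 (.node 0 (.node 0 .nil .nil) .nil) (.node 0 .nil .nil))) (.node 0 (.node 0 (.node 0 (.node 0 .nil .nil) .nil) (.node 0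 .nil .nil)) (.node 0 (.node 0 (.node 0 .nil .nil) .nil) (.node 0 .nil .nil)))))) (.node 0 (.node 0 (.node 0 (.node 0 (.node 0 (.node 0 (.node 1 .nil .nil) .nil) (.node 0 (.node 0 .nil .nil) .nil)) (.node 0 (.node 0 (.node 0 .nil .nil) .nil) (.node 0 .nil .nil))) (.node 0 (.node 0 (.node 0 (.node 0 .nil .nil) .nil) (.node 0 .nil .nil)) (.node 0 (.node 0 (.node 0 .nil .nil) .nil) (.node 0 .nil .nil)))) (.node 0 (.node 0 (.node 0 (.node 0 (.node 0 .nil .nil) .nil) (.node 0 (.node 0 .nil .nil) .nil)) (.node 0 (.node 0 (.node 0 .nil .nil) .nil) (.node 0 .nil .nil))) (.node 0 (.node 0 (.node 0 (.node 0 .nil .nil) .nil) (.node 0 .nil .nil)) (.node 0 (.node 0 (.node 0 .nil .nil) .nil) (.node 0 .nil .nil))))) (.node 0 (.node 0 (.node 0 (.node 0 (.node 0 (.node 0 .nil .nil) .nil) (.node 0 (.node 0 .nil .nil) .nil)) (.node 0 (.node 0 (.node 0 .nil .nil) .nil) (.node 0 .nil .nil))) (.node 0 (.node 0 (.node 0 (.node 0 .nil .nil) .nil) (.node 0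 .nil .nil)) (.node 0 (.node 0 (.node 0 .nil .nil) .nil) (.node 0 .nil .nil)))) (.node 0 (.node 0 (.node 0 (.node 0 (.node 0 .nil .nil) .nil) (.node 0 .nil .nil)) (.node 0 (.node 0 (.node 0 .nil .nil) .nil) (.node 0 .nil .nil))) (.node 0 (.node 0 (.node 0 (.node 0 .nil .nil) .nil) (.node 0 .nil .nil)) (.node 0 (.node 0 (.node 0 .nil .nil) .nil) (.node 0 .nil .nil))))))) (.node 0 (.node 0 (.node 0 (.node 0 (.node 0 (.node 0 (.node 0 (.node 0 .nil .nil) .nil) (.node 0 (.node 0 .nil .nil) .nil)) (.node 0 (.node 0 (.node 0 .nil .nil) .nil) (.node 0 .nil .nil))) (.node 0 (.node 0 (.node 0 (.node 0 .nil .nil) .nil) (.node 0 .nil .nil)) (.node 0 (.node 0 (.node 0 .nil .nil) .nil) (.node 0 .nil .nil)))) (.node 0 (.node 0 (.node 0 (.node 0 (.node 0 .nil .nil) .nil) (.node 0 (.node 0 .nil .nil) .nil)) (.node 0 (.node 0 (.node 0 .nil .nil) .nil) (.node 0 .nil .nil))) (.node 0 (.node 0 (.node 0 (.node 0 .nil .nil) .nil) (.node 0 .nil .nil)) (.node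 0 (.node 0 (.node 0 .nil .nil) .nil) (.node 0 .nil .nil))))) (.node 0 (.node 0 (.node 0 (.node 0 (.node 0 (.node 0 .nil .nil) .nil) (.node 0 (.node 0 .nil .nil) .nil)) (.node 0 (.node 0 (.node 0 .nil .nil) .nil) (.node 0 .nil .nil))) (.node 0 (.node 0 (.node 0 (.node 0 .nil .nil) .nil) (.node 6 .nil .nil)) (.node 0 (.node 12 (.node 0 .nil .nil) .nil) (.node 0 .nil .nil)))) (.node 0 (.node 0 (.node 0 (.node 0 (.node 0 .nil .nil) .nil) (.node 0 (.node 0 .nil .nil) .nil)) (.node 0 (.node 0 (.node 0 .nil .nil) .nil) (.node 0 .nil .nil))) (.node 0 (.node 0 (.node 0 (.node 0 .nil .nil) .nil) (.node 0 .nil .nil)) (.node 0 (.node 0 (.node 0 .nil .nil) .nil) (.node 0 .nil .nil)))))) (.node 0 (.node 0 (.node 0 (.node 0 (.node 0 (.node 0 (.node 0 .nil .nil) .nil) (.node 0 (.node 0 .nil .nil) .nil)) (.node 0 (.node 0 (.node 0 .nil .nil) .nil) (.node 0 .nil .nil))) (.node 0 (.node 0 (.node 0 (.node 0 .nil .nil) .nil) (.node 0 .nil .nil)) (.node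 0 (.node 0 (.node 0 .nil .nil) .nil) (.node 0 .nil .nil)))) (.node 0 (.node 0 (.node 0 (.node 0 (.node 0 .nil .nil) .nil) (.node 0 (.node 0 .nil .nil) .nil)) (.node 0 (.node 0 (.node 0 .nil .nil) .nil) (.node 0 .nil .nil))) (.node 0 (.node 0 (.node 0 (.node 0 .nil .nil) .nil) (.node 0 .nil .nil)) (.node 0 (.node 0 (.node 0 .nil .nil) .nil) (.node 0 .nil .nil))))) (.node 1 (.node 0 (.node 0 (.node 0 (.node 0 (.node 0 .nil .nil) .nil) (.node 0 (.node 0 .nil .nil) .nil)) (.node 0 (.node 0 (.node 0 .nil .nil) .nil) (.node 0 .nil .nil))) (.node 0 (.node 0 (.node 0 (.node 0 .nil .nil) .nil) (.node 0 .nil .nil)) (.node 0 (.node 0 (.node 0 .nil .nil) .nil) (.node 0 .nil .nil)))) (.node 0 (.node 0 (.node 0 (.node 0 (.node 0 .nil .nil) .nil) (.node 0 .nil .nil)) (.node 0 (.node 0 (.node 0 .nil .nil) .nil) (.node 0 .nil .nil))) (.node 0 (.node 0 (.node 0 (.node 0 .nil .nil) .nil) (.node 0 .nil .nil)) (.node 0 (.node 0 (.node 0 .nil .nil) .nil)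 (.node 0 .nil .nil)))))))) (.node 0 (.node 0 (.node 0 (.node 0 (.node 0 (.node 0 (.node 0 (.node 0 (.node 0 .nil .nil) .nil) (.node 0 (.node 0 .nil .nil) .nil)) (.node 0 (.node 0 (.node 0 .nil .nil) .nil) (.node 0 .nil .nil))) (.node 0 (.node 0 (.node 0 (.node 0 .nil .nil) .nil) (.node 0 .nil .nil)) (.node 0 (.node 0 (.node 0 .nil .nil) .nil) (.node 0 .nil .nil)))) (.node 0 (.node 0 (.node 0 (.node 1 (.node 0 .nil .nil) .nil) (.node 0 (.node 0 .nil .nil) .nil)) (.node 0 (.node 0 (.node 0 .nil .nil) .nil) (.node 0 .nil .nil))) (.node 0 (.node 0 (.node 0 (.node 0 .nil .nil) .nil) (.node 0 .nil .nil)) (.node 0 (.node 0 (.node 0 .nil .nil) .nil) (.node 0 .nil .nil))))) (.node 0 (.node 0 (.node 0 (.node 0 (.node 0 (.node 0 .nil .nil) .nil) (.node 0 (.node 0 .nil .nil) .nil)) (.node 0 (.node 0 (.node 0 .nil .nil) .nil) (.node 0 .nil .nil))) (.node 0 (.node 0 (.node 0 (.node 0 .nil .nil) .nil) (.node 0 .nil .nil)) (.node 0 (.node 0 (.node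 0 .nil .nil) .nil) (.node 0 .nil .nil)))) (.node 0 (.node 0 (.node 0 (.node 0 (.node 0 .nil .nil) .nil) (.node 0 (.node 0 .nil .nil) .nil)) (.node 0 (.node 0 (.node 0 .nil .nil) .nil) (.node 0 .nil .nil))) (.node 0 (.node 0 (.node 0 (.node 0 .nil .nil) .nil) (.node 0 .nil .nil)) (.node 0 (.node 0 (.node 0 .nil .nil) .nil) (.node 0 .nil .nil)))))) (.node 0 (.node 0 (.node 0 (.node 0 (.node 0 (.node 0 (.node 0 .nil .nil) .nil) (.node 0 (.node 0 .nil .nil) .nil)) (.node 0 (.node 0 (.node 0 .nil .nil) .nil) (.node 0 .nil .nil))) (.node 0 (.node 0 (.node 0 (.node 0 .nil .nil) .nil) (.node 0 .nil .nil)) (.node 0 (.node 0 (.node 0 .nil .nil) .nil) (.node 0 .nil .nil)))) (.node 0 (.node 0 (.node 0 (.node 0 (.node 0 .nil .nil) .nil) (.node 0 (.node 0 .nil .nil) .nil)) (.node 0 (.node 0 (.node 0 .nil .nil) .nil) (.node 0 .nil .nil))) (.node 0 (.node 0 (.node 0 (.node 0 .nil .nil) .nil) (.node 0 .nil .nil)) (.node 0 (.node 0 (.node 0 .nil .nil)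 .nil) (.node 0 .nil .nil))))) (.node 0 (.node 0 (.node 0 (.node 0 (.node 0 (.node 0 .nil .nil) .nil) (.node 0 (.node 0 .nil .nil) .nil)) (.node 0 (.node 0 (.node 0 .nil .nil) .nil) (.node 0 .nil .nil))) (.node 0 (.node 0 (.node 0 (.node 0 .nil .nil) .nil) (.node 0 .nil .nil)) (.node 0 (.node 0 (.node 0 .nil .nil) .nil) (.node 0 .nil .nil)))) (.node 0 (.node 0 (.node 0 (.node 0 (.node 0 .nil .nil) .nil) (.node 0 .nil .nil)) (.node 0 (.node 0 (.node 0 .nil .nil) .nil) (.node 0 .nil .nil))) (.node 0 (.node 0 (.node 0 (.node 0 .nil .nil) .nil) (.node 0 .nil .nil)) (.node 0 (.node 0 (.node 0 .nil .nil) .nil) (.node 0 .nil .nil))))))) (.node 0 (.node 0 (.node 0 (.node 0 (.node 0 (.node 0 (.node 0 (.node 0 .nil .nil) .nil) (.node 0 (.node 0 .nil .nil) .nil)) (.node 0 (.node 0 (.node 0 .nil .nil) .nil) (.node 0 .nil .nil))) (.node 0 (.node 0 (.node 0 (.node 0 .nil .nil) .nil) (.node 0 .nil .nil)) (.node 0 (.node 0 (.node 0 .nil .nil) .nil)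 (.node 0 .nil .nil)))) (.node 0 (.node 0 (.node 0 (.node 0 (.node 0 .nil .nil) .nil) (.node 0 (.node 0 .nil .nil) .nil)) (.node 0 (.node 0 (.node 0 .nil .nil) .nil) (.node 0 .nil .nil))) (.node 0 (.node 0 (.node 0 (.node 0 .nil .nil) .nil) (.node 0 .nil .nil)) (.node 0 (.node 0 (.node 0 .nil .nil) .nil) (.node 0 .nil .nil))))) (.node 0 (.node 0 (.node 0 (.node 0 (.node 0 (.node 0 .nil .nil) .nil) (.node 0 (.node 0 .nil .nil) .nil)) (.node 0 (.node 0 (.node 0 .nil .nil) .nil) (.node 0 .nil .nil))) (.node 0 (.node 0 (.node 0 (.node 0 .nil .nil) .nil) (.node 0 .nil .nil)) (.node 0 (.node 0 (.node 0 .nil .nil) .nil) (.node 0 .nil .nil)))) (.node 0 (.node 0 (.node 0 (.node 0 (.node 0 .nil .nil) .nil) (.node 0 (.node 0 .nil .nil) .nil)) (.node 0 (.node 0 (.node 0 .nil .nil) .nil) (.node 0 .nil .nil))) (.node 0 (.node 0 (.node 0 (.node 0 .nil .nil) .nil) (.node 0 .nil .nil)) (.node 0 (.node 0 (.node 0 .nil .nil) .nil) (.node 0 .nil .nil))))))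 (.node 0 (.node 0 (.node 0 (.node 0 (.node 0 (.node 0 (.node 0 .nil .nil) .nil) (.node 0 (.node 0 .nil .nil) .nil)) (.node 0 (.node 0 (.node 0 .nil .nil) .nil) (.node 0 .nil .nil))) (.node 0 (.node 0 (.node 0 (.node 0 .nil .nil) .nil) (.node 0 .nil .nil)) (.node 0 (.node 0 (.node 0 .nil .nil) .nil) (.node 0 .nil .nil)))) (.node 0 (.node 0 (.node 0 (.node 0 (.node 0 .nil .nil) .nil) (.node 0 (.node 0 .nil .nil) .nil)) (.node 0 (.node 0 (.node 0 .nil .nil) .nil) (.node 0 .nil .nil))) (.node 0 (.node 6 (.node 0 (.node 0 .nil .nil) .nil) (.node 0 .nil .nil)) (.node 0 (.node 0 (.node 0 .nil .nil) .nil) (.node 18 .nil .nil))))) (.node 0 (.node 0 (.node 0 (.node 0 (.node 0 (.node 0 .nil .nil) .nil) (.node 0 (.node 0 .nil .nil) .nil)) (.node 0 (.node 0 (.node 0 .nil .nil) .nil) (.node 0 .nil .nil))) (.node 0 (.node 0 (.node 0 (.node 0 .nil .nil) .nil) (.node 0 .nil .nil)) (.node 0 (.node 0 (.node 0 .nil .nil) .nil) (.node 0 .nil .nil)))) (.node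 0 (.node 0 (.node 0 (.node 0 (.node 0 .nil .nil) .nil) (.node 0 .nil .nil)) (.node 0 (.node 0 (.node 0 .nil .nil) .nil) (.node 0 .nil .nil))) (.node 0 (.node 0 (.node 0 (.node 0 .nil .nil) .nil) (.node 0 .nil .nil)) (.node 0 (.node 0 (.node 0 .nil .nil) .nil) (.node 0 .nil .nil))))))))))

/-- Data. -/
noncomputable def stab_1 : Arr (ℕ) := (.node 0 (.node 0 (.node 0 (.node 0 (.node 0 (.node 0 (.node 0 (.node 8 (.node 0 (.node 0 (.node 0 .nil .nil) .nil) (.node 0 (.node 0 .nil .nil) .nil)) (.node 0 (.node 0 (.node 0 .nil .nil) .nil) (.node 0 .nil .nil))) (.node 0 (.node 0 (.node 0 (.node 0 .nil .nil) .nil) (.node 0 .nil .nil)) (.node 0 (.node 0 (.node 0 .nil .nil) .nil) (.node 0 .nil .nil)))) (.node 0 (.node 0 (.node 0 (.node 0 (.node 0 .nil .nil) .nil) (.node 0 (.node 0 .nil .nil) .nil)) (.node 0 (.node 0 (.node 0 .nil .nil) .nil) (.node 0 .nil .nil))) (.node 0 (.node 0 (.node 0 (.node 0 .nil .nil) .nil) (.node 0 .nil .nil)) (.node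 0 (.node 0 (.node 0 .nil .nil) .nil) (.node 0 .nil .nil))))) (.node 0 (.node 0 (.node 0 (.node 0 (.node 0 (.node 0 .nil .nil) .nil) (.node 0 (.node 0 .nil .nil) .nil)) (.node 0 (.node 0 (.node 0 .nil .nil) .nil) (.node 0 .nil .nil))) (.node 0 (.node 0 (.node 0 (.node 0 .nil .nil) .nil) (.node 0 .nil .nil)) (.node 0 (.node 0 (.node 0 .nil .nil) .nil) (.node 0 .nil .nil)))) (.node 0 (.node 0 (.node 0 (.node 0 (.node 0 .nil .nil) .nil) (.node 0 (.node 0 .nil .nil) .nil)) (.node 0 (.node 0 (.node 0 .nil .nil) .nil) (.node 0 .nil .nil))) (.node 0 (.node 0 (.node 0 (.node 0 .nil .nil) .nil) (.node 0 .nil .nil)) (.node 0 (.node 0 (.node 0 .nil .nil) .nil) (.node 0 .nil .nil)))))) (.node 0 (.node 0 (.node 0 (.node 0 (.node 0 (.node 0 (.node 0 .nil .nil) .nil) (.node 0 (.node 0 .nil .nil) .nil)) (.node 0 (.node 0 (.node 0 .nil .nil) .nil) (.node 0 .nil .nil))) (.node 0 (.node 0 (.node 0 (.node 0 .nil .nil) .nil) (.node 0 .nil .nil)) (.node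 0 (.node 0 (.node 0 .nil .nil) .nil) (.node 0 .nil .nil)))) (.node 0 (.node 0 (.node 0 (.node 0 (.node 0 .nil .nil) .nil) (.node 0 (.node 0 .nil .nil) .nil)) (.node 0 (.node 0 (.node 0 .nil .nil) .nil) (.node 0 .nil .nil))) (.node 0 (.node 0 (.node 0 (.node 0 .nil .nil) .nil) (.node 0 .nil .nil)) (.node 0 (.node 0 (.node 0 .nil .nil) .nil) (.node 0 .nil .nil))))) (.node 0 (.node 0 (.node 0 (.node 0 (.node 0 (.node 0 .nil .nil) .nil) (.node 0 (.node 0 .nil .nil) .nil)) (.node 0 (.node 0 (.node 0 .nil .nil) .nil) (.node 0 .nil .nil))) (.node 0 (.node 11 (.node 0 (.node 0 .nil .nil) .nil) (.node 0 .nil .nil)) (.node 0 (.node 0 (.node 0 .nil .nil) .nil) (.node 0 .nil .nil)))) (.node 0 (.node 0 (.node 0 (.node 0 (.node 0 .nil .nil) .nil) (.node 0 (.node 0 .nil .nil) .nil)) (.node 0 (.node 0 (.node 0 .nil .nil) .nil) (.node 0 .nil .nil))) (.node 0 (.node 0 (.node 0 (.node 0 .nil .nil) .nil) (.node 0 .nil .nil)) (.node 0 (.node 0 (.node 0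 .nil .nil) .nil) (.node 0 .nil .nil))))))) (.node 0 (.node 0 (.node 0 (.node 0 (.node 0 (.node 0 (.node 0 (.node 0 .nil .nil) .nil) (.node 0 (.node 0 .nil .nil) .nil)) (.node 0 (.node 0 (.node 0 .nil .nil) .nil) (.node 0 .nil .nil))) (.node 0 (.node 0 (.node 0 (.node 0 .nil .nil) .nil) (.node 0 .nil .nil)) (.node 0 (.node 0 (.node 0 .nil .nil) .nil) (.node 0 .nil .nil)))) (.node 0 (.node 0 (.node 0 (.node 0 (.node 0 .nil .nil) .nil) (.node 0 (.node 0 .nil .nil) .nil)) (.node 0 (.node 0 (.node 0 .nil .nil) .nil) (.node 0 .nil .nil))) (.node 0 (.node 0 (.node 0 (.node 0 .nil .nil) .nil) (.node 0 .nil .nil)) (.node 0 (.node 0 (.node 0 .nil .nil) .nil) (.node 0 .nil .nil))))) (.node 0 (.node 0 (.node 0 (.node 0 (.node 0 (.node 0 .nil .nil) .nil) (.node 0 (.node 0 .nil .nil) .nil)) (.node 0 (.node 0 (.node 0 .nil .nil) .nil) (.node 0 .nil .nil))) (.node 0 (.node 0 (.node 0 (.node 0 .nil .nil) .nil) (.node 0 .nil .nil)) (.node 0 (.node 0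 (.node 0 .nil .nil) .nil) (.node 0 .nil .nil)))) (.node 0 (.node 0 (.node 0 (.node 0 (.node 0 .nil .nil) .nil) (.node 0 (.node 0 .nil .nil) .nil)) (.node 0 (.node 0 (.node 0 .nil .nil) .nil) (.node 0 .nil .nil))) (.node 0 (.node 0 (.node 0 (.node 0 .nil .nil) .nil) (.node 0 .nil .nil)) (.node 0 (.node 0 (.node 0 .nil .nil) .nil) (.node 0 .nil .nil)))))) (.node 0 (.node 0 (.node 0 (.node 0 (.node 0 (.node 0 (.node 0 .nil .nil) .nil) (.node 0 (.node 0 .nil .nil) .nil)) (.node 0 (.node 0 (.node 0 .nil .nil) .nil) (.node 0 .nil .nil))) (.node 0 (.node 0 (.node 0 (.node 0 .nil .nil) .nil) (.node 0 .nil .nil)) (.node 0 (.node 0 (.node 0 .nil .nil) .nil) (.node 0 .nil .nil)))) (.node 0 (.node 0 (.node 0 (.node 0 (.node 0 .nil .nil) .nil) (.node 0 (.node 0 .nil .nil) .nil)) (.node 0 (.node 0 (.node 0 .nil .nil) .nil) (.node 0 .nil .nil))) (.node 0 (.node 0 (.node 0 (.node 0 .nil .nil) .nil) (.node 0 .nil .nil)) (.node 0 (.node 0 (.node 0 .nil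 .nil) .nil) (.node 0 .nil .nil))))) (.node 0 (.node 0 (.node 0 (.node 0 (.node 0 (.node 0 .nil .nil) .nil) (.node 0 (.node 0 .nil .nil) .nil)) (.node 0 (.node 1 (.node 0 .nil .nil) .nil) (.node 0 .nil .nil))) (.node 0 (.node 0 (.node 0 (.node 0 .nil .nil) .nil) (.node 0 .nil .nil)) (.node 0 (.node 0 (.node 0 .nil .nil) .nil) (.node 0 .nil .nil)))) (.node 0 (.node 0 (.node 0 (.node 0 (.node 0 .nil .nil) .nil) (.node 0 .nil .nil)) (.node 0 (.node 13 (.node 0 .nil .nil) .nil) (.node 0 .nil .nil))) (.node 0 (.node 0 (.node 0 (.node 0 .nil .nil) .nil) (.node 0 .nil .nil)) (.node 0 (.node 0 (.node 0 .nil .nil) .nil) (.node 0 .nil .nil)))))))) (.node 0 (.node 0 (.node 0 (.node 0 (.node 0 (.node 0 (.node 0 (.node 0 (.node 0 .nil .nil) .nil) (.node 0 (.node 0 .nil .nil) .nil)) (.node 0 (.node 0 (.node 1 .nil .nil) .nil) (.node 0 .nil .nil))) (.node 0 (.node 0 (.node 0 (.node 0 .nil .nil) .nil) (.node 0 .nil .nil)) (.node 0 (.node 0 (.node 0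 .nil .nil) .nil) (.node 0 .nil .nil)))) (.node 0 (.node 0 (.node 0 (.node 0 (.node 0 .nil .nil) .nil) (.node 0 (.node 0 .nil .nil) .nil)) (.node 0 (.node 0 (.node 0 .nil .nil) .nil) (.node 0 .nil .nil))) (.node 0 (.node 0 (.node 0 (.node 0 .nil .nil) .nil) (.node 0 .nil .nil)) (.node 0 (.node 0 (.node 0 .nil .nil) .nil) (.node 0 .nil .nil))))) (.node 20 (.node 0 (.node 0 (.node 0 (.node 0 (.node 0 .nil .nil) .nil) (.node 0 (.node 0 .nil .nil) .nil)) (.node 0 (.node 0 (.node 0 .nil .nil) .nil) (.node 0 .nil .nil))) (.node 0 (.node 0 (.node 0 (.node 0 .nil .nil) .nil) (.node 0 .nil .nil)) (.node 0 (.node 0 (.node 0 .nil .nil) .nil) (.node 0 .nil .nil)))) (.node 0 (.node 0 (.node 0 (.node 0 (.node 0 .nil .nil) .nil) (.node 0 (.node 0 .nil .nil) .nil)) (.node 0 (.node 0 (.node 0 .nil .nil) .nil) (.node 0 .nil .nil))) (.node 0 (.node 0 (.node 0 (.node 0 .nil .nil) .nil) (.node 0 .nil .nil)) (.node 15 (.node 0 (.node 0 .nil .nil) .nil) (.node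 0 .nil .nil)))))) (.node 0 (.node 0 (.node 0 (.node 0 (.node 0 (.node 0 (.node 0 .nil .nil) .nil) (.node 19 (.node 0 .nil .nil) .nil)) (.node 0 (.node 0 (.node 0 .nil .nil) .nil) (.node 0 .nil .nil))) (.node 0 (.node 0 (.node 0 (.node 0 .nil .nil) .nil) (.node 0 .nil .nil)) (.node 0 (.node 0 (.node 0 .nil .nil) .nil) (.node 0 .nil .nil)))) (.node 0 (.node 0 (.node 0 (.node 0 (.node 0 .nil .nil) .nil) (.node 0 (.node 0 .nil .nil) .nil)) (.node 0 (.node 0 (.node 0 .nil .nil) .nil) (.node 0 .nil .nil))) (.node 0 (.node 0 (.node 0 (.node 0 .nil .nil) .nil) (.node 0 .nil .nil)) (.node 0 (.node 0 (.node 0 .nil .nil) .nil) (.node 0 .nil .nil))))) (.node 0 (.node 0 (.node 0 (.node 0 (.node 0 (.node 0 .nil .nil) .nil) (.node 0 (.node 0 .nil .nil) .nil)) (.node 0 (.node 0 (.node 0 .nil .nil) .nil) (.node 0 .nil .nil))) (.node 0 (.node 0 (.node 0 (.node 0 .nil .nil) .nil) (.node 0 .nil .nil)) (.node 0 (.node 0 (.node 0 .nil .nil) .nil) (.node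 0 .nil .nil)))) (.node 0 (.node 0 (.node 0 (.node 0 (.node 0 .nil .nil) .nil) (.node 0 .nil .nil)) (.node 0 (.node 0 (.node 0 .nil .nil) .nil) (.node 0 .nil .nil))) (.node 0 (.node 0 (.node 0 (.node 0 .nil .nil) .nil) (.node 0 .nil .nil)) (.node 0 (.node 0 (.node 0 .nil .nil) .nil) (.node 0 .nil .nil))))))) (.node 0 (.node 0 (.node 0 (.node 0 (.node 0 (.node 0 (.node 0 (.node 0 .nil .nil) .nil) (.node 0 (.node 0 .nil .nil) .nil)) (.node 0 (.node 0 (.node 0 .nil .nil) .nil) (.node 0 .nil .nil))) (.node 0 (.node 0 (.node 0 (.node 0 .nil .nil) .nil) (.node 0 .nil .nil)) (.node 0 (.node 0 (.node 0 .nil .nil) .nil) (.node 0 .nil .nil)))) (.node 0 (.node 0 (.node 0 (.node 0 (.node 0 .nil .nil) .nil) (.node 0 (.node 0 .nil .nil) .nil)) (.node 0 (.node 0 (.node 0 .nil .nil) .nil) (.node 0 .nil .nil))) (.node 0 (.node 0 (.node 0 (.node 0 .nil .nil) .nil) (.node 0 .nil .nil)) (.node 0 (.node 0 (.node 0 .nil .nil) .nil) (.node 0 .nil .nil)))))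 (.node 0 (.node 0 (.node 0 (.node 0 (.node 0 (.node 0 .nil .nil) .nil) (.node 0 (.node 0 .nil .nil) .nil)) (.node 0 (.node 0 (.node 0 .nil .nil) .nil) (.node 0 .nil .nil))) (.node 0 (.node 0 (.node 0 (.node 0 .nil .nil) .nil) (.node 0 .nil .nil)) (.node 0 (.node 0 (.node 0 .nil .nil) .nil) (.node 0 .nil .nil)))) (.node 0 (.node 1 (.node 0 (.node 0 (.node 0 .nil .nil) .nil) (.node 0 (.node 0 .nil .nil) .nil)) (.node 0 (.node 0 (.node 0 .nil .nil) .nil) (.node 0 .nil .nil))) (.node 0 (.node 0 (.node 0 (.node 0 .nil .nil) .nil) (.node 0 .nil .nil)) (.node 0 (.node 0 (.node 0 .nil .nil) .nil) (.node 0 .nil .nil)))))) (.node 0 (.node 0 (.node 0 (.node 0 (.node 0 (.node 0 (.node 0 .nil .nil) .nil) (.node 0 (.node 0 .nil .nil) .nil)) (.node 0 (.node 0 (.node 0 .nil .nil) .nil) (.node 0 .nil .nil))) (.node 0 (.node 0 (.node 0 (.node 0 .nil .nil) .nil) (.node 0 .nil .nil)) (.node 0 (.node 0 (.node 0 .nil .nil) .nil) (.node 0 .nil .nil)))) (.node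 0 (.node 0 (.node 0 (.node 0 (.node 0 .nil .nil) .nil) (.node 0 (.node 0 .nil .nil) .nil)) (.node 0 (.node 0 (.node 0 .nil .nil) .nil) (.node 17 .nil .nil))) (.node 0 (.node 0 (.node 0 (.node 0 .nil .nil) .nil) (.node 0 .nil .nil)) (.node 0 (.node 0 (.node 0 .nil .nil) .nil) (.node 0 .nil .nil))))) (.node 0 (.node 0 (.node 0 (.node 0 (.node 0 (.node 0 .nil .nil) .nil) (.node 0 (.node 0 .nil .nil) .nil)) (.node 0 (.node 0 (.node 0 .nil .nil) .nil) (.node 0 .nil .nil))) (.node 0 (.node 0 (.node 0 (.node 0 .nil .nil) .nil) (.node 0 .nil .nil)) (.node 0 (.node 0 (.node 0 .nil .nil) .nil) (.node 0 .nil .nil)))) (.node 0 (.node 0 (.node 0 (.node 0 (.node 0 .nil .nil) .nil) (.node 0 .nil .nil)) (.node 0 (.node 0 (.node 0 .nil .nil) .nil) (.node 0 .nil .nil))) (.node 0 (.node 0 (.node 0 (.node 0 .nil .nil) .nil) (.node 0 .nil .nil)) (.node 0 (.node 0 (.node 0 .nil .nil) .nil) (.node 0 .nil .nil))))))))) (.node 0 (.node 0 (.node 0 (.node 0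 (.node 0 (.node 0 (.node 0 (.node 0 (.node 0 (.node 0 .nil .nil) .nil) (.node 0 (.node 0 .nil .nil) .nil)) (.node 0 (.node 0 (.node 0 .nil .nil) .nil) (.node 0 .nil .nil))) (.node 0 (.node 0 (.node 0 (.node 0 .nil .nil) .nil) (.node 0 .nil .nil)) (.node 0 (.node 0 (.node 0 .nil .nil) .nil) (.node 0 .nil .nil)))) (.node 0 (.node 0 (.node 0 (.node 0 (.node 0 .nil .nil) .nil) (.node 0 (.node 0 .nil .nil) .nil)) (.node 0 (.node 0 (.node 0 .nil .nil) .nil) (.node 0 .nil .nil))) (.node 0 (.node 0 (.node 0 (.node 0 .nil .nil) .nil) (.node 0 .nil .nil)) (.node 0 (.node 0 (.node 0 .nil .nil) .nil) (.node 0 .nil .nil))))) (.node 0 (.node 0 (.node 0 (.node 0 (.node 0 (.node 0 .nil .nil) .nil) (.node 0 (.node 0 .nil .nil) .nil)) (.node 0 (.node 0 (.node 0 .nil .nil) .nil) (.node 0 .nil .nil))) (.node 0 (.node 0 (.node 0 (.node 0 .nil .nil) .nil) (.node 0 .nil .nil)) (.node 0 (.node 0 (.node 0 .nil .nil) .nil) (.node 0 .nil .nil)))) (.node 0 (.node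 0 (.node 0 (.node 0 (.node 0 .nil .nil) .nil) (.node 0 (.node 0 .nil .nil) .nil)) (.node 0 (.node 0 (.node 0 .nil .nil) .nil) (.node 0 .nil .nil))) (.node 0 (.node 0 (.node 0 (.node 0 .nil .nil) .nil) (.node 0 .nil .nil)) (.node 0 (.node 0 (.node 0 .nil .nil) .nil) (.node 0 .nil .nil)))))) (.node 0 (.node 0 (.node 0 (.node 0 (.node 0 (.node 0 (.node 0 .nil .nil) .nil) (.node 0 (.node 0 .nil .nil) .nil)) (.node 0 (.node 0 (.node 0 .nil .nil) .nil) (.node 0 .nil .nil))) (.node 0 (.node 0 (.node 0 (.node 0 .nil .nil) .nil) (.node 0 .nil .nil)) (.node 0 (.node 0 (.node 0 .nil .nil) .nil) (.node 0 .nil .nil)))) (.node 0 (.node 0 (.node 0 (.node 0 (.node 0 .nil .nil) .nil) (.node 0 (.node 0 .nil .nil) .nil)) (.node 1 (.node 0 (.node 0 .nil .nil) .nil) (.node 0 .nil .nil))) (.node 0 (.node 0 (.node 0 (.node 0 .nil .nil) .nil) (.node 0 .nil .nil)) (.node 0 (.node 0 (.node 0 .nil .nil) .nil) (.node 0 .nil .nil))))) (.node 0 (.node 0 (.node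 0 (.node 0 (.node 0 (.node 0 .nil .nil) .nil) (.node 0 (.node 0 .nil .nil) .nil)) (.node 0 (.node 0 (.node 0 .nil .nil) .nil) (.node 0 .nil .nil))) (.node 0 (.node 0 (.node 0 (.node 0 .nil .nil) .nil) (.node 0 .nil .nil)) (.node 0 (.node 0 (.node 0 .nil .nil) .nil) (.node 0 .nil .nil)))) (.node 0 (.node 0 (.node 0 (.node 0 (.node 0 .nil .nil) .nil) (.node 0 .nil .nil)) (.node 0 (.node 0 (.node 0 .nil .nil) .nil) (.node 0 .nil .nil))) (.node 0 (.node 0 (.node 0 (.node 0 .nil .nil) .nil) (.node 0 .nil .nil)) (.node 0 (.node 0 (.node 0 .nil .nil) .nil) (.node 0 .nil .nil))))))) (.node 0 (.node 0 (.node 0 (.node 0 (.node 0 (.node 0 (.node 0 (.node 0 .nil .nil) .nil) (.node 0 (.node 0 .nil .nil) .nil)) (.node 0 (.node 0 (.node 0 .nil .nil) .nil) (.node 0 .nil .nil))) (.node 0 (.node 0 (.node 0 (.node 0 .nil .nil) .nil) (.node 0 .nil .nil)) (.node 0 (.node 0 (.node 0 .nil .nil) .nil) (.node 0 .nil .nil)))) (.node 0 (.node 0 (.node 0 (.node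 0 (.node 0 .nil .nil) .nil) (.node 0 (.node 0 .nil .nil) .nil)) (.node 0 (.node 0 (.node 0 .nil .nil) .nil) (.node 0 .nil .nil))) (.node 0 (.node 0 (.node 0 (.node 0 .nil .nil) .nil) (.node 0 .nil .nil)) (.node 0 (.node 0 (.node 0 .nil .nil) .nil) (.node 0 .nil .nil))))) (.node 0 (.node 0 (.node 0 (.node 0 (.node 0 (.node 0 .nil .nil) .nil) (.node 0 (.node 0 .nil .nil) .nil)) (.node 0 (.node 0 (.node 0 .nil .nil) .nil) (.node 0 .nil .nil))) (.node 0 (.node 0 (.node 0 (.node 0 .nil .nil) .nil) (.node 0 .nil .nil)) (.node 0 (.node 0 (.node 0 .nil .nil) .nil) (.node 0 .nil .nil)))) (.node 0 (.node 0 (.node 0 (.node 0 (.node 0 .nil .nil) .nil) (.node 0 (.node 0 .nil .nil) .nil)) (.node 0 (.node 0 (.node 0 .nil .nil) .nil) (.node 0 .nil .nil))) (.node 0 (.node 0 (.node 0 (.node 0 .nil .nil) .nil) (.node 0 .nil .nil)) (.node 0 (.node 0 (.node 0 .nil .nil) .nil) (.node 0 .nil .nil)))))) (.node 0 (.node 0 (.node 0 (.node 0 (.node 0 (.node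 0 (.node 0 .nil .nil) .nil) (.node 0 (.node 0 .nil .nil) .nil)) (.node 0 (.node 0 (.node 0 .nil .nil) .nil) (.node 0 .nil .nil))) (.node 0 (.node 0 (.node 0 (.node 0 .nil .nil) .nil) (.node 0 .nil .nil)) (.node 0 (.node 0 (.node 0 .nil .nil) .nil) (.node 0 .nil .nil)))) (.node 0 (.node 0 (.node 0 (.node 0 (.node 0 .nil .nil) .nil) (.node 0 (.node 0 .nil .nil) .nil)) (.node 0 (.node 0 (.node 0 .nil .nil) .nil) (.node 0 .nil .nil))) (.node 0 (.node 0 (.node 0 (.node 0 .nil .nil) .nil) (.node 0 .nil .nil)) (.node 0 (.node 0 (.node 0 .nil .nil) .nil) (.node 0 .nil .nil))))) (.node 0 (.node 0 (.node 0 (.node 0 (.node 0 (.node 0 .nil .nil) .nil) (.node 0 (.node 0 .nil .nil) .nil)) (.node 0 (.node 0 (.node 0 .nil .nil) .nil) (.node 0 .nil .nil))) (.node 0 (.node 0 (.node 0 (.node 0 .nil .nil) .nil) (.node 0 .nil .nil)) (.node 0 (.node 0 (.node 0 .nil .nil) .nil) (.node 0 .nil .nil)))) (.node 0 (.node 0 (.node 0 (.node 0 (.node 0 .nil .nil)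 .nil) (.node 0 .nil .nil)) (.node 0 (.node 0 (.node 0 .nil .nil) .nil) (.node 0 .nil .nil))) (.node 0 (.node 0 (.node 0 (.node 0 .nil .nil) .nil) (.node 0 .nil .nil)) (.node 0 (.node 0 (.node 5 .nil .nil) .nil) (.node 19 .nil .nil)))))))) (.node 0 (.node 0 (.node 0 (.node 0 (.node 0 (.node 0 (.node 0 (.node 0 (.node 0 .nil .nil) .nil) (.node 0 (.node 0 .nil .nil) .nil)) (.node 0 (.node 0 (.node 0 .nil .nil) .nil) (.node 0 .nil .nil))) (.node 0 (.node 0 (.node 0 (.node 0 .nil .nil) .nil) (.node 0 .nil .nil)) (.node 0 (.node 0 (.node 0 .nil .nil) .nil) (.node 0 .nil .nil)))) (.node 0 (.node 0 (.node 0 (.node 3 (.node 0 .nil .nil) .nil) (.node 0 (.node 0 .nil .nil) .nil)) (.node 0 (.node 0 (.node 0 .nil .nil) .nil) (.node 0 .nil .nil))) (.node 0 (.node 0 (.node 0 (.node 0 .nil .nil) .nil) (.node 0 .nil .nil)) (.node 0 (.node 0 (.node 0 .nil .nil) .nil) (.node 0 .nil .nil))))) (.node 0 (.node 0 (.node 0 (.node 0 (.node 0 (.node 0 .nil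 .nil) .nil) (.node 0 (.node 0 .nil .nil) .nil)) (.node 0 (.node 0 (.node 0 .nil .nil) .nil) (.node 0 .nil .nil))) (.node 0 (.node 0 (.node 0 (.node 0 .nil .nil) .nil) (.node 0 .nil .nil)) (.node 0 (.node 0 (.node 10 .nil .nil) .nil) (.node 0 .nil .nil)))) (.node 0 (.node 0 (.node 0 (.node 0 (.node 0 .nil .nil) .nil) (.node 0 (.node 0 .nil .nil) .nil)) (.node 0 (.node 0 (.node 0 .nil .nil) .nil) (.node 0 .nil .nil))) (.node 0 (.node 0 (.node 0 (.node 0 .nil .nil) .nil) (.node 0 .nil .nil)) (.node 0 (.node 0 (.node 0 .nil .nil) .nil) (.node 0 .nil .nil)))))) (.node 0 (.node 0 (.node 0 (.node 0 (.node 0 (.node 0 (.node 0 .nil .nil) .nil) (.node 0 (.node 0 .nil .nil) .nil)) (.node 0 (.node 0 (.node 0 .nil .nil) .nil) (.node 0 .nil .nil))) (.node 0 (.node 0 (.node 0 (.node 0 .nil .nil) .nil) (.node 0 .nil .nil)) (.node 0 (.node 0 (.node 0 .nil .nil) .nil) (.node 0 .nil .nil)))) (.node 0 (.node 0 (.node 0 (.node 0 (.node 0 .nil .nil) .nil)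 (.node 0 (.node 0 .nil .nil) .nil)) (.node 0 (.node 0 (.node 0 .nil .nil) .nil) (.node 0 .nil .nil))) (.node 0 (.node 0 (.node 0 (.node 0 .nil .nil) .nil) (.node 0 .nil .nil)) (.node 0 (.node 0 (.node 0 .nil .nil) .nil) (.node 0 .nil .nil))))) (.node 0 (.node 0 (.node 0 (.node 0 (.node 0 (.node 0 .nil .nil) .nil) (.node 0 (.node 0 .nil .nil) .nil)) (.node 0 (.node 0 (.node 0 .nil .nil) .nil) (.node 0 .nil .nil))) (.node 0 (.node 0 (.node 0 (.node 0 .nil .nil) .nil) (.node 0 .nil .nil)) (.node 0 (.node 0 (.node 0 .nil .nil) .nil) (.node 0 .nil .nil)))) (.node 0 (.node 0 (.node 0 (.node 0 (.node 0 .nil .nil) .nil) (.node 0 .nil .nil)) (.node 0 (.node 0 (.node 0 .nil .nil) .nil) (.node 0 .nil .nil))) (.node 0 (.node 0 (.node 0 (.node 0 .nil .nil) .nil) (.node 0 .nil .nil)) (.node 0 (.node 0 (.node 0 .nil .nil) .nil) (.node 0 .nil .nil))))))) (.node 0 (.node 0 (.node 0 (.node 0 (.node 0 (.node 0 (.node 0 (.node 0 .nil .nil) .nil) (.node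 0 (.node 0 .nil .nil) .nil)) (.node 0 (.node 21 (.node 0 .nil .nil) .nil) (.node 0 .nil .nil))) (.node 0 (.node 0 (.node 0 (.node 0 .nil .nil) .nil) (.node 0 .nil .nil)) (.node 0 (.node 0 (.node 0 .nil .nil) .nil) (.node 0 .nil .nil)))) (.node 0 (.node 0 (.node 0 (.node 0 (.node 0 .nil .nil) .nil) (.node 0 (.node 0 .nil .nil) .nil)) (.node 0 (.node 0 (.node 0 .nil .nil) .nil) (.node 0 .nil .nil))) (.node 0 (.node 0 (.node 0 (.node 0 .nil .nil) .nil) (.node 0 .nil .nil)) (.node 0 (.node 0 (.node 0 .nil .nil) .nil) (.node 0 .nil .nil))))) (.node 0 (.node 0 (.node 0 (.node 0 (.node 0 (.node 0 .nil .nil) .nil) (.node 0 (.node 0 .nil .nil) .nil)) (.node 0 (.node 0 (.node 0 .nil .nil) .nil) (.node 0 .nil .nil))) (.node 0 (.node 0 (.node 0 (.node 0 .nil .nil) .nil) (.node 0 .nil .nil)) (.node 0 (.node 0 (.node 0 .nil .nil) .nil) (.node 0 .nil .nil)))) (.node 0 (.node 0 (.node 0 (.node 0 (.node 0 .nil .nil) .nil) (.node 0 (.node 0 .nil .nil)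 .nil)) (.node 0 (.node 0 (.node 0 .nil .nil) .nil) (.node 0 .nil .nil))) (.node 0 (.node 0 (.node 0 (.node 0 .nil .nil) .nil) (.node 0 .nil .nil)) (.node 0 (.node 0 (.node 0 .nil .nil) .nil) (.node 0 .nil .nil)))))) (.node 0 (.node 0 (.node 0 (.node 0 (.node 0 (.node 0 (.node 0 .nil .nil) .nil) (.node 0 (.node 0 .nil .nil) .nil)) (.node 0 (.node 0 (.node 0 .nil .nil) .nil) (.node 1 .nil .nil))) (.node 0 (.node 0 (.node 0 (.node 0 .nil .nil) .nil) (.node 0 .nil .nil)) (.node 0 (.node 0 (.node 0 .nil .nil) .nil) (.node 0 .nil .nil)))) (.node 0 (.node 0 (.node 0 (.node 0 (.node 0 .nil .nil) .nil) (.node 0 (.node 0 .nil .nil) .nil)) (.node 0 (.node 0 (.node 0 .nil .nil) .nil) (.node 0 .nil .nil))) (.node 0 (.node 0 (.node 0 (.node 0 .nil .nil) .nil) (.node 0 .nil .nil)) (.node 0 (.node 0 (.node 0 .nil .nil) .nil) (.node 0 .nil .nil))))) (.node 0 (.node 0 (.node 0 (.node 0 (.node 0 (.node 0 .nil .nil) .nil) (.node 0 (.node 0 .nil .nil)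 .nil)) (.node 0 (.node 0 (.node 0 .nil .nil) .nil) (.node 0 .nil .nil))) (.node 0 (.node 0 (.node 0 (.node 0 .nil .nil) .nil) (.node 0 .nil .nil)) (.node 0 (.node 0 (.node 0 .nil .nil) .nil) (.node 0 .nil .nil)))) (.node 0 (.node 0 (.node 0 (.node 0 (.node 0 .nil .nil) .nil) (.node 0 .nil .nil)) (.node 0 (.node 0 (.node 0 .nil .nil) .nil) (.node 0 .nil .nil))) (.node 0 (.node 0 (.node 0 (.node 0 .nil .nil) .nil) (.node 0 .nil .nil)) (.node 0 (.node 0 (.node 0 .nil .nil) .nil) (.node 0 .nil .nil))))))))))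

/-- Data. -/
noncomputable def stab_2 : Arr (ℕ) := (.node 0 (.node 0 (.node 0 (.node 0 (.node 0 (.node 0 (.node 0 (.node 0 (.node 0 (.node 0 (.node 0 .nil .nil) .nil) (.node 0 (.node 0 .nil .nil) .nil)) (.node 0 (.node 0 (.node 0 .nil .nil) .nil) (.node 0 .nil .nil))) (.node 0 (.node 0 (.node 0 (.node 0 .nil .nil) .nil) (.node 0 .nil .nil)) (.node 0 (.node 0 (.node 0 .nil .nil) .nil) (.node 0 .nil .nil)))) (.node 0 (.node 0 (.node 0 (.node 0 (.node 0 .nil .nil) .nil) (.node 0 (.node 0 .nil .nil) .nil)) (.node 0 (.node 0 (.node 0 .nil .nil) .nil) (.node 0 .nil .nil))) (.node 0 (.node 0 (.node 0 (.node 0 .nil .nil) .nil) (.node 0 .nil .nil)) (.node 0 (.node 0 (.node 0 .nil .nil) .nil) (.node 0 .nil .nil))))) (.node 0 (.node 0 (.node 0 (.node 0 (.node 0 (.node 0 .nil .nil) .nil) (.node 0 (.node 0 .nil .nil) .nil)) (.node 0 (.node 0 (.node 0 .nil .nil) .nil) (.node 0 .nil .nil))) (.node 0 (.node 0 (.node 0 (.node 0 .nil .nil) .nil) (.node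 0 .nil .nil)) (.node 0 (.node 0 (.node 0 .nil .nil) .nil) (.node 0 .nil .nil)))) (.node 0 (.node 0 (.node 0 (.node 0 (.node 0 .nil .nil) .nil) (.node 0 (.node 0 .nil .nil) .nil)) (.node 0 (.node 0 (.node 0 .nil .nil) .nil) (.node 0 .nil .nil))) (.node 0 (.node 0 (.node 0 (.node 0 .nil .nil) .nil) (.node 0 .nil .nil)) (.node 0 (.node 0 (.node 0 .nil .nil) .nil) (.node 0 .nil .nil)))))) (.node 0 (.node 0 (.node 0 (.node 0 (.node 0 (.node 0 (.node 0 .nil .nil) .nil) (.node 0 (.node 0 .nil .nil) .nil)) (.node 0 (.node 0 (.node 0 .nil .nil) .nil) (.node 0 .nil .nil))) (.node 0 (.node 0 (.node 0 (.node 0 .nil .nil) .nil) (.node 0 .nil .nil)) (.node 0 (.node 0 (.node 0 .nil .nil) .nil) (.node 0 .nil .nil)))) (.node 0 (.node 0 (.node 0 (.node 0 (.node 0 .nil .nil) .nil) (.node 0 (.node 0 .nil .nil) .nil)) (.node 0 (.node 0 (.node 0 .nil .nil) .nil) (.node 0 .nil .nil))) (.node 0 (.node 0 (.node 0 (.node 0 .nil .nil) .nil) (.node 0 .nil .nil))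 (.node 0 (.node 0 (.node 0 .nil .nil) .nil) (.node 0 .nil .nil))))) (.node 0 (.node 0 (.node 0 (.node 0 (.node 0 (.node 0 .nil .nil) .nil) (.node 0 (.node 0 .nil .nil) .nil)) (.node 0 (.node 0 (.node 0 .nil .nil) .nil) (.node 0 .nil .nil))) (.node 0 (.node 0 (.node 0 (.node 0 .nil .nil) .nil) (.node 0 .nil .nil)) (.node 0 (.node 0 (.node 0 .nil .nil) .nil) (.node 0 .nil .nil)))) (.node 0 (.node 0 (.node 0 (.node 0 (.node 0 .nil .nil) .nil) (.node 0 (.node 0 .nil .nil) .nil)) (.node 0 (.node 0 (.node 0 .nil .nil) .nil) (.node 0 .nil .nil))) (.node 0 (.node 0 (.node 0 (.node 0 .nil .nil) .nil) (.node 0 .nil .nil)) (.node 0 (.node 0 (.node 0 .nil .nil) .nil) (.node 0 .nil .nil))))))) (.node 0 (.node 0 (.node 0 (.node 0 (.node 0 (.node 0 (.node 0 (.node 0 .nil .nil) .nil) (.node 0 (.node 0 .nil .nil) .nil)) (.node 0 (.node 0 (.node 0 .nil .nil) .nil) (.node 0 .nil .nil))) (.node 0 (.node 10 (.node 0 (.node 0 .nil .nil) .nil) (.node 0 .nil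 .nil)) (.node 0 (.node 0 (.node 0 .nil .nil) .nil) (.node 0 .nil .nil)))) (.node 0 (.node 0 (.node 0 (.node 0 (.node 0 .nil .nil) .nil) (.node 0 (.node 0 .nil .nil) .nil)) (.node 0 (.node 0 (.node 0 .nil .nil) .nil) (.node 0 .nil .nil))) (.node 0 (.node 0 (.node 0 (.node 0 .nil .nil) .nil) (.node 0 .nil .nil)) (.node 0 (.node 0 (.node 0 .nil .nil) .nil) (.node 0 .nil .nil))))) (.node 0 (.node 0 (.node 0 (.node 0 (.node 0 (.node 0 .nil .nil) .nil) (.node 0 (.node 0 .nil .nil) .nil)) (.node 0 (.node 0 (.node 0 .nil .nil) .nil) (.node 0 .nil .nil))) (.node 0 (.node 0 (.node 0 (.node 0 .nil .nil) .nil) (.node 0 .nil .nil)) (.node 0 (.node 0 (.node 0 .nil .nil) .nil) (.node 0 .nil .nil)))) (.node 0 (.node 0 (.node 0 (.node 0 (.node 0 .nil .nil) .nil) (.node 0 (.node 0 .nil .nil) .nil)) (.node 0 (.node 0 (.node 0 .nil .nil) .nil) (.node 0 .nil .nil))) (.node 0 (.node 0 (.node 0 (.node 0 .nil .nil) .nil) (.node 0 .nil .nil)) (.node 0 (.node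 0 (.node 0 .nil .nil) .nil) (.node 0 .nil .nil)))))) (.node 0 (.node 0 (.node 0 (.node 0 (.node 0 (.node 0 (.node 0 .nil .nil) .nil) (.node 0 (.node 0 .nil .nil) .nil)) (.node 0 (.node 0 (.node 0 .nil .nil) .nil) (.node 0 .nil .nil))) (.node 0 (.node 0 (.node 0 (.node 0 .nil .nil) .nil) (.node 0 .nil .nil)) (.node 0 (.node 0 (.node 0 .nil .nil) .nil) (.node 1 .nil .nil)))) (.node 0 (.node 0 (.node 0 (.node 0 (.node 0 .nil .nil) .nil) (.node 0 (.node 0 .nil .nil) .nil)) (.node 0 (.node 0 (.node 0 .nil .nil) .nil) (.node 0 .nil .nil))) (.node 0 (.node 0 (.node 0 (.node 0 .nil .nil) .nil) (.node 0 .nil .nil)) (.node 0 (.node 0 (.node 0 .nil .nil) .nil) (.node 0 .nil .nil))))) (.node 0 (.node 0 (.node 0 (.node 0 (.node 0 (.node 0 .nil .nil) .nil) (.node 0 (.node 0 .nil .nil) .nil)) (.node 0 (.node 0 (.node 0 .nil .nil) .nil) (.node 0 .nil .nil))) (.node 0 (.node 0 (.node 0 (.node 0 .nil .nil) .nil) (.node 0 .nil .nil)) (.node 0 (.node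 0 (.node 0 .nil .nil) .nil) (.node 0 .nil .nil)))) (.node 0 (.node 0 (.node 0 (.node 0 (.node 0 .nil .nil) .nil) (.node 0 .nil .nil)) (.node 0 (.node 0 (.node 0 .nil .nil) .nil) (.node 0 .nil .nil))) (.node 0 (.node 0 (.node 0 (.node 0 .nil .nil) .nil) (.node 0 .nil .nil)) (.node 0 (.node 0 (.node 0 .nil .nil) .nil) (.node 0 .nil .nil)))))))) (.node 0 (.node 0 (.node 0 (.node 0 (.node 0 (.node 0 (.node 0 (.node 0 (.node 0 .nil .nil) .nil) (.node 0 (.node 0 .nil .nil) .nil)) (.node 0 (.node 0 (.node 0 .nil .nil) .nil) (.node 0 .nil .nil))) (.node 0 (.node 0 (.node 0 (.node 0 .nil .nil) .nil) (.node 0 .nil .nil)) (.node 0 (.node 0 (.node 0 .nil .nil) .nil) (.node 0 .nil .nil)))) (.node 0 (.node 0 (.node 0 (.node 0 (.node 0 .nil .nil) .nil) (.node 15 (.node 0 .nil .nil) .nil)) (.node 0 (.node 0 (.node 0 .nil .nil) .nil) (.node 0 .nil .nil))) (.node 0 (.node 0 (.node 0 (.node 0 .nil .nil) .nil) (.node 0 .nil .nil)) (.node 0 (.node 0 (.node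 0 .nil .nil) .nil) (.node 0 .nil .nil))))) (.node 0 (.node 0 (.node 0 (.node 0 (.node 0 (.node 0 .nil .nil) .nil) (.node 0 (.node 0 .nil .nil) .nil)) (.node 0 (.node 0 (.node 0 .nil .nil) .nil) (.node 0 .nil .nil))) (.node 0 (.node 0 (.node 0 (.node 0 .nil .nil) .nil) (.node 0 .nil .nil)) (.node 0 (.node 0 (.node 0 .nil .nil) .nil) (.node 0 .nil .nil)))) (.node 0 (.node 0 (.node 0 (.node 0 (.node 0 .nil .nil) .nil) (.node 0 (.node 0 .nil .nil) .nil)) (.node 0 (.node 0 (.node 0 .nil .nil) .nil) (.node 0 .nil .nil))) (.node 0 (.node 0 (.node 0 (.node 0 .nil .nil) .nil) (.node 0 .nil .nil)) (.node 0 (.node 0 (.node 0 .nil .nil) .nil) (.node 0 .nil .nil)))))) (.node 0 (.node 0 (.node 0 (.node 0 (.node 0 (.node 0 (.node 0 .nil .nil) .nil) (.node 0 (.node 0 .nil .nil) .nil)) (.node 0 (.node 0 (.node 0 .nil .nil) .nil) (.node 0 .nil .nil))) (.node 0 (.node 0 (.node 0 (.node 0 .nil .nil) .nil) (.node 0 .nil .nil)) (.node 0 (.node 0 (.node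 0 .nil .nil) .nil) (.node 0 .nil .nil)))) (.node 0 (.node 0 (.node 0 (.node 0 (.node 0 .nil .nil) .nil) (.node 0 (.node 0 .nil .nil) .nil)) (.node 0 (.node 0 (.node 0 .nil .nil) .nil) (.node 0 .nil .nil))) (.node 0 (.node 0 (.node 0 (.node 0 .nil .nil) .nil) (.node 0 .nil .nil)) (.node 0 (.node 0 (.node 0 .nil .nil) .nil) (.node 0 .nil .nil))))) (.node 0 (.node 0 (.node 0 (.node 0 (.node 0 (.node 0 .nil .nil) .nil) (.node 0 (.node 0 .nil .nil) .nil)) (.node 0 (.node 0 (.node 22 .nil .nil) .nil) (.node 0 .nil .nil))) (.node 0 (.node 0 (.node 0 (.node 0 .nil .nil) .nil) (.node 0 .nil .nil)) (.node 0 (.node 0 (.node 0 .nil .nil) .nil) (.node 0 .nil .nil)))) (.node 0 (.node 0 (.node 0 (.node 0 (.node 0 .nil .nil) .nil) (.node 0 .nil .nil)) (.node 0 (.node 0 (.node 0 .nil .nil) .nil) (.node 0 .nil .nil))) (.node 0 (.node 0 (.node 0 (.node 0 .nil .nil) .nil) (.node 0 .nil .nil)) (.node 0 (.node 0 (.node 0 .nil .nil) .nil) (.node 0 .nil .nil)))))))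 (.node 0 (.node 0 (.node 0 (.node 0 (.node 0 (.node 0 (.node 0 (.node 0 .nil .nil) .nil) (.node 0 (.node 0 .nil .nil) .nil)) (.node 0 (.node 0 (.node 0 .nil .nil) .nil) (.node 0 .nil .nil))) (.node 0 (.node 0 (.node 0 (.node 0 .nil .nil) .nil) (.node 0 .nil .nil)) (.node 0 (.node 0 (.node 0 .nil .nil) .nil) (.node 0 .nil .nil)))) (.node 0 (.node 0 (.node 0 (.node 0 (.node 0 .nil .nil) .nil) (.node 0 (.node 0 .nil .nil) .nil)) (.node 0 (.node 0 (.node 0 .nil .nil) .nil) (.node 0 .nil .nil))) (.node 0 (.node 0 (.node 0 (.node 0 .nil .nil) .nil) (.node 0 .nil .nil)) (.node 1 (.node 0 (.node 0 .nil .nil) .nil) (.node 0 .nil .nil))))) (.node 0 (.node 0 (.node 0 (.node 0 (.node 0 (.node 0 .nil .nil) .nil) (.node 0 (.node 0 .nil .nil) .nil)) (.node 0 (.node 0 (.node 0 .nil .nil) .nil) (.node 0 .nil .nil))) (.node 0 (.node 0 (.node 0 (.node 0 .nil .nil) .nil) (.node 0 .nil .nil)) (.node 0 (.node 0 (.node 0 .nil .nil) .nil) (.node 0 .nil .nil))))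 (.node 0 (.node 0 (.node 0 (.node 0 (.node 0 .nil .nil) .nil) (.node 0 (.node 0 .nil .nil) .nil)) (.node 0 (.node 0 (.node 0 .nil .nil) .nil) (.node 0 .nil .nil))) (.node 0 (.node 0 (.node 0 (.node 0 .nil .nil) .nil) (.node 0 .nil .nil)) (.node 0 (.node 0 (.node 0 .nil .nil) .nil) (.node 0 .nil .nil)))))) (.node 0 (.node 0 (.node 0 (.node 0 (.node 0 (.node 0 (.node 0 .nil .nil) .nil) (.node 0 (.node 0 .nil .nil) .nil)) (.node 0 (.node 0 (.node 0 .nil .nil) .nil) (.node 0 .nil .nil))) (.node 0 (.node 0 (.node 0 (.node 0 .nil .nil) .nil) (.node 0 .nil .nil)) (.node 0 (.node 0 (.node 0 .nil .nil) .nil) (.node 0 .nil .nil)))) (.node 0 (.node 0 (.node 0 (.node 0 (.node 0 .nil .nil) .nil) (.node 0 (.node 0 .nil .nil) .nil)) (.node 0 (.node 0 (.node 0 .nil .nil) .nil) (.node 0 .nil .nil))) (.node 0 (.node 0 (.node 0 (.node 0 .nil .nil) .nil) (.node 0 .nil .nil)) (.node 0 (.node 0 (.node 0 .nil .nil) .nil) (.node 0 .nil .nil))))) (.node 0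 (.node 0 (.node 0 (.node 0 (.node 0 (.node 0 .nil .nil) .nil) (.node 0 (.node 0 .nil .nil) .nil)) (.node 0 (.node 0 (.node 0 .nil .nil) .nil) (.node 0 .nil .nil))) (.node 0 (.node 0 (.node 0 (.node 0 .nil .nil) .nil) (.node 0 .nil .nil)) (.node 0 (.node 0 (.node 0 .nil .nil) .nil) (.node 0 .nil .nil)))) (.node 0 (.node 0 (.node 0 (.node 0 (.node 0 .nil .nil) .nil) (.node 0 .nil .nil)) (.node 0 (.node 0 (.node 0 .nil .nil) .nil) (.node 0 .nil .nil))) (.node 0 (.node 0 (.node 0 (.node 12 .nil .nil) .nil) (.node 0 .nil .nil)) (.node 0 (.node 0 (.node 0 .nil .nil) .nil) (.node 0 .nil .nil))))))))) (.node 0 (.node 0 (.node 0 (.node 0 (.node 0 (.node 0 (.node 0 (.node 0 (.node 0 (.node 0 .nil .nil) .nil) (.node 0 (.node 0 .nil .nil) .nil)) (.node 0 (.node 0 (.node 0 .nil .nil) .nil) (.node 0 .nil .nil))) (.node 0 (.node 0 (.node 0 (.node 0 .nil .nil) .nil) (.node 0 .nil .nil)) (.node 0 (.node 0 (.node 0 .nil .nil) .nil) (.node 0 .nil .nil))))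 (.node 0 (.node 0 (.node 0 (.node 0 (.node 0 .nil .nil) .nil) (.node 0 (.node 0 .nil .nil) .nil)) (.node 0 (.node 0 (.node 0 .nil .nil) .nil) (.node 0 .nil .nil))) (.node 0 (.node 0 (.node 0 (.node 0 .nil .nil) .nil) (.node 0 .nil .nil)) (.node 0 (.node 0 (.node 0 .nil .nil) .nil) (.node 0 .nil .nil))))) (.node 0 (.node 0 (.node 0 (.node 0 (.node 0 (.node 0 .nil .nil) .nil) (.node 0 (.node 0 .nil .nil) .nil)) (.node 0 (.node 0 (.node 0 .nil .nil) .nil) (.node 0 .nil .nil))) (.node 0 (.node 0 (.node 0 (.node 0 .nil .nil) .nil) (.node 0 .nil .nil)) (.node 0 (.node 0 (.node 0 .nil .nil) .nil) (.node 0 .nil .nil)))) (.node 0 (.node 0 (.node 0 (.node 0 (.node 0 .nil .nil) .nil) (.node 0 (.node 0 .nil .nil) .nil)) (.node 0 (.node 0 (.node 23 .nil .nil) .nil) (.node 0 .nil .nil))) (.node 0 (.node 7 (.node 0 (.node 0 .nil .nil) .nil) (.node 0 .nil .nil)) (.node 0 (.node 0 (.node 0 .nil .nil) .nil) (.node 0 .nil .nil)))))) (.node 0 (.node 0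 (.node 0 (.node 0 (.node 0 (.node 0 (.node 0 .nil .nil) .nil) (.node 0 (.node 0 .nil .nil) .nil)) (.node 0 (.node 0 (.node 0 .nil .nil) .nil) (.node 0 .nil .nil))) (.node 0 (.node 0 (.node 0 (.node 0 .nil .nil) .nil) (.node 0 .nil .nil)) (.node 0 (.node 0 (.node 0 .nil .nil) .nil) (.node 0 .nil .nil)))) (.node 0 (.node 0 (.node 0 (.node 0 (.node 0 .nil .nil) .nil) (.node 0 (.node 0 .nil .nil) .nil)) (.node 0 (.node 0 (.node 0 .nil .nil) .nil) (.node 0 .nil .nil))) (.node 0 (.node 0 (.node 0 (.node 0 .nil .nil) .nil) (.node 0 .nil .nil)) (.node 0 (.node 0 (.node 0 .nil .nil) .nil) (.node 0 .nil .nil))))) (.node 0 (.node 0 (.node 0 (.node 0 (.node 0 (.node 0 .nil .nil) .nil) (.node 0 (.node 0 .nil .nil) .nil)) (.node 0 (.node 0 (.node 0 .nil .nil) .nil) (.node 0 .nil .nil))) (.node 0 (.node 0 (.node 0 (.node 0 .nil .nil) .nil) (.node 0 .nil .nil)) (.node 0 (.node 1 (.node 0 .nil .nil) .nil) (.node 0 .nil .nil)))) (.node 0 (.node 0 (.node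 0 (.node 0 (.node 0 .nil .nil) .nil) (.node 0 .nil .nil)) (.node 0 (.node 0 (.node 0 .nil .nil) .nil) (.node 0 .nil .nil))) (.node 0 (.node 0 (.node 0 (.node 0 .nil .nil) .nil) (.node 0 .nil .nil)) (.node 0 (.node 0 (.node 0 .nil .nil) .nil) (.node 0 .nil .nil))))))) (.node 0 (.node 0 (.node 0 (.node 0 (.node 0 (.node 0 (.node 0 (.node 0 .nil .nil) .nil) (.node 0 (.node 0 .nil .nil) .nil)) (.node 0 (.node 0 (.node 0 .nil .nil) .nil) (.node 0 .nil .nil))) (.node 0 (.node 0 (.node 0 (.node 0 .nil .nil) .nil) (.node 0 .nil .nil)) (.node 0 (.node 0 (.node 0 .nil .nil) .nil) (.node 0 .nil .nil)))) (.node 0 (.node 0 (.node 0 (.node 0 (.node 0 .nil .nil) .nil) (.node 0 (.node 0 .nil .nil) .nil)) (.node 0 (.node 0 (.node 0 .nil .nil) .nil) (.node 0 .nil .nil))) (.node 0 (.node 0 (.node 0 (.node 0 .nil .nil) .nil) (.node 0 .nil .nil)) (.node 0 (.node 0 (.node 0 .nil .nil) .nil) (.node 0 .nil .nil))))) (.node 0 (.node 0 (.node 0 (.node 0 (.node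 0 (.node 0 .nil .nil) .nil) (.node 0 (.node 0 .nil .nil) .nil)) (.node 0 (.node 0 (.node 0 .nil .nil) .nil) (.node 0 .nil .nil))) (.node 0 (.node 0 (.node 0 (.node 0 .nil .nil) .nil) (.node 0 .nil .nil)) (.node 0 (.node 0 (.node 0 .nil .nil) .nil) (.node 0 .nil .nil)))) (.node 0 (.node 0 (.node 0 (.node 0 (.node 0 .nil .nil) .nil) (.node 0 (.node 0 .nil .nil) .nil)) (.node 0 (.node 0 (.node 0 .nil .nil) .nil) (.node 0 .nil .nil))) (.node 0 (.node 0 (.node 0 (.node 0 .nil .nil) .nil) (.node 0 .nil .nil)) (.node 0 (.node 0 (.node 0 .nil .nil) .nil) (.node 0 .nil .nil)))))) (.node 0 (.node 0 (.node 0 (.node 0 (.node 0 (.node 0 (.node 0 .nil .nil) .nil) (.node 0 (.node 0 .nil .nil) .nil)) (.node 0 (.node 0 (.node 0 .nil .nil) .nil) (.node 0 .nil .nil))) (.node 0 (.node 0 (.node 0 (.node 0 .nil .nil) .nil) (.node 0 .nil .nil)) (.node 0 (.node 0 (.node 0 .nil .nil) .nil) (.node 0 .nil .nil)))) (.node 0 (.node 0 (.node 0 (.node 0 (.node 0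 .nil .nil) .nil) (.node 0 (.node 0 .nil .nil) .nil)) (.node 0 (.node 0 (.node 0 .nil .nil) .nil) (.node 0 .nil .nil))) (.node 0 (.node 0 (.node 0 (.node 0 .nil .nil) .nil) (.node 0 .nil .nil)) (.node 0 (.node 0 (.node 0 .nil .nil) .nil) (.node 0 .nil .nil))))) (.node 0 (.node 0 (.node 0 (.node 0 (.node 0 (.node 0 .nil .nil) .nil) (.node 0 (.node 0 .nil .nil) .nil)) (.node 0 (.node 0 (.node 0 .nil .nil) .nil) (.node 0 .nil .nil))) (.node 0 (.node 0 (.node 0 (.node 0 .nil .nil) .nil) (.node 0 .nil .nil)) (.node 0 (.node 0 (.node 0 .nil .nil) .nil) (.node 0 .nil .nil)))) (.node 0 (.node 0 (.node 0 (.node 0 (.node 0 .nil .nil) .nil) (.node 0 .nil .nil)) (.node 0 (.node 0 (.node 0 .nil .nil) .nil) (.node 0 .nil .nil))) (.node 0 (.node 0 (.node 0 (.node 0 .nil .nil) .nil) (.node 0 .nil .nil)) (.node 0 (.node 0 (.node 0 .nil .nil) .nil) (.node 0 .nil .nil)))))))) (.node 0 (.node 0 (.node 0 (.node 0 (.node 0 (.node 0 (.node 0 (.node 0 (.node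 0 .nil .nil) .nil) (.node 0 (.node 0 .nil .nil) .nil)) (.node 0 (.node 0 (.node 0 .nil .nil) .nil) (.node 0 .nil .nil))) (.node 0 (.node 0 (.node 0 (.node 0 .nil .nil) .nil) (.node 0 .nil .nil)) (.node 0 (.node 0 (.node 0 .nil .nil) .nil) (.node 0 .nil .nil)))) (.node 0 (.node 0 (.node 0 (.node 2 (.node 0 .nil .nil) .nil) (.node 0 (.node 0 .nil .nil) .nil)) (.node 0 (.node 0 (.node 0 .nil .nil) .nil) (.node 0 .nil .nil))) (.node 0 (.node 0 (.node 0 (.node 0 .nil .nil) .nil) (.node 0 .nil .nil)) (.node 0 (.node 0 (.node 0 .nil .nil) .nil) (.node 0 .nil .nil))))) (.node 0 (.node 0 (.node 0 (.node 0 (.node 0 (.node 0 .nil .nil) .nil) (.node 0 (.node 0 .nil .nil) .nil)) (.node 0 (.node 0 (.node 0 .nil .nil) .nil) (.node 0 .nil .nil))) (.node 0 (.node 0 (.node 0 (.node 0 .nil .nil) .nil) (.node 0 .nil .nil)) (.node 0 (.node 0 (.node 0 .nil .nil) .nil) (.node 0 .nil .nil)))) (.node 0 (.node 0 (.node 0 (.node 0 (.node 0 .nil .nil) .nil) (.node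 0 (.node 0 .nil .nil) .nil)) (.node 0 (.node 0 (.node 0 .nil .nil) .nil) (.node 0 .nil .nil))) (.node 1 (.node 0 (.node 0 (.node 0 .nil .nil) .nil) (.node 0 .nil .nil)) (.node 0 (.node 0 (.node 0 .nil .nil) .nil) (.node 0 .nil .nil)))))) (.node 0 (.node 0 (.node 0 (.node 0 (.node 0 (.node 0 (.node 0 .nil .nil) .nil) (.node 0 (.node 0 .nil .nil) .nil)) (.node 0 (.node 0 (.node 0 .nil .nil) .nil) (.node 0 .nil .nil))) (.node 0 (.node 0 (.node 0 (.node 0 .nil .nil) .nil) (.node 0 .nil .nil)) (.node 0 (.node 0 (.node 0 .nil .nil) .nil) (.node 16 .nil .nil)))) (.node 0 (.node 0 (.node 0 (.node 0 (.node 0 .nil .nil) .nil) (.node 0 (.node 0 .nil .nil) .nil)) (.node 0 (.node 0 (.node 0 .nil .nil) .nil) (.node 0 .nil .nil))) (.node 0 (.node 0 (.node 0 (.node 0 .nil .nil) .nil) (.node 0 .nil .nil)) (.node 0 (.node 0 (.node 0 .nil .nil) .nil) (.node 0 .nil .nil))))) (.node 0 (.node 0 (.node 0 (.node 0 (.node 0 (.node 0 .nil .nil) .nil) (.node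 0 (.node 0 .nil .nil) .nil)) (.node 0 (.node 0 (.node 0 .nil .nil) .nil) (.node 0 .nil .nil))) (.node 0 (.node 0 (.node 0 (.node 0 .nil .nil) .nil) (.node 0 .nil .nil)) (.node 0 (.node 0 (.node 0 .nil .nil) .nil) (.node 0 .nil .nil)))) (.node 0 (.node 0 (.node 0 (.node 0 (.node 0 .nil .nil) .nil) (.node 0 .nil .nil)) (.node 0 (.node 0 (.node 0 .nil .nil) .nil) (.node 0 .nil .nil))) (.node 0 (.node 0 (.node 0 (.node 0 .nil .nil) .nil) (.node 0 .nil .nil)) (.node 0 (.node 0 (.node 0 .nil .nil) .nil) (.node 0 .nil .nil))))))) (.node 0 (.node 0 (.node 0 (.node 0 (.node 9 (.node 0 (.node 0 (.node 0 .nil .nil) .nil) (.node 0 (.node 0 .nil .nil) .nil)) (.node 0 (.node 0 (.node 0 .nil .nil) .nil) (.node 0 .nil .nil))) (.node 0 (.node 0 (.node 0 (.node 0 .nil .nil) .nil) (.node 0 .nil .nil)) (.node 0 (.node 0 (.node 0 .nil .nil) .nil) (.node 0 .nil .nil)))) (.node 0 (.node 0 (.node 0 (.node 0 (.node 0 .nil .nil) .nil) (.node 0 (.node 0 .nil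 .nil) .nil)) (.node 0 (.node 0 (.node 0 .nil .nil) .nil) (.node 0 .nil .nil))) (.node 0 (.node 0 (.node 0 (.node 0 .nil .nil) .nil) (.node 0 .nil .nil)) (.node 0 (.node 0 (.node 0 .nil .nil) .nil) (.node 0 .nil .nil))))) (.node 0 (.node 0 (.node 0 (.node 0 (.node 0 (.node 0 .nil .nil) .nil) (.node 0 (.node 0 .nil .nil) .nil)) (.node 0 (.node 0 (.node 0 .nil .nil) .nil) (.node 0 .nil .nil))) (.node 0 (.node 0 (.node 0 (.node 0 .nil .nil) .nil) (.node 7 .nil .nil)) (.node 0 (.node 0 (.node 0 .nil .nil) .nil) (.node 0 .nil .nil)))) (.node 0 (.node 4 (.node 0 (.node 0 (.node 0 .nil .nil) .nil) (.node 0 (.node 0 .nil .nil) .nil)) (.node 0 (.node 0 (.node 0 .nil .nil) .nil) (.node 0 .nil .nil))) (.node 0 (.node 0 (.node 0 (.node 0 .nil .nil) .nil) (.node 0 .nil .nil)) (.node 0 (.node 0 (.node 0 .nil .nil) .nil) (.node 0 .nil .nil)))))) (.node 0 (.node 0 (.node 0 (.node 0 (.node 0 (.node 0 (.node 0 .nil .nil) .nil) (.node 0 (.node 0 .nil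 .nil) .nil)) (.node 0 (.node 0 (.node 0 .nil .nil) .nil) (.node 0 .nil .nil))) (.node 0 (.node 0 (.node 0 (.node 0 .nil .nil) .nil) (.node 0 .nil .nil)) (.node 0 (.node 0 (.node 0 .nil .nil) .nil) (.node 0 .nil .nil)))) (.node 0 (.node 0 (.node 0 (.node 0 (.node 0 .nil .nil) .nil) (.node 0 (.node 0 .nil .nil) .nil)) (.node 0 (.node 0 (.node 0 .nil .nil) .nil) (.node 0 .nil .nil))) (.node 0 (.node 0 (.node 0 (.node 0 .nil .nil) .nil) (.node 0 .nil .nil)) (.node 0 (.node 0 (.node 0 .nil .nil) .nil) (.node 0 .nil .nil))))) (.node 0 (.node 0 (.node 0 (.node 0 (.node 0 (.node 0 .nil .nil) .nil) (.node 0 (.node 0 .nil .nil) .nil)) (.node 0 (.node 0 (.node 0 .nil .nil) .nil) (.node 0 .nil .nil))) (.node 0 (.node 0 (.node 0 (.node 0 .nil .nil) .nil) (.node 0 .nil .nil)) (.node 0 (.node 0 (.node 0 .nil .nil) .nil) (.node 0 .nil .nil)))) (.node 0 (.node 0 (.node 0 (.node 0 (.node 0 .nil .nil) .nil) (.node 0 .nil .nil)) (.node 0 (.node 0 (.node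 1 .nil .nil) .nil) (.node 0 .nil .nil))) (.node 0 (.node 0 (.node 0 (.node 0 .nil .nil) .nil) (.node 0 .nil .nil)) (.node 0 (.node 0 (.node 0 .nil .nil) .nil) (.node 0 .nil .nil))))))))))

/-- Data. -/
noncomputable def stab_3 : Arr (ℕ) := (.node 0 (.node 0 (.node 0 (.node 0 (.node 0 (.node 0 (.node 0 (.node 0 (.node 9 (.node 0 (.node 0 .nil .nil) .nil) (.node 0 (.node 0 .nil .nil) .nil)) (.node 0 (.node 0 (.node 0 .nil .nil) .nil) (.node 0 .nil .nil))) (.node 0 (.node 0 (.node 0 (.node 0 .nil .nil) .nil) (.node 0 .nil .nil)) (.node 0 (.node 0 (.node 0 .nil .nil) .nil) (.node 0 .nil .nil)))) (.node 0 (.node 0 (.node 0 (.node 0 (.node 0 .nil .nil) .nil) (.node 0 (.node 0 .nil .nil) .nil)) (.node 0 (.node 0 (.node 0 .nil .nil) .nil) (.node 0 .nil .nil))) (.node 0 (.node 0 (.node 0 (.node 0 .nil .nil) .nil) (.node 0 .nil .nil)) (.node 0 (.node 0 (.node 0 .nil .nil) .nil) (.node 0 .nil .nil))))) (.node 0 (.node 0 (.node 0 (.node 0 (.node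 0 (.node 0 .nil .nil) .nil) (.node 0 (.node 0 .nil .nil) .nil)) (.node 0 (.node 0 (.node 0 .nil .nil) .nil) (.node 0 .nil .nil))) (.node 0 (.node 0 (.node 0 (.node 0 .nil .nil) .nil) (.node 0 .nil .nil)) (.node 0 (.node 0 (.node 0 .nil .nil) .nil) (.node 0 .nil .nil)))) (.node 0 (.node 0 (.node 0 (.node 0 (.node 0 .nil .nil) .nil) (.node 0 (.node 0 .nil .nil) .nil)) (.node 0 (.node 0 (.node 0 .nil .nil) .nil) (.node 0 .nil .nil))) (.node 0 (.node 0 (.node 0 (.node 0 .nil .nil) .nil) (.node 0 .nil .nil)) (.node 0 (.node 0 (.node 0 .nil .nil) .nil) (.node 0 .nil .nil)))))) (.node 0 (.node 0 (.node 0 (.node 0 (.node 0 (.node 0 (.node 0 .nil .nil) .nil) (.node 0 (.node 0 .nil .nil) .nil)) (.node 0 (.node 0 (.node 0 .nil .nil) .nil) (.node 0 .nil .nil))) (.node 0 (.node 0 (.node 0 (.node 0 .nil .nil) .nil) (.node 0 .nil .nil)) (.node 0 (.node 0 (.node 0 .nil .nil) .nil) (.node 0 .nil .nil)))) (.node 0 (.node 0 (.node 0 (.node 0 (.node 0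 .nil .nil) .nil) (.node 0 (.node 0 .nil .nil) .nil)) (.node 0 (.node 0 (.node 0 .nil .nil) .nil) (.node 0 .nil .nil))) (.node 0 (.node 0 (.node 0 (.node 0 .nil .nil) .nil) (.node 0 .nil .nil)) (.node 0 (.node 0 (.node 0 .nil .nil) .nil) (.node 0 .nil .nil))))) (.node 0 (.node 0 (.node 0 (.node 0 (.node 0 (.node 0 .nil .nil) .nil) (.node 0 (.node 0 .nil .nil) .nil)) (.node 0 (.node 0 (.node 0 .nil .nil) .nil) (.node 0 .nil .nil))) (.node 0 (.node 0 (.node 0 (.node 0 .nil .nil) .nil) (.node 0 .nil .nil)) (.node 0 (.node 0 (.node 0 .nil .nil) .nil) (.node 0 .nil .nil)))) (.node 0 (.node 0 (.node 0 (.node 0 (.node 0 .nil .nil) .nil) (.node 0 .nil .nil)) (.node 0 (.node 0 (.node 0 .nil .nil) .nil) (.node 0 .nil .nil))) (.node 0 (.node 0 (.node 0 (.node 0 .nil .nil) .nil) (.node 0 .nil .nil)) (.node 0 (.node 0 (.node 0 .nil .nil) .nil) (.node 0 .nil .nil))))))) (.node 0 (.node 0 (.node 0 (.node 0 (.node 0 (.node 0 (.node 0 (.node 0 .nil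 .nil) .nil) (.node 0 (.node 0 .nil .nil) .nil)) (.node 0 (.node 0 (.node 0 .nil .nil) .nil) (.node 0 .nil .nil))) (.node 0 (.node 0 (.node 0 (.node 16 .nil .nil) .nil) (.node 0 .nil .nil)) (.node 0 (.node 0 (.node 0 .nil .nil) .nil) (.node 0 .nil .nil)))) (.node 0 (.node 0 (.node 0 (.node 0 (.node 0 .nil .nil) .nil) (.node 0 (.node 0 .nil .nil) .nil)) (.node 0 (.node 0 (.node 0 .nil .nil) .nil) (.node 0 .nil .nil))) (.node 0 (.node 0 (.node 0 (.node 0 .nil .nil) .nil) (.node 0 .nil .nil)) (.node 0 (.node 0 (.node 0 .nil .nil) .nil) (.node 0 .nil .nil))))) (.node 0 (.node 22 (.node 0 (.node 0 (.node 0 (.node 0 .nil .nil) .nil) (.node 0 (.node 0 .nil .nil) .nil)) (.node 0 (.node 0 (.node 0 .nil .nil) .nil) (.node 0 .nil .nil))) (.node 0 (.node 0 (.node 0 (.node 0 .nil .nil) .nil) (.node 0 .nil .nil)) (.node 0 (.node 0 (.node 0 .nil .nil) .nil) (.node 0 .nil .nil)))) (.node 0 (.node 0 (.node 0 (.node 0 (.node 0 .nil .nil) .nil) (.node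 0 (.node 0 .nil .nil) .nil)) (.node 0 (.node 0 (.node 0 .nil .nil) .nil) (.node 0 .nil .nil))) (.node 0 (.node 0 (.node 0 (.node 0 .nil .nil) .nil) (.node 0 .nil .nil)) (.node 0 (.node 0 (.node 0 .nil .nil) .nil) (.node 0 .nil .nil)))))) (.node 0 (.node 0 (.node 0 (.node 0 (.node 0 (.node 0 (.node 0 .nil .nil) .nil) (.node 0 (.node 0 .nil .nil) .nil)) (.node 0 (.node 0 (.node 0 .nil .nil) .nil) (.node 0 .nil .nil))) (.node 0 (.node 0 (.node 0 (.node 0 .nil .nil) .nil) (.node 0 .nil .nil)) (.node 0 (.node 0 (.node 0 .nil .nil) .nil) (.node 0 .nil .nil)))) (.node 0 (.node 0 (.node 0 (.node 0 (.node 0 .nil .nil) .nil) (.node 0 (.node 0 .nil .nil) .nil)) (.node 0 (.node 0 (.node 0 .nil .nil) .nil) (.node 0 .nil .nil))) (.node 0 (.node 1 (.node 0 (.node 0 .nil .nil) .nil) (.node 0 .nil .nil)) (.node 0 (.node 0 (.node 0 .nil .nil) .nil) (.node 0 .nil .nil))))) (.node 0 (.node 0 (.node 0 (.node 0 (.node 0 (.node 0 .nil .nil) .nil) (.node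 0 (.node 0 .nil .nil) .nil)) (.node 0 (.node 0 (.node 0 .nil .nil) .nil) (.node 0 .nil .nil))) (.node 0 (.node 0 (.node 0 (.node 0 .nil .nil) .nil) (.node 0 .nil .nil)) (.node 0 (.node 0 (.node 0 .nil .nil) .nil) (.node 0 .nil .nil)))) (.node 0 (.node 0 (.node 0 (.node 0 (.node 0 .nil .nil) .nil) (.node 0 .nil .nil)) (.node 0 (.node 0 (.node 0 .nil .nil) .nil) (.node 0 .nil .nil))) (.node 0 (.node 0 (.node 0 (.node 0 .nil .nil) .nil) (.node 0 .nil .nil)) (.node 0 (.node 0 (.node 4 .nil .nil) .nil) (.node 0 .nil .nil)))))))) (.node 0 (.node 0 (.node 0 (.node 0 (.node 0 (.node 0 (.node 0 (.node 0 (.node 0 .nil .nil) .nil) (.node 0 (.node 0 .nil .nil) .nil)) (.node 0 (.node 0 (.node 0 .nil .nil) .nil) (.node 0 .nil .nil))) (.node 0 (.node 0 (.node 0 (.node 0 .nil .nil) .nil) (.node 0 .nil .nil)) (.node 0 (.node 0 (.node 0 .nil .nil) .nil) (.node 0 .nil .nil)))) (.node 0 (.node 0 (.node 0 (.node 0 (.node 0 .nil .nil) .nil) (.node 0 (.node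 0 .nil .nil) .nil)) (.node 0 (.node 0 (.node 0 .nil .nil) .nil) (.node 0 .nil .nil))) (.node 0 (.node 0 (.node 0 (.node 0 .nil .nil) .nil) (.node 0 .nil .nil)) (.node 0 (.node 0 (.node 0 .nil .nil) .nil) (.node 0 .nil .nil))))) (.node 0 (.node 0 (.node 0 (.node 0 (.node 0 (.node 0 .nil .nil) .nil) (.node 0 (.node 0 .nil .nil) .nil)) (.node 0 (.node 0 (.node 0 .nil .nil) .nil) (.node 0 .nil .nil))) (.node 0 (.node 0 (.node 0 (.node 0 .nil .nil) .nil) (.node 1 .nil .nil)) (.node 0 (.node 0 (.node 0 .nil .nil) .nil) (.node 0 .nil .nil)))) (.node 0 (.node 0 (.node 0 (.node 0 (.node 0 .nil .nil) .nil) (.node 0 (.node 0 .nil .nil) .nil)) (.node 0 (.node 0 (.node 0 .nil .nil) .nil) (.node 0 .nil .nil))) (.node 0 (.node 0 (.node 0 (.node 0 .nil .nil) .nil) (.node 0 .nil .nil)) (.node 0 (.node 0 (.node 0 .nil .nil) .nil) (.node 0 .nil .nil)))))) (.node 0 (.node 0 (.node 0 (.node 0 (.node 0 (.node 0 (.node 0 .nil .nil) .nil) (.node 0 (.node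 0 .nil .nil) .nil)) (.node 0 (.node 0 (.node 0 .nil .nil) .nil) (.node 0 .nil .nil))) (.node 0 (.node 0 (.node 0 (.node 0 .nil .nil) .nil) (.node 0 .nil .nil)) (.node 0 (.node 0 (.node 0 .nil .nil) .nil) (.node 0 .nil .nil)))) (.node 0 (.node 0 (.node 0 (.node 0 (.node 0 .nil .nil) .nil) (.node 0 (.node 0 .nil .nil) .nil)) (.node 0 (.node 0 (.node 0 .nil .nil) .nil) (.node 0 .nil .nil))) (.node 0 (.node 0 (.node 0 (.node 0 .nil .nil) .nil) (.node 0 .nil .nil)) (.node 0 (.node 0 (.node 0 .nil .nil) .nil) (.node 0 .nil .nil))))) (.node 0 (.node 0 (.node 0 (.node 0 (.node 0 (.node 0 .nil .nil) .nil) (.node 0 (.node 0 .nil .nil) .nil)) (.node 0 (.node 0 (.node 0 .nil .nil) .nil) (.node 0 .nil .nil))) (.node 0 (.node 0 (.node 0 (.node 0 .nil .nil) .nil) (.node 0 .nil .nil)) (.node 0 (.node 0 (.node 0 .nil .nil) .nil) (.node 0 .nil .nil)))) (.node 0 (.node 0 (.node 0 (.node 0 (.node 0 .nil .nil) .nil) (.node 0 .nil .nil)) (.node 0 (.node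 0 (.node 0 .nil .nil) .nil) (.node 0 .nil .nil))) (.node 0 (.node 0 (.node 0 (.node 0 .nil .nil) .nil) (.node 0 .nil .nil)) (.node 0 (.node 0 (.node 0 .nil .nil) .nil) (.node 0 .nil .nil))))))) (.node 0 (.node 0 (.node 0 (.node 0 (.node 0 (.node 0 (.node 0 (.node 0 .nil .nil) .nil) (.node 0 (.node 0 .nil .nil) .nil)) (.node 0 (.node 0 (.node 0 .nil .nil) .nil) (.node 0 .nil .nil))) (.node 0 (.node 0 (.node 0 (.node 0 .nil .nil) .nil) (.node 0 .nil .nil)) (.node 0 (.node 0 (.node 0 .nil .nil) .nil) (.node 0 .nil .nil)))) (.node 0 (.node 0 (.node 0 (.node 0 (.node 0 .nil .nil) .nil) (.node 0 (.node 0 .nil .nil) .nil)) (.node 0 (.node 0 (.node 0 .nil .nil) .nil) (.node 0 .nil .nil))) (.node 0 (.node 0 (.node 0 (.node 0 .nil .nil) .nil) (.node 0 .nil .nil)) (.node 0 (.node 0 (.node 0 .nil .nil) .nil) (.node 0 .nil .nil))))) (.node 0 (.node 0 (.node 0 (.node 0 (.node 0 (.node 0 .nil .nil) .nil) (.node 0 (.node 0 .nil .nil) .nil)) (.node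 0 (.node 0 (.node 0 .nil .nil) .nil) (.node 0 .nil .nil))) (.node 0 (.node 0 (.node 0 (.node 0 .nil .nil) .nil) (.node 0 .nil .nil)) (.node 0 (.node 0 (.node 0 .nil .nil) .nil) (.node 0 .nil .nil)))) (.node 0 (.node 0 (.node 0 (.node 0 (.node 0 .nil .nil) .nil) (.node 0 (.node 0 .nil .nil) .nil)) (.node 0 (.node 0 (.node 0 .nil .nil) .nil) (.node 0 .nil .nil))) (.node 0 (.node 0 (.node 0 (.node 0 .nil .nil) .nil) (.node 0 .nil .nil)) (.node 0 (.node 0 (.node 0 .nil .nil) .nil) (.node 0 .nil .nil)))))) (.node 0 (.node 0 (.node 0 (.node 0 (.node 0 (.node 0 (.node 0 .nil .nil) .nil) (.node 0 (.node 0 .nil .nil) .nil)) (.node 0 (.node 0 (.node 0 .nil .nil) .nil) (.node 0 .nil .nil))) (.node 0 (.node 0 (.node 0 (.node 0 .nil .nil) .nil) (.node 0 .nil .nil)) (.node 0 (.node 0 (.node 0 .nil .nil) .nil) (.node 0 .nil .nil)))) (.node 0 (.node 0 (.node 0 (.node 0 (.node 0 .nil .nil) .nil) (.node 0 (.node 0 .nil .nil) .nil)) (.node 0 (.node 0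 (.node 0 .nil .nil) .nil) (.node 0 .nil .nil))) (.node 0 (.node 0 (.node 0 (.node 0 .nil .nil) .nil) (.node 0 .nil .nil)) (.node 0 (.node 0 (.node 0 .nil .nil) .nil) (.node 0 .nil .nil))))) (.node 0 (.node 0 (.node 0 (.node 0 (.node 0 (.node 0 .nil .nil) .nil) (.node 0 (.node 0 .nil .nil) .nil)) (.node 0 (.node 0 (.node 0 .nil .nil) .nil) (.node 0 .nil .nil))) (.node 0 (.node 0 (.node 0 (.node 0 .nil .nil) .nil) (.node 0 .nil .nil)) (.node 0 (.node 0 (.node 0 .nil .nil) .nil) (.node 0 .nil .nil)))) (.node 0 (.node 0 (.node 0 (.node 0 (.node 0 .nil .nil) .nil) (.node 0 .nil .nil)) (.node 0 (.node 0 (.node 0 .nil .nil) .nil) (.node 0 .nil .nil))) (.node 0 (.node 0 (.node 0 (.node 0 .nil .nil) .nil) (.node 0 .nil .nil)) (.node 0 (.node 0 (.node 0 .nil .nil) .nil) (.node 0 .nil .nil))))))))) (.node 0 (.node 0 (.node 0 (.node 0 (.node 0 (.node 0 (.node 0 (.node 0 (.node 0 (.node 0 .nil .nil) .nil) (.node 0 (.node 0 .nil .nil) .nil)) (.node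 0 (.node 0 (.node 0 .nil .nil) .nil) (.node 0 .nil .nil))) (.node 0 (.node 0 (.node 0 (.node 0 .nil .nil) .nil) (.node 0 .nil .nil)) (.node 0 (.node 0 (.node 0 .nil .nil) .nil) (.node 0 .nil .nil)))) (.node 0 (.node 0 (.node 0 (.node 0 (.node 0 .nil .nil) .nil) (.node 0 (.node 0 .nil .nil) .nil)) (.node 0 (.node 0 (.node 0 .nil .nil) .nil) (.node 0 .nil .nil))) (.node 0 (.node 0 (.node 0 (.node 0 .nil .nil) .nil) (.node 0 .nil .nil)) (.node 0 (.node 0 (.node 0 .nil .nil) .nil) (.node 0 .nil .nil))))) (.node 0 (.node 0 (.node 0 (.node 0 (.node 0 (.node 0 .nil .nil) .nil) (.node 0 (.node 0 .nil .nil) .nil)) (.node 0 (.node 0 (.node 0 .nil .nil) .nil) (.node 0 .nil .nil))) (.node 0 (.node 0 (.node 0 (.node 0 .nil .nil) .nil) (.node 0 .nil .nil)) (.node 0 (.node 0 (.node 0 .nil .nil) .nil) (.node 0 .nil .nil)))) (.node 0 (.node 0 (.node 0 (.node 0 (.node 0 .nil .nil) .nil) (.node 0 (.node 0 .nil .nil) .nil)) (.node 0 (.node 0 (.node 0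 .nil .nil) .nil) (.node 0 .nil .nil))) (.node 0 (.node 0 (.node 0 (.node 0 .nil .nil) .nil) (.node 0 .nil .nil)) (.node 0 (.node 0 (.node 0 .nil .nil) .nil) (.node 0 .nil .nil)))))) (.node 0 (.node 0 (.node 0 (.node 0 (.node 0 (.node 0 (.node 0 .nil .nil) .nil) (.node 0 (.node 0 .nil .nil) .nil)) (.node 0 (.node 0 (.node 0 .nil .nil) .nil) (.node 0 .nil .nil))) (.node 0 (.node 0 (.node 0 (.node 0 .nil .nil) .nil) (.node 0 .nil .nil)) (.node 0 (.node 0 (.node 0 .nil .nil) .nil) (.node 0 .nil .nil)))) (.node 0 (.node 0 (.node 0 (.node 0 (.node 0 .nil .nil) .nil) (.node 0 (.node 0 .nil .nil) .nil)) (.node 2 (.node 0 (.node 0 .nil .nil) .nil) (.node 0 .nil .nil))) (.node 0 (.node 0 (.node 0 (.node 0 .nil .nil) .nil) (.node 0 .nil .nil)) (.node 0 (.node 0 (.node 0 .nil .nil) .nil) (.node 0 .nil .nil))))) (.node 0 (.node 0 (.node 0 (.node 0 (.node 0 (.node 0 .nil .nil) .nil) (.node 0 (.node 0 .nil .nil) .nil)) (.node 0 (.node 0 (.node 0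 .nil .nil) .nil) (.node 0 .nil .nil))) (.node 0 (.node 0 (.node 0 (.node 0 .nil .nil) .nil) (.node 0 .nil .nil)) (.node 0 (.node 0 (.node 0 .nil .nil) .nil) (.node 0 .nil .nil)))) (.node 1 (.node 0 (.node 0 (.node 0 (.node 0 .nil .nil) .nil) (.node 0 .nil .nil)) (.node 0 (.node 0 (.node 0 .nil .nil) .nil) (.node 0 .nil .nil))) (.node 0 (.node 0 (.node 0 (.node 0 .nil .nil) .nil) (.node 0 .nil .nil)) (.node 0 (.node 0 (.node 0 .nil .nil) .nil) (.node 0 .nil .nil))))))) (.node 0 (.node 0 (.node 0 (.node 0 (.node 0 (.node 0 (.node 0 (.node 0 .nil .nil) .nil) (.node 0 (.node 0 .nil .nil) .nil)) (.node 0 (.node 0 (.node 0 .nil .nil) .nil) (.node 0 .nil .nil))) (.node 0 (.node 0 (.node 0 (.node 1 .nil .nil) .nil) (.node 0 .nil .nil)) (.node 0 (.node 0 (.node 0 .nil .nil) .nil) (.node 0 .nil .nil)))) (.node 0 (.node 0 (.node 0 (.node 0 (.node 0 .nil .nil) .nil) (.node 0 (.node 0 .nil .nil) .nil)) (.node 0 (.node 0 (.node 0 .nil .nil) .nil)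 (.node 0 .nil .nil))) (.node 0 (.node 0 (.node 0 (.node 13 .nil .nil) .nil) (.node 0 .nil .nil)) (.node 0 (.node 0 (.node 0 .nil .nil) .nil) (.node 0 .nil .nil))))) (.node 0 (.node 0 (.node 0 (.node 0 (.node 0 (.node 0 .nil .nil) .nil) (.node 0 (.node 0 .nil .nil) .nil)) (.node 0 (.node 0 (.node 0 .nil .nil) .nil) (.node 0 .nil .nil))) (.node 0 (.node 0 (.node 0 (.node 0 .nil .nil) .nil) (.node 0 .nil .nil)) (.node 0 (.node 0 (.node 0 .nil .nil) .nil) (.node 0 .nil .nil)))) (.node 0 (.node 0 (.node 0 (.node 0 (.node 0 .nil .nil) .nil) (.node 0 (.node 0 .nil .nil) .nil)) (.node 0 (.node 0 (.node 0 .nil .nil) .nil) (.node 0 .nil .nil))) (.node 0 (.node 0 (.node 0 (.node 0 .nil .nil) .nil) (.node 0 .nil .nil)) (.node 0 (.node 0 (.node 0 .nil .nil) .nil) (.node 0 .nil .nil)))))) (.node 0 (.node 0 (.node 0 (.node 0 (.node 0 (.node 0 (.node 0 .nil .nil) .nil) (.node 0 (.node 0 .nil .nil) .nil)) (.node 0 (.node 0 (.node 0 .nil .nil) .nil)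 (.node 0 .nil .nil))) (.node 0 (.node 0 (.node 0 (.node 0 .nil .nil) .nil) (.node 0 .nil .nil)) (.node 0 (.node 0 (.node 0 .nil .nil) .nil) (.node 0 .nil .nil)))) (.node 0 (.node 0 (.node 0 (.node 0 (.node 0 .nil .nil) .nil) (.node 0 (.node 0 .nil .nil) .nil)) (.node 0 (.node 0 (.node 0 .nil .nil) .nil) (.node 0 .nil .nil))) (.node 0 (.node 0 (.node 0 (.node 0 .nil .nil) .nil) (.node 0 .nil .nil)) (.node 0 (.node 0 (.node 0 .nil .nil) .nil) (.node 0 .nil .nil))))) (.node 0 (.node 0 (.node 0 (.node 0 (.node 0 (.node 0 .nil .nil) .nil) (.node 0 (.node 0 .nil .nil) .nil)) (.node 0 (.node 0 (.node 0 .nil .nil) .nil) (.node 0 .nil .nil))) (.node 0 (.node 0 (.node 0 (.node 0 .nil .nil) .nil) (.node 0 .nil .nil)) (.node 0 (.node 0 (.node 0 .nil .nil) .nil) (.node 0 .nil .nil)))) (.node 0 (.node 0 (.node 0 (.node 0 (.node 0 .nil .nil) .nil) (.node 0 .nil .nil)) (.node 0 (.node 0 (.node 0 .nil .nil) .nil) (.node 0 .nil .nil))) (.node 0 (.node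 0 (.node 0 (.node 0 .nil .nil) .nil) (.node 0 .nil .nil)) (.node 0 (.node 0 (.node 0 .nil .nil) .nil) (.node 0 .nil .nil)))))))) (.node 0 (.node 0 (.node 0 (.node 0 (.node 0 (.node 0 (.node 0 (.node 0 (.node 0 .nil .nil) .nil) (.node 0 (.node 0 .nil .nil) .nil)) (.node 0 (.node 0 (.node 0 .nil .nil) .nil) (.node 0 .nil .nil))) (.node 0 (.node 0 (.node 0 (.node 0 .nil .nil) .nil) (.node 0 .nil .nil)) (.node 0 (.node 0 (.node 0 .nil .nil) .nil) (.node 0 .nil .nil)))) (.node 0 (.node 0 (.node 0 (.node 0 (.node 0 .nil .nil) .nil) (.node 0 (.node 0 .nil .nil) .nil)) (.node 0 (.node 0 (.node 0 .nil .nil) .nil) (.node 0 .nil .nil))) (.node 0 (.node 0 (.node 0 (.node 0 .nil .nil) .nil) (.node 0 .nil .nil)) (.node 0 (.node 0 (.node 0 .nil .nil) .nil) (.node 0 .nil .nil))))) (.node 0 (.node 0 (.node 0 (.node 0 (.node 0 (.node 0 .nil .nil) .nil) (.node 0 (.node 0 .nil .nil) .nil)) (.node 0 (.node 0 (.node 0 .nil .nil) .nil) (.node 0 .nil .nil)))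 (.node 0 (.node 0 (.node 0 (.node 0 .nil .nil) .nil) (.node 0 .nil .nil)) (.node 0 (.node 0 (.node 0 .nil .nil) .nil) (.node 0 .nil .nil)))) (.node 0 (.node 0 (.node 0 (.node 0 (.node 0 .nil .nil) .nil) (.node 0 (.node 0 .nil .nil) .nil)) (.node 0 (.node 0 (.node 0 .nil .nil) .nil) (.node 0 .nil .nil))) (.node 0 (.node 0 (.node 0 (.node 0 .nil .nil) .nil) (.node 0 .nil .nil)) (.node 0 (.node 0 (.node 0 .nil .nil) .nil) (.node 0 .nil .nil)))))) (.node 0 (.node 0 (.node 0 (.node 0 (.node 0 (.node 0 (.node 0 .nil .nil) .nil) (.node 0 (.node 0 .nil .nil) .nil)) (.node 0 (.node 0 (.node 0 .nil .nil) .nil) (.node 0 .nil .nil))) (.node 0 (.node 0 (.node 0 (.node 0 .nil .nil) .nil) (.node 0 .nil .nil)) (.node 0 (.node 0 (.node 0 .nil .nil) .nil) (.node 0 .nil .nil)))) (.node 23 (.node 0 (.node 0 (.node 0 (.node 0 .nil .nil) .nil) (.node 0 (.node 0 .nil .nil) .nil)) (.node 0 (.node 0 (.node 0 .nil .nil) .nil) (.node 0 .nil .nil))) (.node 0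 (.node 0 (.node 0 (.node 0 .nil .nil) .nil) (.node 0 .nil .nil)) (.node 0 (.node 0 (.node 0 .nil .nil) .nil) (.node 0 .nil .nil))))) (.node 0 (.node 0 (.node 0 (.node 0 (.node 0 (.node 0 .nil .nil) .nil) (.node 0 (.node 0 .nil .nil) .nil)) (.node 0 (.node 0 (.node 0 .nil .nil) .nil) (.node 0 .nil .nil))) (.node 0 (.node 0 (.node 0 (.node 0 .nil .nil) .nil) (.node 0 .nil .nil)) (.node 0 (.node 0 (.node 0 .nil .nil) .nil) (.node 0 .nil .nil)))) (.node 0 (.node 0 (.node 0 (.node 0 (.node 0 .nil .nil) .nil) (.node 0 .nil .nil)) (.node 0 (.node 0 (.node 0 .nil .nil) .nil) (.node 0 .nil .nil))) (.node 0 (.node 0 (.node 0 (.node 0 .nil .nil) .nil) (.node 0 .nil .nil)) (.node 0 (.node 0 (.node 0 .nil .nil) .nil) (.node 0 .nil .nil))))))) (.node 0 (.node 0 (.node 0 (.node 0 (.node 0 (.node 0 (.node 0 (.node 0 .nil .nil) .nil) (.node 0 (.node 0 .nil .nil) .nil)) (.node 0 (.node 0 (.node 0 .nil .nil) .nil) (.node 0 .nil .nil))) (.node 0 (.node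 0 (.node 0 (.node 0 .nil .nil) .nil) (.node 0 .nil .nil)) (.node 0 (.node 0 (.node 0 .nil .nil) .nil) (.node 0 .nil .nil)))) (.node 0 (.node 0 (.node 0 (.node 0 (.node 0 .nil .nil) .nil) (.node 14 (.node 0 .nil .nil) .nil)) (.node 0 (.node 0 (.node 0 .nil .nil) .nil) (.node 0 .nil .nil))) (.node 0 (.node 0 (.node 0 (.node 0 .nil .nil) .nil) (.node 0 .nil .nil)) (.node 0 (.node 0 (.node 11 .nil .nil) .nil) (.node 0 .nil .nil))))) (.node 0 (.node 0 (.node 0 (.node 0 (.node 0 (.node 0 .nil .nil) .nil) (.node 0 (.node 0 .nil .nil) .nil)) (.node 0 (.node 0 (.node 0 .nil .nil) .nil) (.node 0 .nil .nil))) (.node 0 (.node 0 (.node 0 (.node 0 .nil .nil) .nil) (.node 0 .nil .nil)) (.node 0 (.node 0 (.node 0 .nil .nil) .nil) (.node 0 .nil .nil)))) (.node 0 (.node 0 (.node 0 (.node 0 (.node 0 .nil .nil) .nil) (.node 0 (.node 0 .nil .nil) .nil)) (.node 0 (.node 0 (.node 0 .nil .nil) .nil) (.node 0 .nil .nil))) (.node 0 (.node 0 (.node 0 (.node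 0 .nil .nil) .nil) (.node 0 .nil .nil)) (.node 0 (.node 0 (.node 0 .nil .nil) .nil) (.node 0 .nil .nil)))))) (.node 0 (.node 0 (.node 0 (.node 0 (.node 0 (.node 0 (.node 0 .nil .nil) .nil) (.node 0 (.node 0 .nil .nil) .nil)) (.node 0 (.node 0 (.node 0 .nil .nil) .nil) (.node 0 .nil .nil))) (.node 0 (.node 0 (.node 0 (.node 0 .nil .nil) .nil) (.node 0 .nil .nil)) (.node 0 (.node 0 (.node 0 .nil .nil) .nil) (.node 0 .nil .nil)))) (.node 0 (.node 0 (.node 0 (.node 0 (.node 0 .nil .nil) .nil) (.node 0 (.node 0 .nil .nil) .nil)) (.node 0 (.node 0 (.node 0 .nil .nil) .nil) (.node 0 .nil .nil))) (.node 0 (.node 0 (.node 0 (.node 0 .nil .nil) .nil) (.node 0 .nil .nil)) (.node 0 (.node 0 (.node 0 .nil .nil) .nil) (.node 0 .nil .nil))))) (.node 0 (.node 0 (.node 0 (.node 0 (.node 0 (.node 0 .nil .nil) .nil) (.node 0 (.node 0 .nil .nil) .nil)) (.node 0 (.node 0 (.node 0 .nil .nil) .nil) (.node 0 .nil .nil))) (.node 0 (.node 0 (.node 1 (.node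 0 .nil .nil) .nil) (.node 0 .nil .nil)) (.node 0 (.node 0 (.node 0 .nil .nil) .nil) (.node 0 .nil .nil)))) (.node 0 (.node 0 (.node 0 (.node 0 (.node 0 .nil .nil) .nil) (.node 0 .nil .nil)) (.node 0 (.node 0 (.node 0 .nil .nil) .nil) (.node 0 .nil .nil))) (.node 0 (.node 0 (.node 0 (.node 0 .nil .nil) .nil) (.node 0 .nil .nil)) (.node 0 (.node 0 (.node 0 .nil .nil) .nil) (.node 0 .nil .nil))))))))))

/-- Data. -/
noncomputable def stab : Arr (ℕ) := (.node 1 (.node 0 stab_0 stab_1) (.node 0 stab_2 stab_3))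

/-- Data. -/
def fx0 : List ℕ := [9,11,29,43,54,76,84,108,116,120,131,141,165,173,186,194,197,213,221,229,260,274,280,286,296,299,318,322,332,335,337,341,358,383,400,407,421,467,491,513,517,519,520,545,549,562,568,574,579,595,610,615,625,627,649,670,682,685,691,694,720,721,729,739,741,751,787,791,794,806,827,865,871,872,879,886,891,893,898,905,920,921,948,956,960,968,985,997,1004,1021,1024,1038,1040,1048,1052,1053,1061,1062,1079,1101,1115,1123,1125,1127,1153,1169,1197,1216,1222,1229,1241,1244,1257,1269,1280,1297,1306,1315,1324,1328,1363,1408,1424,1433,1435,1436,1441,1453,1482,1493,1508,1518,1524,1527,1530,1545,1555,1571,1574,1591,1595,1601,1627,1643,1658,1669,1672,1678,1684,1687,1709,1712,1720,1731,1733,1736,1738,1742,1756,1772,1779,1781]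

/-- Data. -/
def fx1 : List ℕ := [3,18,23,47,60,68,71,78,91,122,139,144,150,158,169,178,188,191,195,227,228,231,234,258,261,277,284,291,304,308,315,320,328,331,336,343,363,372,373,374,388,398,429,447,449,452,454,469,478,493,496,499,504,525,536,546,577,586,596,600,638,656,666,669,679,681,686,709,712,735,747,749,772,776,780,802,810,814,850,877,912,919,933,934,953,959,993,1030,1032,1036,1037,1044,1069,1070,1072,1096,1110,1139,1147,1150,1159,1177,1180,1200,1207,1211,1221,1238,1246,1283,1289,1301,1303,1310,1326,1353,1354,1361,1367,1385,1417,1434,1444,1456,1469,1470,1473,1476,1480,1489,1490,1495,1499,1514,1520,1525,1531,1535,1539,1544,1546,1560,1565,1570,1576,1577,1585,1636,1662,1666,1674,1688,1700,1701,1704,1739,1743,1757,1761,1763,1766,1774]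

/-- Data. -/
def starts : List ℕ := [9,11]

/-- Data. -/
noncomputable def red : Arr (ℕ) := (.node 0 (.node 243 (.node 21 (.node 252 (.node 120 (.node 231 (.node 399 (.node 51 .nil .nil) .nil) (.node 459 (.node 39 .nil .nil) .nil)) (.node 378 (.node 48 (.node 282 .nil .nil) .nil) (.node 447 .nil .nil))) (.node 60 (.node 129 (.node 36 (.node 390 .nil .nil) .nil) (.node 3 .nil .nil)) (.node 219 (.node 147 (.node 42 .nil .nil) .nil) (.node 276 .nil .nil)))) (.node 126 (.node 54 (.node 477 (.node 324 (.node 159 .nil .nil) .nil) (.node 78 .nil .nil)) (.node 18 (.node 315 (.node 117 .nil .nil) .nil) (.node 225 .nil .nil))) (.node 87 (.node 201 (.node 372 (.node 471 .nil .nil) .nil) (.node 189 .nil .nil)) (.node 84 (.node 210 (.node 195 .nil .nil) .nil) (.node 114 .nil .nil))))) (.node 450 (.node 240 (.node 414 (.node 420 (.node 387 (.node 105 .nil .nil) .nil) (.node 480 (.node 285 .nil .nil) .nil)) (.node 333 (.node 456 (.node 312 .nil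 .nil) .nil) (.node 297 .nil .nil))) (.node 300 (.node 75 (.node 183 (.node 267 .nil .nil) .nil) (.node 426 .nil .nil)) (.node 150 (.node 429 (.node 66 .nil .nil) .nil) (.node 354 .nil .nil)))) (.node 435 (.node 345 (.node 258 (.node 441 (.node 72 .nil .nil) .nil) (.node 30 .nil .nil)) (.node 237 (.node 396 (.node 216 .nil .nil) .nil) (.node 468 .nil .nil))) (.node 336 (.node 357 (.node 417 (.node 132 .nil .nil) .nil) (.node 15 .nil .nil)) (.node 309 (.node 444 (.node 168 .nil .nil) .nil) (.node 69 .nil .nil)))))) (.node 351 (.node 102 (.node 162 (.node 474 (.node 363 (.node 156 (.node 408 .nil .nil) .nil) (.node 366 (.node 24 .nil .nil) .nil)) (.node 165 (.node 207 (.node 402 .nil .nil) .nil) (.node 12 .nil .nil))) (.node 246 (.node 261 (.node 45 (.node 303 .nil .nil) .nil) (.node 174 .nil .nil)) (.node 192 (.node 342 (.node 108 .nil .nil) .nil) (.node 135 .nil .nil)))) (.node 138 (.node 186 (.node 462 (.node 27 (.node 81 .nil .nil)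 .nil) (.node 222 .nil .nil)) (.node 360 (.node 405 (.node 141 .nil .nil) .nil) (.node 306 .nil .nil))) (.node 228 (.node 264 (.node 180 (.node 327 .nil .nil) .nil) (.node 288 .nil .nil)) (.node 453 (.node 234 (.node 279 .nil .nil) .nil) (.node 33 .nil .nil))))) (.node 411 (.node 63 (.node 177 (.node 273 (.node 9 (.node 348 .nil .nil) .nil) (.node 375 .nil .nil)) (.node 90 (.node 294 (.node 249 .nil .nil) .nil) (.node 57 .nil .nil))) (.node 321 (.node 423 (.node 393 (.node 93 .nil .nil) .nil) (.node 438 .nil .nil)) (.node 432 (.node 384 (.node 255 .nil .nil) .nil) (.node 330 .nil .nil)))) (.node 369 (.node 465 (.node 144 (.node 318 (.node 198 .nil .nil) .nil) (.node 153 .nil .nil)) (.node 204 (.node 291 (.node 111 .nil .nil) .nil) (.node 123 .nil .nil))) (.node 270 (.node 99 (.node 171 (.node 339 .nil .nil) .nil) (.node 96 .nil .nil)) (.node 6 (.node 483 (.node 381 .nil .nil) .nil) (.node 213 .nil .nil)))))))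

/-- Data. -/
noncomputable def cand_0 : Arr (ℕ) := (.node 0 (.node 1 (.node 1 (.node 0x50000000001 (.node 0xb400000001 (.node 0x26079a00000001 (.node 0x1605c000000001 (.node 0x24025400000001 (.node 0x35c004c0739 (.node 0x81600f20739 .nil .nil) .nil) (.node 0x2380001 (.node 0x2dc00f20739 .nil .nil) .nil)) (.node 0x1400ac004c0739 (.node 0x201b2004c0739 (.node 0x34000f20739 .nil .nil) .nil) (.node 0x2380001 .nil .nil))) (.node 0x20a00000001 (.node 0x12079400000001 (.node 0x1601b4004c0739 (.node 0xf20739 .nil .nil) .nil) (.node 0x16064002380001 .nil .nil)) (.node 0x738004c0739 (.node 0x6057202380001 (.node 0xa00d600f20739 .nil .nil) .nil) (.node 0x1606a802380001 .nil .nil)))) (.node 0x29e00000001 (.node 1 (.node 0x25000000001 (.node 0x4c0739 (.node 0x1404ea00f20739 .nil .nil) .nil) (.node 0x47002380001 .nil .nil)) (.node 0xa0724004c0739 (.node 0x2380001 (.node 0x1801c600f20739 .nil .nil) .nil) (.node 0x28602380001 .nil .nil))) (.node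 0xa04bc00000001 (.node 0x768004c0739 (.node 0x64c004c0739 (.node 0x22063200f20739 .nil .nil) .nil) (.node 0x60802380001 .nil .nil)) (.node 0x32a004c0739 (.node 0xc002202380001 (.node 0x2007600f20739 .nil .nil) .nil) (.node 0x1a000f20739 .nil .nil))))) (.node 1 (.node 1 (.node 0x6e600000001 (.node 0x50a00000001 (.node 0x4c0739 (.node 0xf20739 .nil .nil) .nil) (.node 0x2e05b002380001 (.node 0x4e200f20739 .nil .nil) .nil)) (.node 0x700004c0739 (.node 0x2380001 (.node 0x2c001600f20739 .nil .nil) .nil) (.node 0x6025002380001 .nil .nil))) (.node 1 (.node 0x33a004c0739 (.node 0x2c0260004c0739 (.node 0x69c00f20739 .nil .nil) .nil) (.node 0x2380001 .nil .nil)) (.node 0x524004c0739 (.node 0x12019c02380001 (.node 0xf20739 .nil .nil) .nil) (.node 0xf20739 .nil .nil)))) (.node 1 (.node 0x12023400000001 (.node 1 (.node 0x778004c0739 (.node 0xf20739 .nil .nil) .nil) (.node 0x6f802380001 .nil .nil)) (.node 508 (.node 0x607a402380001 (.node 0xf20739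 .nil .nil) .nil) (.node 0xe02380001 .nil .nil))) (.node 0x25a00000001 (.node 0x28027e004c0739 (.node 0x110004c0739 (.node 0xf20739 .nil .nil) .nil) (.node 0x2380001 .nil .nil)) (.node 0x310004c0739 (.node 0x4073602380001 (.node 0xa082000f20739 .nil .nil) .nil) (.node 0x47a00f20739 .nil .nil)))))) (.node 1 (.node 486 (.node 492 (.node 498 (.node 0x1c062a00000001 (.node 514 (.node 0x1e036400f20739 .nil .nil) .nil) (.node 0x14048c02380001 (.node 0x2000ae00f20739 .nil .nil) .nil)) (.node 0x4c0739 (.node 0x16a004c0739 (.node 0x20000f20739 .nil .nil) .nil) (.node 0xe03a402380001 .nil .nil))) (.node 1 (.node 0x4c0739 (.node 0x4c0739 (.node 0xcc00f20739 .nil .nil) .nil) (.node 0x5a402380001 .nil .nil)) (.node 0x4b0004c0739 (.node 0x2e020802380001 (.node 0x2019800f20739 .nil .nil) .nil) (.node 0x2c034e02380001 .nil .nil)))) (.node 0x1206d000000001 (.node 0x50200000001 (.node 0x1aa00000001 (.node 0x4c0739 (.node 0xe05c600f20739 .nil .nil) .nil)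 (.node 0x2380001 .nil .nil)) (.node 0x4c0739 (.node 0x39402380001 (.node 0xf20739 .nil .nil) .nil) (.node 0x33e02380001 .nil .nil))) (.node 1 (.node 0x166004c0739 (.node 524 (.node 0xe00f20739 .nil .nil) .nil) (.node 0xc07d802380001 .nil .nil)) (.node 0x4c0739 (.node 0x2200e402380001 (.node 0x13000f20739 .nil .nil) .nil) (.node 0x7b600f20739 .nil .nil))))) (.node 0x28011800000001 (.node 494 (.node 0x5800000001 (.node 0x50e00000001 (.node 0x1404f6004c0739 (.node 0x78200f20739 .nil .nil) .nil) (.node 0x402de02380001 .nil .nil)) (.node 0x220786004c0739 (.node 0x75202380001 (.node 0xf20739 .nil .nil) .nil) (.node 0x4e402380001 .nil .nil))) (.node 0x41200000001 (.node 0x730004c0739 (.node 0x20300004c0739 (.node 0x14e00f20739 .nil .nil) .nil) (.node 0x2380001 .nil .nil)) (.node 0x406de004c0739 (.node 0x2380001 (.node 0x10032000f20739 .nil .nil) .nil) (.node 0x21400f20739 .nil .nil)))) (.node 1 (.node 0x12071800000001 (.node 0x28000c00000001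 (.node 0xe05f8004c0739 (.node 0x6057e00f20739 .nil .nil) .nil) (.node 0xc02e402380001 .nil .nil)) (.node 0x4c0739 (.node 0x2380001 (.node 0x66200f20739 .nil .nil) .nil) (.node 0x2380001 .nil .nil))) (.node 1 (.node 0x6a8004c0739 (.node 0x24c004c0739 (.node 0x2d600f20739 .nil .nil) .nil) (.node 0x58c02380001 .nil .nil)) (.node 0x7b8004c0739 (.node 0x2380001 (.node 0x41800f20739 .nil .nil) .nil) (.node 0x28016000f20739 .nil .nil))))))) (.node 0x6c200000001 (.node 0x26e00000001 (.node 0x1201d800000001 (.node 0xc02c200000001 (.node 0x47400000001 (.node 0x2e01be00000001 (.node 0x2a05b8004c0739 (.node 0xf20739 .nil .nil) .nil) (.node 0x2380001 (.node 0xf20739 .nil .nil) .nil)) (.node 0x264004c0739 (.node 0x168004c0739 (.node 0xf20739 .nil .nil) .nil) (.node 0x2ce02380001 .nil .nil))) (.node 0x4200000001 (.node 0x26070c00000001 (.node 0x4c0739 (.node 0x26062000f20739 .nil .nil) .nil) (.node 0x2049802380001 .nil .nil)) (.node 0x4c0739 (.node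 0xc202380001 (.node 0x5ee00f20739 .nil .nil) .nil) (.node 0x75e02380001 .nil .nil)))) (.node 0xe00cc00000001 (.node 0x1a06be00000001 (.node 1 (.node 0x4c0739 (.node 0x1f800f20739 .nil .nil) .nil) (.node 0x77602380001 .nil .nil)) (.node 0x402004c0739 (.node 0x2380001 (.node 0x1c012000f20739 .nil .nil) .nil) (.node 0x22039602380001 .nil .nil))) (.node 0x1bc00000001 (.node 0x4c0739 (.node 0x204f2004c0739 (.node 0xf20739 .nil .nil) .nil) (.node 0x2380001 .nil .nil)) (.node 0x2e01b8004c0739 (.node 0x39802380001 (.node 0x18200f20739 .nil .nil) .nil) (.node 0xf20739 .nil .nil))))) (.node 490 (.node 0x67e00000001 (.node 0x7be00000001 (.node 1 (.node 0x404004c0739 (.node 0x42000f20739 .nil .nil) .nil) (.node 0x16018c02380001 .nil .nil)) (.node 0x6a004c0739 (.node 0xc002380001 (.node 0xf20739 .nil .nil) .nil) (.node 0x22202380001 .nil .nil))) (.node 0x2a600000001 (.node 0x2002a004c0739 (.node 0x2e006c004c0739 (.node 0x73800f20739 .nil .nil)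 .nil) (.node 0x27602380001 .nil .nil)) (.node 0x34004c0739 (.node 0x2380001 (.node 0x49000f20739 .nil .nil) .nil) (.node 0x2a064200f20739 .nil .nil)))) (.node 0x4d400000001 (.node 0x1fc00000001 (.node 0x1dc00000001 (.node 0x780004c0739 (.node 0x4b200f20739 .nil .nil) .nil) (.node 0x1e020e02380001 .nil .nil)) (.node 0x762004c0739 (.node 0x9802380001 (.node 0x15200f20739 .nil .nil) .nil) (.node 0x206bc02380001 .nil .nil))) (.node 0x28800000001 (.node 0x538004c0739 (.node 0xe0716004c0739 (.node 0x54e00f20739 .nil .nil) .nil) (.node 0x1c016602380001 .nil .nil)) (.node 0x4c0739 (.node 0x4be02380001 (.node 0xf20739 .nil .nil) .nil) (.node 0x64600f20739 .nil .nil)))))) (.node 1 (.node 0x41000000001 (.node 1 (.node 500 (.node 0x15a00000001 (.node 0x4c0739 (.node 0x63c00f20739 .nil .nil) .nil) (.node 0x7b202380001 (.node 0x20200f20739 .nil .nil) .nil)) (.node 0x6d2004c0739 (.node 0x2380001 (.node 0x1802be00f20739 .nil .nil) .nil) (.node 0x12075602380001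 .nil .nil))) (.node 0x21600000001 (.node 504 (.node 0x406004c0739 (.node 0xf20739 .nil .nil) .nil) (.node 0x5dc02380001 .nil .nil)) (.node 0x4e004c0739 (.node 0x24001a02380001 (.node 0xf20739 .nil .nil) .nil) (.node 0x2c036e02380001 .nil .nil)))) (.node 0x7a00000001 (.node 0x12021400000001 (.node 0x600a200000001 (.node 0x444004c0739 (.node 0x1ee00f20739 .nil .nil) .nil) (.node 0x26013a02380001 .nil .nil)) (.node 0x5c004c0739 (.node 0x1207f602380001 (.node 0xf20739 .nil .nil) .nil) (.node 0x2380001 .nil .nil))) (.node 0x1806ae00000001 (.node 0x2f8004c0739 (.node 0x4c0739 (.node 0x2203e200f20739 .nil .nil) .nil) (.node 0x44a02380001 .nil .nil)) (.node 0x70004c0739 (.node 0x4004202380001 (.node 0x14010a00f20739 .nil .nil) .nil) (.node 0xf20739 .nil .nil))))) (.node 0x9800000001 (.node 0x55800000001 (.node 0x5a00000001 (.node 0x22062400000001 (.node 0x20081c004c0739 (.node 0x34800f20739 .nil .nil) .nil) (.node 0x41202380001 .nil .nil))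 (.node 0x3d8004c0739 (.node 0xcc02380001 (.node 0x42200f20739 .nil .nil) .nil) (.node 0x2380001 .nil .nil))) (.node 1 (.node 0x4c0739 (.node 0x32c004c0739 (.node 0x46800f20739 .nil .nil) .nil) (.node 0xd802380001 .nil .nil)) (.node 0x4c0739 (.node 0x55602380001 (.node 0x2e061e00f20739 .nil .nil) .nil) (.node 0x1e00c600f20739 .nil .nil)))) (.node 1 (.node 0x18039600000001 (.node 0x20e00000001 (.node 0x33c004c0739 (.node 0x5da00f20739 .nil .nil) .nil) (.node 0x1a002380001 .nil .nil)) (.node 0x604fc004c0739 (.node 0x2c07fc02380001 (.node 0x4a600f20739 .nil .nil) .nil) (.node 0x64402380001 .nil .nil))) (.node 0x66800000001 (.node 0x4c0739 (.node 0x4c0739 (.node 0xf20739 .nil .nil) .nil) (.node 0x1b602380001 .nil .nil)) (.node 0x4c0739 (.node 0x81002380001 (.node 0xc008600f20739 .nil .nil) .nil) (.node 0x2400f20739 .nil .nil)))))))) (.node 0x36200000001 (.node 0xa059c00000001 (.node 0x45600000001 (.node 1 (.node 0x2b600000001 (.node 0xa04be00000001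 (.node 0x28c00000001 (.node 0x3a2004c0739 (.node 0x1803ba00f20739 .nil .nil) .nil) (.node 0x2c044c02380001 (.node 0x57400f20739 .nil .nil) .nil)) (.node 0x4c0739 (.node 0x1e06f6004c0739 (.node 0xca00f20739 .nil .nil) .nil) (.node 0x2380001 .nil .nil))) (.node 0x4c00000001 (.node 0x32c00000001 (.node 520 (.node 0xf20739 .nil .nil) .nil) (.node 0x27002380001 .nil .nil)) (.node 0x4c0739 (.node 0x43602380001 (.node 0x4011400f20739 .nil .nil) .nil) (.node 0x200fc02380001 .nil .nil)))) (.node 0x1e00da00000001 (.node 1 (.node 0x3200000001 (.node 0x612004c0739 (.node 0x33a00f20739 .nil .nil) .nil) (.node 0x51a02380001 .nil .nil)) (.node 0x2e0224004c0739 (.node 0x2380001 (.node 0xe06fc00f20739 .nil .nil) .nil) (.node 0x3de02380001 .nil .nil))) (.node 0x28080c00000001 (.node 0x7ac004c0739 (.node 0x306004c0739 (.node 0x27000f20739 .nil .nil) .nil) (.node 0x2600ae02380001 .nil .nil)) (.node 512 (.node 0xe02e802380001 (.node 0x4082200f20739 .nil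 .nil) .nil) (.node 0x74a00f20739 .nil .nil))))) (.node 1 (.node 0x7ec00000001 (.node 0x5f200000001 (.node 1 (.node 0xe021a004c0739 (.node 0xf20739 .nil .nil) .nil) (.node 0x67402380001 .nil .nil)) (.node 0xdc004c0739 (.node 0x69602380001 (.node 0xf20739 .nil .nil) .nil) (.node 0x57a02380001 .nil .nil))) (.node 0x26000000001 (.node 0x4c0739 (.node 522 (.node 0x28000f20739 .nil .nil) .nil) (.node 0x60602380001 .nil .nil)) (.node 0x3a8004c0739 (.node 0x44202380001 (.node 0xf20739 .nil .nil) .nil) (.node 0xf20739 .nil .nil)))) (.node 0x57200000001 (.node 0x7c00000001 (.node 0x6d600000001 (.node 0x1c001e004c0739 (.node 0x3c00f20739 .nil .nil) .nil) (.node 0x2380001 .nil .nil)) (.node 510 (.node 0x1200d002380001 (.node 0x2066a00f20739 .nil .nil) .nil) (.node 0x3d602380001 .nil .nil))) (.node 502 (.node 0x100154004c0739 (.node 0x44e004c0739 (.node 0x13800f20739 .nil .nil) .nil) (.node 0x2380001 .nil .nil)) (.node 0x4c0739 (.node 0x2380001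 (.node 0x1403be00f20739 .nil .nil) .nil) (.node 0x5be00f20739 .nil .nil)))))) (.node 1 (.node 488 (.node 0x79200000001 (.node 0x5e600000001 (.node 0x5600000001 (.node 0x4c0739 (.node 0xf20739 .nil .nil) .nil) (.node 0x1e026e02380001 (.node 0x20076200f20739 .nil .nil) .nil)) (.node 0x4c0739 (.node 0x10054a02380001 (.node 0x13a00f20739 .nil .nil) .nil) (.node 0x3ba02380001 .nil .nil))) (.node 0x55600000001 (.node 0x4c0739 (.node 0x4c0739 (.node 0xf20739 .nil .nil) .nil) (.node 0x64602380001 .nil .nil)) (.node 0x4f0004c0739 (.node 0x79202380001 (.node 0x2002e800f20739 .nil .nil) .nil) (.node 0x61002380001 .nil .nil)))) (.node 1 (.node 1 (.node 0x35200000001 (.node 0x120478004c0739 (.node 0x2605b000f20739 .nil .nil) .nil) (.node 0x2380001 .nil .nil)) (.node 0x67a004c0739 (.node 0x2380001 (.node 0x70a00f20739 .nil .nil) .nil) (.node 0x50a02380001 .nil .nil))) (.node 1 (.node 0x236004c0739 (.node 526 (.node 0x2027600f20739 .nil .nil) .nil)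 (.node 0x18054602380001 .nil .nil)) (.node 0x788004c0739 (.node 0x2402a402380001 (.node 0x39c00f20739 .nil .nil) .nil) (.node 0x8c00f20739 .nil .nil))))) (.node 0x2ea00000001 (.node 0x2a039400000001 (.node 0x38c00000001 (.node 0x70400000001 (.node 0x100454004c0739 (.node 0x2c600f20739 .nil .nil) .nil) (.node 0x60402380001 .nil .nil)) (.node 0x29c004c0739 (.node 0x54e02380001 (.node 0x34a00f20739 .nil .nil) .nil) (.node 0x2380001 .nil .nil))) (.node 2 (.node 0x2f2004c0739 (.node 0x804a2004c0739 (.node 0x1f600f20739 .nil .nil) .nil) (.node 0x8c02380001 .nil .nil)) (.node 0x4d8004c0739 (.node 0x14602380001 (.node 0x1206f800f20739 .nil .nil) .nil) (.node 0xf20739 .nil .nil)))) (.node 0x24044400000001 (.node 0x73200000001 (.node 0x26070e00000001 (.node 0x6004c004c0739 (.node 0x6042e00f20739 .nil .nil) .nil) (.node 0x31802380001 .nil .nil)) (.node 0x4c0739 (.node 0x2380001 (.node 0x2c069600f20739 .nil .nil) .nil) (.node 0x1f802380001 .nil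 .nil))) (.node 1 (.node 0xa04b2004c0739 (.node 0x66e004c0739 (.node 0xf20739 .nil .nil) .nil) (.node 0x1e042402380001 .nil .nil)) (.node 0x262004c0739 (.node 0x7cc02380001 (.node 0x4e400f20739 .nil .nil) .nil) (.node 0x14040000f20739 .nil .nil))))))) (.node 0x26060400000001 (.node 0x77e00000001 (.node 1 (.node 1 (.node 496 (.node 0x2c043400000001 (.node 0x200714004c0739 (.node 0x73e00f20739 .nil .nil) .nil) (.node 0x21402380001 (.node 0xf20739 .nil .nil) .nil)) (.node 506 (.node 0x200b0004c0739 (.node 0xf20739 .nil .nil) .nil) (.node 0x12202380001 .nil .nil))) (.node 0xa013a00000001 (.node 0x196004c0739 (.node 0x1ac004c0739 (.node 0x70800f20739 .nil .nil) .nil) (.node 0x65c02380001 .nil .nil)) (.node 0x4ce004c0739 (.node 0x2380001 (.node 0xa06a400f20739 .nil .nil) .nil) (.node 0x31202380001 .nil .nil)))) (.node 0x26074200000001 (.node 0x18049800000001 (.node 0x1b600000001 (.node 0x4c0739 (.node 0x3b000f20739 .nil .nil) .nil) (.node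 0x6f402380001 .nil .nil)) (.node 0x4c0739 (.node 0x8042202380001 (.node 0x38400f20739 .nil .nil) .nil) (.node 0x2c04b802380001 .nil .nil))) (.node 1 (.node 0x102004c0739 (.node 0x1602d2004c0739 (.node 0x58800f20739 .nil .nil) .nil) (.node 0x29002380001 .nil .nil)) (.node 0x574004c0739 (.node 0x2380001 (.node 0x41e00f20739 .nil .nil) .nil) (.node 0xc008800f20739 .nil .nil))))) (.node 0x62800000001 (.node 0x1e05a600000001 (.node 0x26a00000001 (.node 0x4c600000001 (.node 516 (.node 0x6bc00f20739 .nil .nil) .nil) (.node 0x1e012602380001 .nil .nil)) (.node 0x4c0739 (.node 0x22057e02380001 (.node 0x1c024e00f20739 .nil .nil) .nil) (.node 0x6e602380001 .nil .nil))) (.node 1 (.node 0x802004c0739 (.node 0xbe004c0739 (.node 0xa035a00f20739 .nil .nil) .nil) (.node 0xf402380001 .nil .nil)) (.node 0x774004c0739 (.node 0x43a02380001 (.node 0x7fc00f20739 .nil .nil) .nil) (.node 0x58200f20739 .nil .nil)))) (.node 0x2e400000001 (.node 0x1a003600000001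 (.node 0x28079c00000001 (.node 0x598004c0739 (.node 0x2206ca00f20739 .nil .nil) .nil) (.node 0x5c202380001 .nil .nil)) (.node 0xc03d6004c0739 (.node 0x2380001 (.node 0xa011800f20739 .nil .nil) .nil) (.node 0x4ae02380001 .nil .nil))) (.node 1 (.node 0x1006c0004c0739 (.node 0x576004c0739 (.node 0xe017600f20739 .nil .nil) .nil) (.node 0x4c402380001 .nil .nil)) (.node 0x59c004c0739 (.node 0x74002380001 (.node 0xf20739 .nil .nil) .nil) (.node 0x5cc00f20739 .nil .nil)))))) (.node 4 (.node 1 (.node 0x27c00000001 (.node 0x1a00d800000001 (.node 0x29800000001 (.node 0x2003aa004c0739 (.node 0x18083200f20739 .nil .nil) .nil) (.node 0xa044602380001 (.node 0x20044c00f20739 .nil .nil) .nil)) (.node 0xa032e004c0739 (.node 0x35802380001 (.node 0x2e008400f20739 .nil .nil) .nil) (.node 0x1a04ee02380001 .nil .nil))) (.node 0x4400000001 (.node 0xa004c0739 (.node 0x5e004c0739 (.node 0x76600f20739 .nil .nil) .nil) (.node 0x1c03fc02380001 .nil .nil)) (.node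 0x260448004c0739 (.node 0x2380001 (.node 0x2fc00f20739 .nil .nil) .nil) (.node 0xc000f20739 .nil .nil)))) (.node 0x45a00000001 (.node 0x2802d800000001 (.node 0x42a00000001 (.node 0x194004c0739 (.node 0xf20739 .nil .nil) .nil) (.node 0x2c067602380001 .nil .nil)) (.node 0x16075c004c0739 (.node 0x2380001 (.node 0xf20739 .nil .nil) .nil) (.node 0x49602380001 .nil .nil))) (.node 0x2b800000001 (.node 0x81e004c0739 (.node 0x4c0739 (.node 0x57a00f20739 .nil .nil) .nil) (.node 0x2380001 .nil .nil)) (.node 0x1405b6004c0739 (.node 0x2c046402380001 (.node 0x12024c00f20739 .nil .nil) .nil) (.node 0x12200f20739 .nil .nil))))) (.node 1 (.node 1 (.node 0x76800000001 (.node 0xa039800000001 (.node 0x67c004c0739 (.node 0xf20739 .nil .nil) .nil) (.node 0x19402380001 .nil .nil)) (.node 0x810004c0739 (.node 0x77802380001 (.node 0x1405b200f20739 .nil .nil) .nil) (.node 0x1ea02380001 .nil .nil))) (.node 0x6e000000001 (.node 0x2a04b6004c0739 (.node 0x4a0004c0739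 (.node 0x7e600f20739 .nil .nil) .nil) (.node 0x2380001 .nil .nil)) (.node 0x1ce004c0739 (.node 0xe012002380001 (.node 0x49800f20739 .nil .nil) .nil) (.node 0x55200f20739 .nil .nil)))) (.node 0x4b800000001 (.node 0x2f600000001 (.node 0x26c00000001 (.node 518 (.node 0xa062a00f20739 .nil .nil) .nil) (.node 0x2a027c02380001 .nil .nil)) (.node 0x4d0004c0739 (.node 0x66802380001 (.node 0x6aa00f20739 .nil .nil) .nil) (.node 0x2a06be02380001 .nil .nil))) (.node 0xf400000001 (.node 0x2b0004c0739 (.node 0x4c0739 (.node 0x3c000f20739 .nil .nil) .nil) (.node 0x2380001 .nil .nil)) (.node 0x4c0739 (.node 0x3a602380001 (.node 0x3c200f20739 .nil .nil) .nil) (.node 0x26071200f20739 .nil .nil)))))))))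

/-- Data. -/
noncomputable def cand : Arr (ℕ) := cand_0

/-- Data. -/
noncomputable def wits : Arr (List ℕ) := (.node [3,22,14,16,14,20,18,23,25,22] (.node [1,17,24,15,16,21,23,23] (.node [1,20,14,18,17,20,23,25,23] (.node [1,24,22,16,25,20,24,23] (.node [2,7,9,8,8,9,8,0,7,7,20,12,16,18,15,16,20,23,21,18,24] .nil .nil) .nil) (.node [1,7,9,8,8,9,8,0,7,7,20,12,25,21,14,22,25] (.node [1,7,9,8,8,9,8,0,7,7,20,12,14,18,17,20,20,18,25,22] .nil .nil) .nil)) (.node [3,24,20,16,15,23,20,22,24,23] (.node [1,7,9,8,8,9,8,0,7,7,20,12,18,16,23,15,18,21,23,24] (.node [2,7,9,8,8,9,8,0,7,7,20,12,18,16,18,14,23,21,25,23] .nil .nil) .nil) (.node [1,7,9,8,8,9,8,0,7,7,20,12,25,17,19,17,20,20,22,25,23] .nil .nil))) (.node [1,24,14,16,16,14,23,21,18,23,25,22] (.node [3,19,16,16,15,21,24,22] (.node [1,14,16,14,16,14,20,20,24,24] (.node [1,7,9,8,8,9,8,0,7,7,20,12,25,21,17,14,21,18,22,25,23] .nil .nil) .nil) (.node [2,7,9,8,8,9,8,0,7,7,20,12,16,15,22,15,25,22]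 (.node [1,7,9,8,8,9,8,0,7,7,20,12,16,18,25,16,21,23,24,22] .nil .nil) .nil)) (.node [1,16,15,17,14,20,18,24,22] (.node [2,7,9,8,8,9,8,0,7,7,20,12,17,23,14,21,22,20,23] (.node [2,7,9,8,8,9,8,0,7,7,20,12,14,24,18,16,21,24,23] .nil .nil) .nil) (.node [2,7,9,8,8,9,8,0,7,7,20,12,21,22,17,14,21,25,20,23,24,23] .nil .nil))))

/-- Data. -/
def numWits : ℕ := 21

/-- Data. -/
def relC : List ℕ := [2,95,0,10,28]

/-- Data. -/
def conjC : List ℕ := [1,3,9,71,187,27,81,139,9,226]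

end Cfsg.Agent.SuzLocal.Data
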