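import Cfsg.Agent.OutTab.CentSift
import Cfsg.Agent.SuzLocal.Codes
import Cfsg.Agent.SuzLocal.Levels
import Cfsg.Agent.SuzLocal.Tables

/-!
An elementary abelian subgroup of order 243 of the Suzuki group and its eleven distinguished lines.
-/

set_option autoImplicit false

namespace Cfsg.Agent.SuzLocal

open Cfsg.Agent.Compute Cfsg.Agent.StemCert Cfsg.Agent.OutTab

/-- The word of a number below 243, read in base three. -/
def aWord (j : ℕ) : List ℕ :=
  List.replicate (j % 3) 0 ++ (List.replicate (j / 3 % 3) 1 ++ (List.replicate (j / 9 % 3) 2 ++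
    (List.replicate (j / 27 % 3) 3 ++ List.replicate (j / 81 % 3) 4)))

/-- Addition without carrying. -/
def addC (i j : ℕ) : ℕ :=
  (i + j) % 3 + 3 * ((i / 3 + j / 3) % 3) + 9 * ((i / 9 + j / 9) % 3) +
    27 * ((i / 27 + j / 27) % 3) + 81 * ((i / 81 + j / 81) % 3)

/-- A multiple. -/
def mulC : ℕ → ℕ → ℕ
  | 0, _ => 0
  | 1, x => x
  | _, x => addC x x

/-- A line with a sign. -/
def lineS (k s : ℕ) : ℕ := mulC (s + 1) (Data.lineC.getD k 0)

/-- A combination of five images. -/
def comb (a b c d e j : ℕ) : ℕ :=
  addC (mulC (j % 3) a) (addC (mulC (j / 3 % 3) b) (addC (mulC (j / 9 % 3) c)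
    (addC (mulC (j / 27 % 3) d) (mulC (j / 81 % 3) e))))

/-- A signed line. -/
def isLineB (x : ℕ) : Bool := (List.range 22).any fun u => Nat.beq (lineS (u / 2) (u % 2)) x

/-- A linear map fixing four lines either loses a line or is a scalar. -/
def linB (q : ℕ) (m s : ℕ) : Bool :=
  let a := lineS 0 (q % 2)
  let b := lineS 1 (q / 2 % 2)
  let c := lineS 2 (q / 4 % 2)
  let d := lineS 3 (q / 8 % 2)
  !((List.range 6).all fun k => isLineB (comb a b c d (lineS m s) (Data.lineC.getD (5 + k) 0))) ||
    (Nat.beq m 4 && Nat.beq (q % 2) s && Nat.beq (q / 2 % 2) s && Nat.beq (q / 4 % 2) s &&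
      Nat.beq (q / 8 % 2) s)

/-- A point is the image of a representative. -/
noncomputable def coverB (x : ℕ) : Bool :=
  forceN (Data.cover.get 0 x) fun v => Nat.blt (Nat.div v 243) 22 &&
    Nat.beq (appW 11 Data.codes (aWord (Nat.mod v 243)) (Data.reps.getD (Nat.div v 243) 0)) x

/-- The stabiliser of a representative is one of the lines. -/
noncomputable def stabB (i : ℕ) : Bool :=
  forceN (Data.stab.get 0 i) fun v => forceN (Nat.mod i 243) fun j =>
    cond (Nat.beq v 0)
      (!(Nat.beq (appW 11 Data.codes (aWord j) (Data.reps.getD (Nat.div i 243) 0))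
        (Data.reps.getD (Nat.div i 243) 0)))
      (cond (Nat.beq v 1) (Nat.beq j 0)
        (Nat.blt (Nat.sub v 2) 22 && Nat.beq (lineS (Nat.div (Nat.sub v 2) 2) (Nat.mod (Nat.sub v 2) 2)) j))

/-- A fixed point of the first generator is in the orbit of one of two points. -/
noncomputable def redB (r : ℕ) : Bool :=
  forceN (Data.red.get 0 r) fun v => Nat.blt (Nat.div v 243) 2 &&
    Nat.beq (appW 11 Data.codes (aWord (Nat.mod v 243)) (Data.starts.getD (Nat.div v 243) 0))
      (Data.fx0.getD r 0)

/-- The images of the base under a possible element. -/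
noncomputable def target (e a c : ℕ) : List ℕ :=
  [a, appW 11 Data.codes (List.replicate e 1) a, c, appW 11 Data.codes (List.replicate e 0) c,
    appW 11 Data.codes (List.replicate e 2) a]

/-- The exponent of a candidate. -/
def candExp (i : ℕ) : ℕ := i / 324 + 1

/-- The images of a candidate. -/
noncomputable def candTgt (i : ℕ) : List ℕ :=
  target (candExp i) (Data.starts.getD (i / 162 % 2) 0) (Data.fx1.getD (i % 162) 0)

/-- The images of a word on the base are the given ones. -/
noncomputable def hasImagesB (u tg : List ℕ) : Bool :=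
  allBelow 5 fun r => Nat.beq (appW 11 Data.codes u (Data.base.getD r 0)) (tg.getD r 0)

/-- A candidate is impossible, in the subgroup, or does not act as required. -/
noncomputable def candB (i : ℕ) : Bool :=
  forceN (Data.cand.get 0 i) fun W => forceL (candTgt i) fun tg => cond (Nat.beq (Nat.mod W 2) 1)
    (failB 11 Data.k Data.codes Data.ivs Data.levels Data.base Data.masks tg (Nat.div W 2) [])
    (forceN (Nat.div W 2) fun v => cond (Nat.blt v 243)
      (hasImagesB (aWord v) tg)
      (forceL (Data.wits.get [] (Nat.sub v 243)) fun wu => forceL wu.tail fun u =>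
        forceN (wu.headD 0) fun l => Nat.blt l 5 && allB (fun s => Nat.blt s Data.k) u &&
          hasImagesB u tg &&
          !(eqOn 11 Data.codes Data.base (u ++ [l]) (List.replicate (candExp i) l ++ u))))

/-- The relators in the two normalising letters. -/
def relWord (l : List (Fin 2 × Bool)) : List ℕ := l.map fun a => 5 + a.1.val

end Cfsg.Agent.SuzLocal
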