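import Cfsg.Agent.SuzLocal.Group
import Cfsg.Agent.ONPerm.SubEleven

/-!
The normaliser of the subgroup of order 243 induces the Mathieu group of degree eleven on it.
-/

set_option autoImplicit false
set_option maxRecDepth 100000

namespace Cfsg.Agent.SuzLocal

open Cfsg Cfsg.Agent.Compute Cfsg.Agent.StemCert Cfsg.Agent.OutTab Subgroup
open Cfsg.Agent.CosetCert (M11Ab720.relWords)

/-- The normaliser. -/
noncomputable abbrev N0 : Subgroup Spor.Suz := normalizer (A0 : Set Spor.Suz)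

theorem addC_lt (i j : ℕ) : addC i j < 243 := by
  have h1 := Nat.mod_lt (i + j) (by norm_num : 3 > 0)
  have h2 := Nat.mod_lt (i / 3 + j / 3) (by norm_num : 3 > 0)
  have h3 := Nat.mod_lt (i / 9 + j / 9) (by norm_num : 3 > 0)
  have h4 := Nat.mod_lt (i / 27 + j / 27) (by norm_num : 3 > 0)
  have h5 := Nat.mod_lt (i / 81 + j / 81) (by norm_num : 3 > 0)
  simp only [addC]
  omega

theorem lineS_lt {k s : ℕ} (hk : k < 11) (hs : s < 2) : lineS k s < 243 := by
  interval_cases s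
  · exact (lines_ok.1 ⟨k, hk⟩).2.2.1
  · exact addC_lt _ _

theorem aEl_lineS {k s : ℕ} (hs : s < 2) : aEl (lineS k s) = aEl (Data.lineC.getD k 0) ^ (s + 1) :=
  aEl_mulC (s + 1) _ (by omega)

theorem lineS_basis {i : ℕ} (hi : i < 5) {s : ℕ} (hs : s < 2) : aEl (lineS i s) = gen3 i ^ (s + 1) := by
  rw [aEl_lineS hs, lines_ok.2.1 ⟨i, hi⟩, gen_eq_aEl hi]

theorem conj_aEl {g : Spor.Suz} {c : ℕ → ℕ} (hc : ∀ i < 5, g * gen3 i * g⁻¹ = aEl (c i)) (j : ℕ) :
    g * aEl j * g⁻¹ = aEl (comb (c 0) (c 1) (c 2) (c 3) (c 4) j) := by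
  have hm := Nat.mod_lt
  rw [comb, aEl_add, aEl_add, aEl_add, aEl_add, aEl_mulC _ _ (hm _ (by norm_num)),
    aEl_mulC _ _ (hm _ (by norm_num)), aEl_mulC _ _ (hm _ (by norm_num)), aEl_mulC _ _ (hm _ (by norm_num)),
    aEl_mulC _ _ (hm _ (by norm_num)), ← hc 0 (by norm_num), ← hc 1 (by norm_num), ← hc 2 (by norm_num),
    ← hc 3 (by norm_num), ← hc 4 (by norm_num)]
  simp only [conj_pow, aEl, aWord, evalW_append, evalW_replicate]
  group

theorem mem_N0 {g : Spor.Suz} (hg : ∀ i < 5, g * gen3 i * g⁻¹ ∈ A0) : g ∈ N0 := by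
  have := SuzOut.finite_suz
  have h : ∀ i : ℕ, ∃ c : ℕ, i < 5 → g * gen3 i * g⁻¹ = aEl c := fun i => by
    by_cases hi : i < 5
    · obtain ⟨c, -, e⟩ := mem_A0.mp (hg i hi)
      exact ⟨c, fun _ => e⟩
    · exact ⟨0, fun h => absurd h hi⟩
  choose c hc using h
  refine mem_normalizer_fintype fun y hy => ?_
  obtain ⟨j, -, rfl⟩ := mem_A0.mp hy
  rw [conj_aEl hc]
  exact aEl_mem _

/-- The normaliser permutes the eleven lines. -/
theorem line_conj {n : Spor.Suz} (hn : n ∈ N0) {k : ℕ} (hk : k < 11) :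
    ∃ m < 11, ∃ s < 2, n * aEl (Data.lineC.getD k 0) * n⁻¹ = aEl (lineS m s) := by
  obtain ⟨hp, hne, hlt, hfix⟩ := lines_ok.1 ⟨k, hk⟩
  dsimp only at hp hne hlt hfix
  obtain ⟨j, hj, he⟩ := mem_A0.mp ((mem_normalizer_iff.mp hn _).mp (aEl_mem (Data.lineC.getD k 0)))
  set p := Data.linePts.getD k 0
  have hx : SuzOut.ι (aEl j) (SuzOut.ι n ⟨p, hp⟩) = SuzOut.ι n ⟨p, hp⟩ := by
    rw [← he, ← Equiv.Perm.mul_apply, ← map_mul, inv_mul_cancel_right, map_mul, Equiv.Perm.mul_apply,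
      show SuzOut.ι (aEl (Data.lineC.getD k 0)) ⟨p, hp⟩ = ⟨p, hp⟩ from
        Fin.ext (by rw [aEl, app_eq _ (aWord_lt _) hp]; exact hfix)]
  set x := SuzOut.ι n ⟨p, hp⟩
  have hcv := allBelow_eq_true.mp cover_ok x x.isLt
  simp only [coverB, forceN_eq, Bool.and_eq_true, Nat.blt_eq] at hcv
  obtain ⟨ho, hce⟩ := hcv
  set o := Nat.div (Data.cover.get 0 x) 243
  set c := Nat.mod (Data.cover.get 0 x) 243
  have hr : Data.reps.getD o 0 < 1782 := by
    have : ∀ a : Fin 22, Data.reps.getD a.val 0 < 1782 := by decide +kernel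
    exact this ⟨o, ho⟩
  set r : Fin 1782 := ⟨Data.reps.getD o 0, hr⟩
  have hxr : SuzOut.ι (aEl c) r = x := Fin.ext (by
    rw [aEl, app_eq _ (aWord_lt c) hr]; exact Nat.eq_of_beq_eq_true hce)
  have hrfix : appW 11 Data.codes (aWord j) (Data.reps.getD o 0) = Data.reps.getD o 0 := by
    have : SuzOut.ι (aEl j) r = r := by
      refine (SuzOut.ι (aEl c)).injective ?_
      rw [← Equiv.Perm.mul_apply, ← map_mul, A0_comm (aEl_mem c) (aEl_mem j), map_mul,
        Equiv.Perm.mul_apply, hxr, hx]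
    have h2 := congrArg Fin.val this
    rwa [aEl, app_eq _ (aWord_lt j) hr] at h2
  have hst := allBelow_eq_true.mp stab_ok (243 * o + j) (by omega)
  simp only [stabB, forceN_eq] at hst
  rw [show Nat.mod (243 * o + j) 243 = j by show (243 * o + j) % 243 = j; omega,
    show Nat.div (243 * o + j) 243 = o by show (243 * o + j) / 243 = o; omega] at hst
  cases h0 : Nat.beq (Data.stab.get 0 (243 * o + j)) 0
  · rw [h0, cond_false] at hst
    cases h1 : Nat.beq (Data.stab.get 0 (243 * o + j)) 1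
    · rw [h1, cond_false, Bool.and_eq_true, Nat.blt_eq] at hst
      obtain ⟨hv, hl⟩ := hst
      refine ⟨_, ?_, _, Nat.mod_lt _ (by norm_num), he.trans (congrArg aEl (Nat.eq_of_beq_eq_true hl).symm)⟩
      show (Data.stab.get 0 (243 * o + j) - 2) / 2 < 11
      change Data.stab.get 0 (243 * o + j) - 2 < 22 at hv
      omega
    · rw [h1, cond_true] at hst
      exfalso
      rw [Nat.eq_of_beq_eq_true hst, show aEl 0 = 1 by simp [aEl, aWord, evalW], conj_eq_one_iff] at he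
      exact hne (aEl_inj hlt (by norm_num) (he.trans (by simp [aEl, aWord, evalW])))
  · rw [h0, cond_true, hrfix, Bool.not_eq_true', ← Bool.not_eq_true] at hst
    exact absurd (Nat.beq_eq.mpr rfl) hst

theorem line_conj_gen {n : Spor.Suz} (hn : n ∈ N0) {i : ℕ} (hi : i < 5) :
    ∃ m < 11, ∃ s < 2, n * gen3 i * n⁻¹ = aEl (lineS m s) := by
  obtain ⟨m, hm, s, hs, e⟩ := line_conj hn (k := i) (by omega)
  exact ⟨m, hm, s, hs, by rwa [lines_ok.2.1 ⟨i, hi⟩, ← gen_eq_aEl hi] at e⟩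

/-- An element of the normaliser fixing four lines is in the subgroup. -/
theorem mem_of_fix_four {n : Spor.Suz} (hn : n ∈ N0)
    (h : ∀ i < 4, ∃ s < 2, n * gen3 i * n⁻¹ = aEl (lineS i s)) : n ∈ A0 := by
  obtain ⟨s0, h0, e0⟩ := h 0 (by norm_num)
  obtain ⟨s1, h1, e1⟩ := h 1 (by norm_num)
  obtain ⟨s2, h2, e2⟩ := h 2 (by norm_num)
  obtain ⟨s3, h3, e3⟩ := h 3 (by norm_num)
  obtain ⟨m, hm, s, hs, e4⟩ := line_conj_gen hn (i := 4) (by norm_num)
  set q := s0 + 2 * s1 + 4 * s2 + 8 * s3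
  have hlin := lin_ok ⟨q, by omega⟩ ⟨m, hm⟩ ⟨s, hs⟩
  simp only [linB, show q % 2 = s0 by omega, show q / 2 % 2 = s1 by omega, show q / 4 % 2 = s2 by omega,
    show q / 8 % 2 = s3 by omega, Bool.or_eq_true, Bool.not_eq_true', Bool.and_eq_true] at hlin
  let c : ℕ → ℕ := fun i =>
    if i = 0 then lineS 0 s0 else if i = 1 then lineS 1 s1 else if i = 2 then lineS 2 s2
      else if i = 3 then lineS 3 s3 else lineS m s
  have hc : ∀ i < 5, n * gen3 i * n⁻¹ = aEl (c i) := by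
    intro i hi
    interval_cases i
    exacts [e0, e1, e2, e3, e4]
  rcases hlin with hfail | ⟨⟨⟨⟨hm4, hs0⟩, hs1⟩, hs2⟩, hs3⟩
  · exfalso
    rw [← Bool.not_eq_true] at hfail
    refine hfail (List.all_eq_true.mpr fun k hk => List.any_eq_true.mpr ?_)
    rw [List.mem_range] at hk
    obtain ⟨m', hm', s', hs', e⟩ := line_conj hn (k := 5 + k) (by omega)
    rw [conj_aEl hc] at e
    refine ⟨2 * m' + s', List.mem_range.mpr (by omega), ?_⟩
    rw [show (2 * m' + s') / 2 = m' by omega, show (2 * m' + s') % 2 = s' by omega]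
    exact Nat.beq_eq.mpr (aEl_inj (addC_lt _ _) (lineS_lt hm' hs') e).symm
  · have hs0' := Nat.eq_of_beq_eq_true hs0
    have hs1' := Nat.eq_of_beq_eq_true hs1
    have hs2' := Nat.eq_of_beq_eq_true hs2
    have hs3' := Nat.eq_of_beq_eq_true hs3
    have hm' := Nat.eq_of_beq_eq_true hm4
    subst hm'
    subst hs0' hs1' hs2' hs3'
    refine mem_of_scalar (e := s3 + 1) (by omega) fun i hi => ?_
    rw [hc i hi, ← lineS_basis hi h3]
    interval_cases i <;> rfl

theorem card_quot_le : Nat.card (↥N0 ⧸ A0.subgroupOf N0) ≤ 7920 := by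
  have := SuzOut.finite_suz
  have h : ∀ (n : ↥N0) (i : Fin 4), ∃ m : Fin 11, ∃ s < 2,
      (n : Spor.Suz) * gen3 i * (n : Spor.Suz)⁻¹ = aEl (lineS m s) := fun n i => by
    obtain ⟨m, hm, e⟩ := line_conj_gen n.2 (i := i.val) (by omega)
    exact ⟨⟨m, hm⟩, e⟩
  choose f hf using h
  have key : ∀ {a b : Spor.Suz} {m i j : ℕ}, i < 4 → j < 4 →
      (∃ s < 2, a * gen3 i * a⁻¹ = aEl (lineS m s)) → (∃ s < 2, b * gen3 j * b⁻¹ = aEl (lineS m s)) →
      ∃ t < 2, (b⁻¹ * a) * gen3 i * (b⁻¹ * a)⁻¹ = aEl (lineS j t) := by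
    rintro a b m i j hi hj ⟨s, hs, ea⟩ ⟨t, ht, eb⟩
    set u := aEl (Data.lineC.getD m 0)
    have u3 : u ^ 3 = 1 := A0_cube (aEl_mem _)
    rw [aEl_lineS hs] at ea
    rw [aEl_lineS ht] at eb
    refine ⟨(s + t) % 2, Nat.mod_lt _ (by norm_num), ?_⟩
    have e : u ^ (s + 1) = (u ^ (t + 1)) ^ ((s + t) % 2 + 1) := by
      rw [← pow_mul]
      interval_cases s <;> interval_cases t <;>
        first
          | rfl
          | (show u ^ 1 = u ^ 4; rw [pow_succ u 3, u3, one_mul, pow_one])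
    rw [lineS_basis (by omega) (Nat.mod_lt _ (by norm_num)),
      show b⁻¹ * a * gen3 i * (b⁻¹ * a)⁻¹ = b⁻¹ * (a * gen3 i * a⁻¹) * b by group, ea, e, ← eb, conj_pow]
    group
  have hinj : ∀ n, Function.Injective (f n) := by
    intro n i j hij
    obtain ⟨t, ht, e⟩ := key i.isLt j.isLt (hf n i) (hij ▸ hf n j)
    rw [inv_mul_cancel, one_mul, inv_one, mul_one] at e
    rw [show gen3 (i : ℕ) = aEl (lineS i 0) by rw [lineS_basis (by omega) (by norm_num), pow_one]] at e
    have := lines_ok.2.2 ⟨i, by omega⟩ ⟨j, by omega⟩ 0 ⟨t, ht⟩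
      (aEl_inj (lineS_lt (by omega) (by norm_num)) (lineS_lt (by omega) ht) e)
    exact Fin.ext (by simpa using congrArg Fin.val this.1)
  let g : ↥N0 ⧸ A0.subgroupOf N0 → (Fin 4 ↪ Fin 11) := fun q => ⟨f q.out, hinj _⟩
  refine (Nat.card_le_card_of_injective g fun q r hqr => ?_).trans_eq ?_
  · rw [← q.out_eq', ← r.out_eq', eq_comm, QuotientGroup.eq]
    refine mem_of_fix_four (mul_mem (inv_mem r.out.2) q.out.2) fun i hi => ?_
    exact key hi hi (hf q.out ⟨i, hi⟩)
      (by have := hf r.out ⟨i, hi⟩; rwa [show f r.out ⟨i, hi⟩ = f q.out ⟨i, hi⟩ from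
        congrFun (congrArg DFunLike.coe hqr) _ |>.symm] at this)
  · rw [Nat.card_eq_fintype_card, Fintype.card_embedding_eq, Fintype.card_fin, Fintype.card_fin]
    rfl

/-- The two generators of the induced group. -/
noncomputable def xy (g : Fin 2) : ↥N0 :=
  ⟨gen3 (5 + g.val), mem_N0 fun i hi => mem_A0.mpr (by
    refine ⟨Data.conjC.getD (5 * g.val + i) 0, ?_, ?_⟩
    · have : ∀ a : Fin 10, Data.conjC.getD a.val 0 < 243 := by decide +kernel
      exact this ⟨5 * g.val + i, by omega⟩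
    · have e := eq3 (a := [5 + g.val, i]) (b := aWord (Data.conjC.getD (5 * g.val + i) 0) ++ [5 + g.val])
        (lt_app (a := [5 + g.val]) (b := [i]) (lt_one (by omega)) (lt_one (by omega)))
        (lt_app (aWord_lt _) (lt_one (by omega))) (normal_ok.1 g ⟨i, hi⟩)
      rw [evalW_append, eval_one', evalW_cons, eval_one'] at e
      rw [e]
      exact mul_inv_cancel_right _ _)⟩

theorem isoM11_quot (h : (A0.subgroupOf N0).Normal) :
    Spor.IsoM11 (↥N0 ⧸ A0.subgroupOf N0) := by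
  have := SuzOut.finite_suz
  obtain ⟨hsimp, hcard⟩ := ONPerm.simple_card_M
  have := hsimp
  have : Finite (PresentedGroup (CosetCert.wordRels ONPerm.relsM)) :=
    Nat.finite_of_card_ne_zero (by rw [hcard]; norm_num)
  let f : Fin 2 → ↥N0 ⧸ A0.subgroupOf N0 := fun i => QuotientGroup.mk' _ (xy i)
  have hr : ∀ r ∈ CosetCert.wordRels ONPerm.relsM, FreeGroup.lift f r = 1 := by
    refine ONPerm.lift_eq_one f _ ONPerm.posM_check fun l hl => ?_
    obtain ⟨r, hr, rfl⟩ := List.getElem_of_mem hl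
    have hk := List.all_eq_true.mp normal_ok.2.2 r (List.mem_range.mpr hr)
    simp only [Bool.and_eq_true, Nat.blt_eq] at hk
    have hrl : relWord (M11Ab720.relWords.getD r []) = relWord ONPerm.relsM[r] :=
      congrArg relWord (List.getD_eq_getElem M11Ab720.relWords [] hr)
    rw [show ONPerm.evalWord f ONPerm.relsM[r] =
      QuotientGroup.mk' (A0.subgroupOf N0) (ONPerm.evalWord xy ONPerm.relsM[r]) by
        simp only [ONPerm.evalWord, map_list_prod, List.map_map]; rfl]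
    refine (QuotientGroup.eq_one_iff _).mpr ?_
    show ((ONPerm.evalWord xy ONPerm.relsM[r] : ↥N0) : Spor.Suz) ∈ A0
    have e := eq3 (a := relWord ONPerm.relsM[r]) (b := aWord (Data.relC.getD r 0))
      (fun s hs => by
        obtain ⟨a, -, rfl⟩ := List.mem_map.mp hs
        exact lt_k (by omega))
      (aWord_lt _) (hrl ▸ hk.2)
    rw [show ((ONPerm.evalWord xy ONPerm.relsM[r] : ↥N0) : Spor.Suz) = evalW gen3 (relWord ONPerm.relsM[r]) by
      simp only [ONPerm.evalWord, SubmonoidClass.coe_list_prod, List.map_map, evalW, relWord]; rfl, e]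
    exact aEl_mem _
  let ψ := PresentedGroup.toGroup hr
  have hψ : Function.Injective ψ := by
    rw [← MonoidHom.ker_eq_bot_iff]
    refine (IsSimpleGroup.eq_bot_or_eq_top_of_normal _ inferInstance).resolve_right fun ht => ?_
    have h1 : f 0 = 1 := by
      rw [← PresentedGroup.toGroup.of hr]
      exact MonoidHom.mem_ker.mp (ht ▸ Subgroup.mem_top _ : PresentedGroup.of 0 ∈ ψ.ker)
    have h2 : xy 0 ∈ A0.subgroupOf N0 := (QuotientGroup.eq_one_iff (N := A0.subgroupOf N0) (xy 0)).mp h1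
    obtain ⟨j, hj, e⟩ := mem_A0.mp (show gen3 5 ∈ A0 from h2)
    have hk := allBelow_eq_true.mp normal_ok.2.1 j hj
    rw [eqOn3 (lt_one (by norm_num)) (aWord_lt j) (by rw [eval_one']; exact e)] at hk
    exact Bool.noConfusion hk
  let e1 : PresentedGroup (CosetCert.wordRels ONPerm.relsM) ≃* ↥N0 ⧸ A0.subgroupOf N0 :=
    MulEquiv.ofBijective ψ ((Nat.bijective_iff_injective_and_card _).mpr ⟨hψ,
      le_antisymm (Nat.card_le_card_of_injective ψ hψ) (card_quot_le.trans hcard.ge)⟩)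
  let g : Fin 2 → Spor.M11 := fun i => ⟨ONPerm.wordP (ONPerm.mGen i), ONPerm.wordP_mem _⟩
  have hg : ∀ r ∈ CosetCert.wordRels ONPerm.relsM, FreeGroup.lift g r = 1 := by
    refine ONPerm.lift_eq_one g _ ONPerm.posM_check fun l hl => Subtype.ext ?_
    have h := ONPerm.wordP_eq_of_check (List.all_eq_true.1 ONPerm.relM_check l hl)
    rw [ONPerm.wordP_flat, List.map_map] at h
    simp only [ONPerm.evalWord, SubmonoidClass.coe_list_prod, List.map_map]
    exact h.trans rfl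
  let φ := PresentedGroup.toGroup hg
  have hφ : Function.Injective φ := by
    rw [← MonoidHom.ker_eq_bot_iff]
    refine (IsSimpleGroup.eq_bot_or_eq_top_of_normal _ inferInstance).resolve_right fun ht => ?_
    have h1 : g 0 = 1 := by
      rw [← PresentedGroup.toGroup.of hg]
      exact MonoidHom.mem_ker.mp (ht ▸ Subgroup.mem_top _ : PresentedGroup.of 0 ∈ φ.ker)
    obtain ⟨hok, hden⟩ := ONPerm.codeWord_spec (ONPerm.mGen 0)
    have hmv : ∃ i : Fin 24, rep24.act (ONPerm.codeWord (ONPerm.mGen 0)) i.val ≠ i.val ∧ i.val < rep24.n := by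
      decide +kernel
    obtain ⟨i, hi, hin⟩ := hmv
    refine hi (rep24.pt_inj _ _ (rep24.act_lt _ _ hok hin) hin ?_)
    rw [← rep24.act_spec _ _ hok hin, hden, show ONPerm.wordP (ONPerm.mGen 0) = 1 from congrArg Subtype.val h1,
      one_smul]
  have : Finite Spor.M11 := inferInstance
  exact ⟨e1.symm.trans (MulEquiv.ofBijective φ ((Nat.bijective_iff_injective_and_card _).mpr
    ⟨hφ, hcard.trans card_m11.symm⟩))⟩

end Cfsg.Agent.SuzLocal
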