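import Cfsg.Agent.SuzOut.Out
import Cfsg.Agent.SuzLocal.Normaliser
import Cfsg.Agent.SuzFacts.Transport
import Cfsg.Agent.SuzThree.Final

/-!
The 3-local subgroup `3^5 : M11` of the Suzuki group and S5380's subgroup of order three.
-/

set_option autoImplicit false
set_option maxRecDepth 100000

namespace Cfsg.Agent.SuzLocal

open Cfsg Subgroup

/-- An element of order three whose centraliser has order divisible by seven. -/
theorem isConj_of_seven {y : Spor.Suz} (hy : orderOf y = 3)
    (h7 : 7 ∣ Nat.card (centralizer ({y} : Set Spor.Suz))) : IsConj (SuzOut.gen 1) y := by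
  have := SuzOut.finite_suz
  have := Fact.mk (show Nat.Prime 7 by norm_num)
  obtain ⟨⟨z, hzm⟩, hz⟩ := exists_prime_orderOf_dvd_card' (G := centralizer ({y} : Set Spor.Suz)) 7 h7
  rw [← Subgroup.orderOf_coe] at hz
  change orderOf z = 7 at hz
  have hs : ∀ a : Spor.Suz, orderOf a = 7 →
      ∃ P : Sylow 7 Spor.Suz, (P : Subgroup Spor.Suz) = zpowers a := by
    intro a ha
    refine ⟨Sylow.ofCard (zpowers a) ?_, rfl⟩
    rw [Nat.card_zpowers, ha, SuzOut.card_suz, show (448345497600 : ℕ) = 7 ^ 1 * 64049356800 by norm_num,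
      Nat.factorization_mul (by norm_num) (by norm_num), Finsupp.add_apply,
      Nat.Prime.factorization_pow (by norm_num), Finsupp.single_eq_same,
      Nat.factorization_eq_zero_of_not_dvd (by norm_num)]
    norm_num
  obtain ⟨P, hP⟩ := hs _ SuzOut.orderS
  obtain ⟨R, hR⟩ := hs z hz
  obtain ⟨c, hc⟩ := MulAction.exists_smul_eq Spor.Suz R P
  have hmem : SuzOut.gen SuzOut.Data.sLetter ∈ (P : Subgroup Spor.Suz) := hP ▸ mem_zpowers _
  rw [← hc, Sylow.coe_subgroup_smul, mem_pointwise_smul_iff_inv_smul_mem, hR] at hmem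
  have h1 := mem_centralizer_singleton_iff.mp (zpowers_le.mpr hzm hmem)
  change (MulAut.conj c)⁻¹ (SuzOut.gen SuzOut.Data.sLetter) * y =
    y * (MulAut.conj c)⁻¹ (SuzOut.gen SuzOut.Data.sLetter) at h1
  rw [MulAut.conj_inv_apply] at h1
  refine (SuzOut.isConj_of_comm (g := c * y * c⁻¹)
    ((orderOf_injective (MulAut.conj c).toMonoidHom (MulAut.conj c).injective y).trans hy) ?_).trans
    (isConj_iff.mpr ⟨c, rfl⟩).symm
  calc c * y * c⁻¹ * SuzOut.gen SuzOut.Data.sLetter
      = c * (y * (c⁻¹ * SuzOut.gen SuzOut.Data.sLetter * c)) * c⁻¹ := by group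
    _ = c * (c⁻¹ * SuzOut.gen SuzOut.Data.sLetter * c * y) * c⁻¹ := by rw [h1]
    _ = _ := by group

theorem exponent_eq : Nat.card Spor.Suz = 3 ^ 7 * 205004800 := by
  rw [SuzOut.card_suz]
  norm_num

theorem pow_seven_dvd : 3 ^ 7 ∣ Nat.card (normalizer ((zpowers (SuzOut.gen 1) : Subgroup Spor.Suz) : Set Spor.Suz)) := by
  have := SuzOut.finite_suz
  refine dvd_trans ?_ (card_dvd_of_le (centralizer_le_normalizer _))
  rw [zpowers_eq_closure, centralizer_closure, SuzOut.class_and_card.2]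
  norm_num

theorem A0_le_normalizer :
    A0 ≤ normalizer ((zpowers (SuzOut.gen 1) : Subgroup Spor.Suz) : Set Spor.Suz) := by
  refine le_trans (fun a ha => ?_) (centralizer_le_normalizer _)
  rw [zpowers_eq_closure, centralizer_closure, mem_centralizer_singleton_iff, ← gen3_zero]
  exact A0_comm ha (gen_mem (by norm_num))

theorem elementary_A0 : IsElementaryAbelian 3 A0 :=
  ⟨⟨⟨fun a b => Subtype.ext (A0_comm a.2 b.2)⟩⟩, fun _ ha => A0_cube ha⟩

theorem local_core {G : Type*} [Group G] [Finite G] (φ : Spor.Suz ≃* G) (N : Subgroup G)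
    (hmapN : (normalizer ((zpowers (SuzOut.gen 1) : Subgroup Spor.Suz) : Set Spor.Suz)).map φ.toMonoidHom = N)
    (P : Sylow 3 N) :
    ¬ 3 ∣ ((P : Subgroup N).map N.subtype).index ∧
      ∃ A : Subgroup G,
        A ≤ (P : Subgroup N).map N.subtype ∧
          IsElementaryAbelian 3 A ∧ Nat.card A = 3 ^ 5 ∧ centralizer (A : Set G) = A ∧
          ∃ _ : (A.subgroupOf (normalizer (A : Set G))).Normal,
            Spor.IsoM11 (↥(normalizer (A : Set G)) ⧸ A.subgroupOf (normalizer (A : Set G))) := by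
  have := SuzOut.finite_suz
  have := Fact.mk (show Nat.Prime 3 by norm_num)
  have hdvd : 3 ^ 7 ∣ Nat.card N := by
    rw [← hmapN, ← Nat.card_congr ((normalizer ((zpowers (SuzOut.gen 1) : Subgroup Spor.Suz) :
      Set Spor.Suz)).equivMapOfInjective φ.toMonoidHom φ.injective).toEquiv]
    exact pow_seven_dvd
  have hG : Nat.card G = 3 ^ 7 * 205004800 := (Nat.card_congr φ.toEquiv).symm.trans exponent_eq
  have hP : 3 ^ 7 ∣ Nat.card ((P : Subgroup N).map N.subtype) := by
    rw [← Nat.card_congr ((P : Subgroup N).equivMapOfInjective _ N.subtype_injective).toEquiv]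
    exact P.pow_dvd_card_of_pow_dvd_card hdvd
  refine ⟨fun h3 => ?_, ?_⟩
  · have hd := mul_dvd_mul hP h3
    rw [card_mul_index, hG] at hd
    have := Nat.dvd_of_mul_dvd_mul_left (by norm_num) hd
    norm_num at this
  set A1 := A0.map φ.toMonoidHom with hA1
  have hle : A1 ≤ N := by
    rw [hA1, ← hmapN]
    exact map_mono A0_le_normalizer
  have hcard : Nat.card A1 = 3 ^ 5 := by
    rw [hA1, ← Nat.card_congr (A0.equivMapOfInjective φ.toMonoidHom φ.injective).toEquiv, card_A0]
    norm_num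
  have hpg : IsPGroup 3 (A1.subgroupOf N) :=
    IsPGroup.of_card (n := 5) (by rw [Nat.card_congr (subgroupOfEquivOfLe hle).toEquiv, hcard])
  obtain ⟨R, hR⟩ := hpg.exists_le_sylow
  obtain ⟨n, hn⟩ := MulAction.exists_smul_eq N R P
  let ψ : Spor.Suz ≃* G := φ.trans (MulAut.conj (n : G))
  have hA : A0.map ψ.toMonoidHom = A1.map (MulAut.conj (n : G)).toMonoidHom := by
    rw [hA1, Subgroup.map_map]
    rfl
  have hnorm := map_equiv_normalizer_eq A0 ψ
  refine ⟨A0.map ψ.toMonoidHom, ?_, ?_, ?_, ?_, ?_⟩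
  · rw [hA]
    rintro _ ⟨a, ha, rfl⟩
    refine ⟨n * ⟨a, hle ha⟩ * n⁻¹, ?_, rfl⟩
    rw [← hn, Sylow.coe_subgroup_smul, Subgroup.pointwise_smul_def]
    exact ⟨⟨a, hle ha⟩, hR (mem_subgroupOf.mpr ha), rfl⟩
  · refine ⟨⟨⟨?_⟩⟩, ?_⟩
    · rintro ⟨_, a, ha, rfl⟩ ⟨_, b, hb, rfl⟩
      exact Subtype.ext (show ψ a * ψ b = ψ b * ψ a by rw [← map_mul, A0_comm ha hb, map_mul])
    · rintro _ ⟨a, ha, rfl⟩
      rw [← map_pow, A0_cube ha, map_one]
  · rw [← Nat.card_congr (A0.equivMapOfInjective ψ.toMonoidHom ψ.injective).toEquiv, card_A0]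
    norm_num
  · rw [← SuzFacts.map_centralizer ψ, centralizer_A0]
  · refine ⟨Subgroup.normal_in_normalizer, ?_⟩
    obtain ⟨χ⟩ := SuzFacts.quotient_normalizer ψ A0 _ rfl
    obtain ⟨iso⟩ := isoM11_quot Subgroup.normal_in_normalizer
    exact ⟨χ.symm.trans iso⟩

/-- S1725 for groups isomorphic to the Suzuki group. -/
theorem suz_three_local {G : Type*} [Group G] [Finite G] (h : Spor.IsoSuz G) {y : G} (hy : orderOf y = 3)
    (h7 : 7 ∣ Nat.card (centralizer ({y} : Set G))) (P : Sylow 3 ↥(normalizer ((zpowers y : Subgroup G) : Set G))) :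
    ¬ 3 ∣ ((P : Subgroup ↥(normalizer ((zpowers y : Subgroup G) : Set G))).map
        (normalizer ((zpowers y : Subgroup G) : Set G)).subtype).index ∧
      ∃ A : Subgroup G,
        A ≤ (P : Subgroup ↥(normalizer ((zpowers y : Subgroup G) : Set G))).map
            (normalizer ((zpowers y : Subgroup G) : Set G)).subtype ∧
          IsElementaryAbelian 3 A ∧ Nat.card A = 3 ^ 5 ∧ centralizer (A : Set G) = A ∧
          ∃ _ : (A.subgroupOf (normalizer (A : Set G))).Normal,
            Spor.IsoM11 (↥(normalizer (A : Set G)) ⧸ A.subgroupOf (normalizer (A : Set G))) := by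
  have := SuzOut.finite_suz
  have := Fact.mk (show Nat.Prime 3 by norm_num)
  obtain ⟨e⟩ := h
  have h7' : 7 ∣ Nat.card (centralizer ({e y} : Set Spor.Suz)) := by
    have hc := SuzFacts.map_centralizer e (zpowers y)
    rw [MonoidHom.map_zpowers, zpowers_eq_closure, zpowers_eq_closure, centralizer_closure,
      centralizer_closure] at hc
    rw [show centralizer ({e y} : Set Spor.Suz) = (centralizer ({y} : Set G)).map e.toMonoidHom from hc.symm,
      ← Nat.card_congr ((centralizer ({y} : Set G)).equivMapOfInjective e.toMonoidHom e.injective).toEquiv]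
    exact h7
  obtain ⟨c, hc⟩ := isConj_iff.mp (isConj_of_seven ((e.orderOf_eq y).trans hy) h7')
  let φ : Spor.Suz ≃* G := (MulAut.conj c).trans e.symm
  have hφ : (zpowers (SuzOut.gen 1)).map φ.toMonoidHom = zpowers y := by
    rw [MonoidHom.map_zpowers]
    congr 1
    show e.symm (c * SuzOut.gen 1 * c⁻¹) = y
    rw [hc, e.symm_apply_apply]
  exact local_core φ _ (by rw [map_equiv_normalizer_eq _ φ, hφ]) P

end Cfsg.Agent.SuzLocal
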