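import Cfsg.Agent.SuzOut.Model
import Cfsg.Agent.SuzLocal.Check
import Cfsg.Agent.SuzFacts.Cyclic

/-!
The subgroup of order 243: it is its own centraliser, and nothing inverts it.
-/

set_option autoImplicit false
set_option maxRecDepth 100000

namespace Cfsg.Agent.SuzLocal

open Cfsg Cfsg.Agent.Compute Cfsg.Agent.StemCert Cfsg.Agent.OutTab Subgroup
open Cfsg.Agent.SuzFacts (powHom)

/-- The letters. -/
noncomputable def gen3 (s : ℕ) : Spor.Suz := evalW SuzOut.gen (Data.letters.getD s [])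

theorem coded3 : Coded (w := 11) (k := Data.k) SuzOut.ι gen3 Data.codes :=
  LeechModel.coded_of_wordsB SuzOut.coded words_ok

theorem base3 : IsBase SuzOut.ι Data.base :=
  have := SuzOut.finite_suz
  isBase_of_card coded3 levels_ok.1 levels_ok.2.1 levels_ok.2.2.2.1 distinct_ok
    (levels_ok.2.2.1.trans SuzOut.card_suz.symm)

theorem lt_k {s : ℕ} (h : s < 7) : s < Data.k := by rw [levels_ok.2.2.2.2.1]; omega

theorem eq3 {a b : List ℕ} (ha : ∀ s ∈ a, s < Data.k) (hb : ∀ s ∈ b, s < Data.k)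
    (h : eqOn 11 Data.codes Data.base a b = true) : evalW gen3 a = evalW gen3 b :=
  eq_of_eqOn coded3 base3 ha hb h

theorem eqOn3 {a b : List ℕ} (ha : ∀ s ∈ a, s < Data.k) (hb : ∀ s ∈ b, s < Data.k)
    (h : evalW gen3 a = evalW gen3 b) : eqOn 11 Data.codes Data.base a b = true :=
  OutTab.eqOn_of_eq coded3 base3.1 ha hb h

theorem lt_app {a b : List ℕ} (ha : ∀ s ∈ a, s < Data.k) (hb : ∀ s ∈ b, s < Data.k) :
    ∀ s ∈ a ++ b, s < Data.k := fun s hs => (List.mem_append.mp hs).elim (ha s) (hb s)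

theorem lt_one {s : ℕ} (h : s < 7) : ∀ t ∈ [s], t < Data.k := fun _ ht => (List.mem_singleton.mp ht) ▸ lt_k h

theorem lt_rep {s : ℕ} (h : s < 7) (n : ℕ) : ∀ t ∈ List.replicate n s, t < Data.k := fun _ ht =>
  (List.eq_of_mem_replicate ht) ▸ lt_k h

theorem aWord_lt (j : ℕ) : ∀ s ∈ aWord j, s < Data.k :=
  lt_app (lt_rep (by norm_num) _) (lt_app (lt_rep (by norm_num) _) (lt_app (lt_rep (by norm_num) _)
    (lt_app (lt_rep (by norm_num) _) (lt_rep (by norm_num) _))))

theorem eval_one' {H : Type*} [Group H] (g : ℕ → H) (s : ℕ) : evalW g [s] = g s := by simp [evalW]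

theorem gen3_zero : gen3 0 = SuzOut.gen 1 := by
  rw [gen3, levels_ok.2.2.2.2.2, eval_one']

theorem gen_comm {i j : ℕ} (hi : i < 5) (hj : j < 5) : Commute (gen3 i) (gen3 j) := by
  have := eq3 (a := [i, j]) (b := [j, i])
    (lt_app (a := [i]) (b := [j]) (lt_one (by omega)) (lt_one (by omega)))
    (lt_app (a := [j]) (b := [i]) (lt_one (by omega)) (lt_one (by omega)))
    (abelian_ok.1 ⟨i, hi⟩ ⟨j, hj⟩)
  simp only [evalW, List.map_cons, List.map_nil, List.prod_cons, List.prod_nil, mul_one] at this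
  exact this

theorem gen_cube {i : ℕ} (hi : i < 5) : gen3 i ^ 3 = 1 := by
  have := eq3 (a := List.replicate 3 i) (b := []) (lt_rep (by omega) _) (by simp) (abelian_ok.2.1 ⟨i, hi⟩)
  rwa [evalW_replicate] at this

/-- The powers of a generator. -/
noncomputable def cubeHom (i : Fin 5) : Multiplicative (ZMod 3) →* Spor.Suz :=
  powHom (gen3 i.val) (gen_cube i.isLt)

/-- The domain. -/
abbrev V5 : Type :=
  Multiplicative (ZMod 3) × Multiplicative (ZMod 3) × Multiplicative (ZMod 3) ×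
    Multiplicative (ZMod 3) × Multiplicative (ZMod 3)

/-- The last two generators. -/
noncomputable def hom34 : Multiplicative (ZMod 3) × Multiplicative (ZMod 3) →* Spor.Suz :=
  MonoidHom.noncommCoprod (cubeHom 3) (cubeHom 4) fun _ _ =>
    (gen_comm (by norm_num) (by norm_num)).pow_pow _ _

/-- The last three generators. -/
noncomputable def hom234 :
    Multiplicative (ZMod 3) × Multiplicative (ZMod 3) × Multiplicative (ZMod 3) →* Spor.Suz :=
  MonoidHom.noncommCoprod (cubeHom 2) hom34 fun _ _ =>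
    ((gen_comm (by norm_num) (by norm_num)).pow_pow _ _).mul_right
      ((gen_comm (by norm_num) (by norm_num)).pow_pow _ _)

/-- The last four generators. -/
noncomputable def hom1234 : Multiplicative (ZMod 3) × Multiplicative (ZMod 3) ×
    Multiplicative (ZMod 3) × Multiplicative (ZMod 3) →* Spor.Suz :=
  MonoidHom.noncommCoprod (cubeHom 1) hom234 fun _ _ =>
    ((gen_comm (by norm_num) (by norm_num)).pow_pow _ _).mul_right
      (((gen_comm (by norm_num) (by norm_num)).pow_pow _ _).mul_right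
        ((gen_comm (by norm_num) (by norm_num)).pow_pow _ _))

/-- The five generators. -/
noncomputable def aHom : V5 →* Spor.Suz :=
  MonoidHom.noncommCoprod (cubeHom 0) hom1234 fun _ _ =>
    ((gen_comm (by norm_num) (by norm_num)).pow_pow _ _).mul_right
      (((gen_comm (by norm_num) (by norm_num)).pow_pow _ _).mul_right
        (((gen_comm (by norm_num) (by norm_num)).pow_pow _ _).mul_right
          ((gen_comm (by norm_num) (by norm_num)).pow_pow _ _)))

/-- The subgroup of order 243. -/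
noncomputable def A0 : Subgroup Spor.Suz := aHom.range

/-- The coordinates of a number. -/
def tup (j : ℕ) : V5 :=
  (Multiplicative.ofAdd ((j : ℕ) : ZMod 3), Multiplicative.ofAdd ((j / 3 : ℕ) : ZMod 3),
    Multiplicative.ofAdd ((j / 9 : ℕ) : ZMod 3), Multiplicative.ofAdd ((j / 27 : ℕ) : ZMod 3),
    Multiplicative.ofAdd ((j / 81 : ℕ) : ZMod 3))

/-- The element of a number. -/
noncomputable def aEl (j : ℕ) : Spor.Suz := evalW gen3 (aWord j)

theorem aEl_eq (j : ℕ) : aEl j = aHom (tup j) := by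
  simp only [aEl, aWord, evalW_append, evalW_replicate]
  simp only [aHom, hom1234, hom234, hom34, cubeHom, tup, MonoidHom.noncommCoprod_apply,
    SuzFacts.powHom_apply, toAdd_ofAdd, ZMod.val_natCast]
  rfl

theorem digits {a b c d e : ℕ} (ha : a < 3) (hb : b < 3) (hc : c < 3) (hd : d < 3) (he : e < 3) :
    (a + 3 * b + 9 * c + 27 * d + 81 * e) % 3 = a ∧
      (a + 3 * b + 9 * c + 27 * d + 81 * e) / 3 % 3 = b ∧
      (a + 3 * b + 9 * c + 27 * d + 81 * e) / 9 % 3 = c ∧
      (a + 3 * b + 9 * c + 27 * d + 81 * e) / 27 % 3 = d ∧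
      (a + 3 * b + 9 * c + 27 * d + 81 * e) / 81 % 3 = e := by
  refine ⟨?_, ?_, ?_, ?_, ?_⟩ <;> omega

theorem expand {i : ℕ} (hi : i < 243) :
    i % 3 + 3 * (i / 3 % 3) + 9 * (i / 9 % 3) + 27 * (i / 27 % 3) + 81 * (i / 81 % 3) = i := by
  omega

theorem aEl_add (i j : ℕ) : aEl (addC i j) = aEl i * aEl j := by
  rw [aEl_eq, aEl_eq, aEl_eq, ← map_mul]
  congr 1
  obtain ⟨h0, h1, h2, h3, h4⟩ := digits (Nat.mod_lt (i + j) (by norm_num : 3 > 0))
    (Nat.mod_lt (i / 3 + j / 3) (by norm_num : 3 > 0)) (Nat.mod_lt (i / 9 + j / 9) (by norm_num : 3 > 0))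
    (Nat.mod_lt (i / 27 + j / 27) (by norm_num : 3 > 0)) (Nat.mod_lt (i / 81 + j / 81) (by norm_num : 3 > 0))
  simp only [tup, Prod.mk_mul_mk, ← ofAdd_add, ← Nat.cast_add, Prod.mk.injEq,
    EmbeddingLike.apply_eq_iff_eq, ZMod.natCast_eq_natCast_iff']
  exact ⟨h0, h1, h2, h3, h4⟩

theorem aEl_mulC (d x : ℕ) (hd : d < 3) : aEl (mulC d x) = aEl x ^ d := by
  interval_cases d
  · show aEl 0 = _
    simp [aEl, aWord, evalW]
  · simp [mulC]
  · show aEl (addC x x) = _
    rw [aEl_add, sq]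

theorem tup_surj (v : V5) : ∃ j < 243, tup j = v := by
  obtain ⟨a, b, c, d, e⟩ := v
  have ha := ZMod.val_lt (Multiplicative.toAdd a)
  have hb := ZMod.val_lt (Multiplicative.toAdd b)
  have hc := ZMod.val_lt (Multiplicative.toAdd c)
  have hd := ZMod.val_lt (Multiplicative.toAdd d)
  have he := ZMod.val_lt (Multiplicative.toAdd e)
  refine ⟨(Multiplicative.toAdd a).val + 3 * (Multiplicative.toAdd b).val +
    9 * (Multiplicative.toAdd c).val + 27 * (Multiplicative.toAdd d).val +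
    81 * (Multiplicative.toAdd e).val, by omega, ?_⟩
  have key : ∀ (x : Multiplicative (ZMod 3)) (n : ℕ), n % 3 = (Multiplicative.toAdd x).val →
      Multiplicative.ofAdd ((n : ℕ) : ZMod 3) = x := fun x n h => by
    rw [← ZMod.natCast_mod, h, ZMod.natCast_zmod_val, ofAdd_toAdd]
  simp only [tup, Prod.mk.injEq]
  exact ⟨key _ _ (by omega), key _ _ (by omega), key _ _ (by omega), key _ _ (by omega), key _ _ (by omega)⟩

theorem mem_A0 {g : Spor.Suz} : g ∈ A0 ↔ ∃ j < 243, g = aEl j := by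
  constructor
  · rintro ⟨v, rfl⟩
    obtain ⟨j, hj, rfl⟩ := tup_surj v
    exact ⟨j, hj, (aEl_eq j).symm⟩
  · rintro ⟨j, -, rfl⟩
    exact ⟨tup j, (aEl_eq j).symm⟩

theorem aEl_mem (j : ℕ) : aEl j ∈ A0 := ⟨tup j, (aEl_eq j).symm⟩

theorem gen_eq_aEl {i : ℕ} (hi : i < 5) : gen3 i = aEl (3 ^ i) := by
  interval_cases i <;> simp [aEl, aWord, evalW]

theorem gen_mem {i : ℕ} (hi : i < 5) : gen3 i ∈ A0 := gen_eq_aEl hi ▸ aEl_mem _

theorem A0_comm {a b : Spor.Suz} (ha : a ∈ A0) (hb : b ∈ A0) : a * b = b * a := by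
  obtain ⟨x, rfl⟩ := ha
  obtain ⟨y, rfl⟩ := hb
  rw [← map_mul, mul_comm, map_mul]

theorem aHom_injective : Function.Injective aHom := by
  rw [injective_iff_map_eq_one]
  intro v hv
  obtain ⟨j, hj, rfl⟩ := tup_surj v
  have h := allBelow_eq_true.mp abelian_ok.2.2 j hj
  rw [eqOn3 (b := []) (aWord_lt j) (by simp) ((aEl_eq j).trans hv), Bool.not_true, Bool.or_false] at h
  rw [Nat.eq_of_beq_eq_true h]
  rfl

theorem card_A0 : Nat.card A0 = 243 := by
  show Nat.card aHom.range = 243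
  rw [← Nat.card_congr (MonoidHom.ofInjective aHom_injective).toEquiv]
  simp [V5]

theorem A0_cube {a : Spor.Suz} (ha : a ∈ A0) : a ^ 3 = 1 := by
  obtain ⟨v, rfl⟩ := ha
  rw [← map_pow, show v ^ 3 = 1 from ?_, map_one]
  have key : ∀ x : Multiplicative (ZMod 3), x ^ 3 = 1 := by decide
  obtain ⟨a, b, c, d, e⟩ := v
  simp only [Prod.pow_mk, key]
  rfl

theorem tup_inj {i j : ℕ} (hi : i < 243) (hj : j < 243) (h : tup i = tup j) : i = j := by
  simp only [tup, Prod.mk.injEq, EmbeddingLike.apply_eq_iff_eq, ZMod.natCast_eq_natCast_iff'] at h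
  obtain ⟨h0, h1, h2, h3, h4⟩ := h
  rw [← expand hi, ← expand hj, h0, h1, h2, h3, h4]

theorem aEl_inj {i j : ℕ} (hi : i < 243) (hj : j < 243) (h : aEl i = aEl j) : i = j :=
  tup_inj hi hj (aHom_injective (by rw [← aEl_eq, ← aEl_eq, h]))

theorem fix_of_comm {g : Spor.Suz} {i : ℕ} (hi : i < 5) {e : ℕ} {x : Fin 1782}
    (hg : g * gen3 i * g⁻¹ = gen3 i ^ e) (hx : SuzOut.ι (gen3 i) x = x) (he : e = 1 ∨ e = 2) :
    SuzOut.ι (gen3 i) (SuzOut.ι g x) = SuzOut.ι g x := by
  have h : SuzOut.ι (gen3 i ^ e) (SuzOut.ι g x) = SuzOut.ι g x := by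
    rw [← Equiv.Perm.mul_apply, ← map_mul, ← mul_inv_eq_iff_eq_mul.mp hg, map_mul, Equiv.Perm.mul_apply, hx]
  rcases he with rfl | rfl
  · rwa [pow_one] at h
  · have h2 : SuzOut.ι ((gen3 i ^ 2) ^ 2) (SuzOut.ι g x) = SuzOut.ι g x := by
      rw [sq (gen3 i ^ 2), map_mul, Equiv.Perm.mul_apply, h, h]
    rwa [← pow_mul, show (2 * 2 : ℕ) = 3 + 1 from rfl, pow_succ, gen_cube hi, one_mul] at h2

theorem fixed_mem {i : ℕ} (hi : i < 7) {fx : List ℕ}
    (hfx : fixListB 1782 11 Data.codes i fx = true) {x : Fin 1782}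
    (hx : SuzOut.ι (gen3 i) x = x) : x.val ∈ fx := by
  have h := allBelow_eq_true.mp (show (allBelow 1782 fun p =>
      !(Nat.beq (getField 11 (Data.codes.getD i 0) p) p) || memB p fx) = true by
    rwa [fixListB, forceN_eq] at hfx) x x.isLt
  simp only [Bool.or_eq_true, Bool.not_eq_true'] at h
  rcases h with h | h
  · rw [show Nat.beq (getField 11 (Data.codes.getD i 0) x) x = true from
      Nat.beq_eq.mpr (by rw [← coded3 i (lt_k hi) x]; exact congrArg Fin.val hx)] at h
    exact Bool.noConfusion h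
  · exact memB_eq_true.mp h

theorem app_eq (u : List ℕ) (hu : ∀ s ∈ u, s < Data.k) {x : ℕ} (hx : x < 1782) :
    (SuzOut.ι (evalW gen3 u) ⟨x, hx⟩ : ℕ) = appW 11 Data.codes u x := appW_spec coded3 u hu ⟨x, hx⟩

theorem app_rep {i e : ℕ} (hi : i < 7) (x : Fin 1782) :
    (SuzOut.ι (gen3 i ^ e) x : ℕ) = appW 11 Data.codes (List.replicate e i) x := by
  rw [← evalW_replicate, appW_spec coded3 _ (lt_rep hi e)]

/-- An element acting as a scalar on the subgroup is in it. -/
theorem mem_of_scalar {g : Spor.Suz} {e : ℕ} (he : e = 1 ∨ e = 2)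
    (hg : ∀ i < 5, g * gen3 i * g⁻¹ = gen3 i ^ e) : g ∈ A0 := by
  have := SuzOut.finite_suz
  obtain ⟨hbase, hf0, hf1, hb0, hb1, hl0, hl1, hred⟩ := points_ok
  set p := Data.base.getD 0 0 with hpdef
  set q := Data.base.getD 2 0 with hqdef
  have hlen : Data.base.length = 5 := by rw [hbase]; rfl
  have hp : p < 1782 := levels_ok.2.2.2.1 p (by
    rw [hpdef, List.getD_eq_getElem _ _ (by omega)]; exact List.getElem_mem _)
  have hq : q < 1782 := levels_ok.2.2.2.1 q (by
    rw [hqdef, List.getD_eq_getElem _ _ (by omega)]; exact List.getElem_mem _)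
  have h0p : SuzOut.ι (gen3 0) ⟨p, hp⟩ = ⟨p, hp⟩ := Fin.ext (by
    rw [← eval_one' gen3 0, app_eq [0] (lt_one (by norm_num)) hp]; exact hb0)
  have h1q : SuzOut.ι (gen3 1) ⟨q, hq⟩ = ⟨q, hq⟩ := Fin.ext (by
    rw [← eval_one' gen3 1, app_eq [1] (lt_one (by norm_num)) hq]; exact hb1)
  have ha := fixed_mem (by norm_num) hf0 (fix_of_comm (by norm_num) (hg 0 (by norm_num)) h0p he)
  obtain ⟨r, hr, hre⟩ := List.mem_iff_getElem.mp ha
  have hv := allBelow_eq_true.mp hred r (hl0 ▸ hr)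
  simp only [redB, forceN_eq, Bool.and_eq_true, Nat.blt_eq] at hv
  obtain ⟨hv2, hve⟩ := hv
  set j := Nat.mod (Data.red.get 0 r) 243
  set ai := Nat.div (Data.red.get 0 r) 243
  have hve' : appW 11 Data.codes (aWord j) (Data.starts.getD ai 0) =
      (SuzOut.ι g ⟨p, hp⟩ : ℕ) := by
    rw [Nat.eq_of_beq_eq_true hve, List.getD_eq_getElem _ _ hr, hre]
  suffices hmem : (aEl j)⁻¹ * g ∈ A0 by simpa using mul_mem (aEl_mem j) hmem
  set h := (aEl j)⁻¹ * g
  have hh : ∀ i < 5, h * gen3 i * h⁻¹ = gen3 i ^ e := fun i hi => by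
    have hc : Commute (aEl j)⁻¹ (gen3 i ^ e) :=
      (Commute.pow_right (A0_comm (aEl_mem j) (gen_mem hi)) e).inv_left
    calc h * gen3 i * h⁻¹ = (aEl j)⁻¹ * (g * gen3 i * g⁻¹) * aEl j := by simp only [h]; group
      _ = gen3 i ^ e * (aEl j)⁻¹ * aEl j := by rw [hg i hi, hc.eq]
      _ = _ := by rw [inv_mul_cancel_right]
  have hst : Data.starts.getD ai 0 < 1782 := by
    have : ∀ a : Fin 2, Data.starts.getD a.val 0 < 1782 := by decide +kernel
    exact this ⟨ai, hv2⟩
  have hhp : SuzOut.ι h ⟨p, hp⟩ = ⟨Data.starts.getD ai 0, hst⟩ := by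
    have e1 : SuzOut.ι (aEl j) ⟨Data.starts.getD ai 0, hst⟩ = SuzOut.ι g ⟨p, hp⟩ := Fin.ext (by
      rw [aEl, app_eq _ (aWord_lt j) hst, hve'])
    show SuzOut.ι ((aEl j)⁻¹ * g) ⟨p, hp⟩ = _
    rw [map_mul, Equiv.Perm.mul_apply, ← e1, map_inv, Equiv.Perm.inv_def, Equiv.symm_apply_apply]
  have hc := fixed_mem (by norm_num) hf1 (fix_of_comm (by norm_num) (hh 1 (by norm_num)) h1q he)
  obtain ⟨ci, hci, hcie⟩ := List.mem_iff_getElem.mp hc
  rw [hl1] at hci
  set i := (e - 1) * 324 + ai * 162 + ci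
  have hi : i < 648 := by rcases he with rfl | rfl <;> omega
  have hexp : candExp i = e := by rcases he with rfl | rfl <;> (unfold candExp; omega)
  have htg : candTgt i = target e (Data.starts.getD ai 0) (SuzOut.ι h ⟨q, hq⟩ : ℕ) := by
    rw [candTgt, hexp, show i / 162 % 2 = ai by rcases he with rfl | rfl <;> omega,
      show i % 162 = ci by rcases he with rfl | rfl <;> omega,
      List.getD_eq_getElem Data.fx1 0 (show ci < Data.fx1.length by omega), hcie]
  have hmove : ∀ l < 5, ∀ x : Fin 1782, SuzOut.ι h (SuzOut.ι (gen3 l) x) = SuzOut.ι (gen3 l ^ e) (SuzOut.ι h x) := by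
    intro l hl x
    rw [← Equiv.Perm.mul_apply, ← map_mul, mul_inv_eq_iff_eq_mul.mp (hh l hl), map_mul, Equiv.Perm.mul_apply]
  have himg : ∀ r < Data.base.length, ∀ x : Fin 1782, (x : ℕ) = Data.base.getD r 0 →
      (SuzOut.ι h x : ℕ) = (candTgt i).getD r 0 := by
    intro r hr x hx
    rw [hlen] at hr
    rw [htg]
    have hbx : (x : ℕ) = (target 1 p q).getD r 0 := by rw [hx, ← hbase]
    have hmain : ∀ l < 5, ∀ (o : ℕ) (ho : o < 1782), (x : ℕ) = appW 11 Data.codes (List.replicate 1 l) o →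
        (SuzOut.ι h x : ℕ) = appW 11 Data.codes (List.replicate e l) (SuzOut.ι h ⟨o, ho⟩ : ℕ) := by
      intro l hl o ho hxo
      have hx' : x = SuzOut.ι (gen3 l) ⟨o, ho⟩ := Fin.ext (by
        rw [hxo, ← eval_one' gen3 l, app_eq [l] (lt_one (by omega)) ho]; rfl)
      rw [hx', hmove l hl, app_rep (by omega)]
    interval_cases r
    · rw [show x = ⟨p, hp⟩ from Fin.ext hbx, hhp]
      rfl
    · rw [hmain 1 (by norm_num) p hp hbx, hhp]
      rfl
    · rw [show x = ⟨q, hq⟩ from Fin.ext hbx]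
      rfl
    · rw [hmain 0 (by norm_num) q hq hbx]
      rfl
    · rw [hmain 2 (by norm_num) p hp hbx, hhp]
      rfl
  have hk := allBelow_eq_true.mp cand_ok i hi
  rw [candB, forceN_eq, forceL_eq] at hk
  cases hW : Nat.beq (Nat.mod (Data.cand.get 0 i) 2) 1
  · rw [hW, cond_false, forceN_eq] at hk
    set v := Nat.div (Data.cand.get 0 i) 2
    have same : ∀ u : List ℕ, (∀ s ∈ u, s < Data.k) → hasImagesB u (candTgt i) = true →
        evalW gen3 u = h := by
      intro u hu hu'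
      refine inv_mul_eq_one.mp (base3.2 _ fun x hx => ?_)
      obtain ⟨r, hr, hre'⟩ := List.mem_iff_getElem.mp hx
      have hx' : (x : ℕ) = Data.base.getD r 0 := by rw [List.getD_eq_getElem _ _ hr, hre']
      have e2 : SuzOut.ι (evalW gen3 u) x = SuzOut.ι h x := Fin.ext (by
        rw [himg r hr x hx', appW_spec coded3 u hu, hx']
        exact Nat.eq_of_beq_eq_true (allBelow_eq_true.mp hu' r (hlen ▸ hr)))
      rw [map_mul, map_inv, Equiv.Perm.mul_apply, ← e2, Equiv.Perm.inv_def, Equiv.symm_apply_apply]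
    cases hv : Nat.blt v 243
    · rw [hv, cond_false, forceL_eq, forceL_eq, forceN_eq, Bool.and_eq_true, Bool.and_eq_true,
        Bool.and_eq_true, Nat.blt_eq] at hk
      obtain ⟨⟨⟨hl, hu⟩, him⟩, hne⟩ := hk
      set wu := Data.wits.get [] (Nat.sub v 243)
      have hu' : ∀ s ∈ wu.tail, s < Data.k := fun s hs => Nat.blt_eq.mp (allB_spec hu s hs)
      exfalso
      rw [eqOn3 (lt_app hu' (lt_one (by omega))) (lt_app (lt_rep (by omega) _) hu')
        (by rw [evalW_append, evalW_append, evalW_replicate, eval_one', hexp, same _ hu' him]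
            exact mul_inv_eq_iff_eq_mul.mp (hh _ hl))] at hne
      exact Bool.noConfusion hne
    · rw [hv, cond_true] at hk
      exact same _ (aWord_lt v) hk ▸ aEl_mem v
  · rw [hW, cond_true] at hk
    exfalso
    let f : forms Data.levels → Spor.Suz := fun y => nf gen3 Lv.word Data.levels y.1
    have hbij : Function.Bijective f := (Nat.bijective_iff_injective_and_card f).mpr
      ⟨fun a b e' => Subtype.ext (nf_injective_of_check coded3 levels_ok.1 levels_ok.2.1 base3.1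
        distinct_ok _ _ (valid_of_mem_forms a.2) (valid_of_mem_forms b.2) e'),
        by simp [card_forms, levels_ok.2.2.1, SuzOut.card_suz]⟩
    obtain ⟨y, hy⟩ := hbij.2 h
    refine failB_ne coded3 base3 iv_ok levels_ok.1 levels_ok.2.1 base3.1 distinct_ok mask_ok (by rfl) hk
      y.1 (valid_of_mem_forms y.2) fun r hr x hx => ?_
    rw [show evalW gen3 [] = 1 from rfl, one_mul, show nf gen3 Lv.word Data.levels y.1 = h from hy]
    exact himg r hr x hx

theorem centralizer_A0 : centralizer (A0 : Set Spor.Suz) = A0 := by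
  refine le_antisymm (fun g hg => mem_of_scalar (Or.inl rfl) fun i hi => ?_) fun a ha b hb => A0_comm hb ha
  rw [pow_one, ← hg (gen3 i) (gen_mem hi), mul_inv_cancel_right]

end Cfsg.Agent.SuzLocal
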